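import Cfsg.Agent.Tech.CentralizerFocal
import Cfsg.Agent.FusionAlperin.DirectFactor
import Cfsg.Agent.FusionSub.PIndex
import Cfsg.Agent.FusionSub.PPowerExists
import Cfsg.Agent.FusionSys.Focal

/-!
For a strongly closed `Y ≤ C_S(T)` containing the focal subgroup of `C_F(T)`, the subsystem of
`p`-power index of `C_F(T)` over `Y` is normal in `F`.
-/

set_option autoImplicit false

open Cfsg Cfsg.FusionSystem
open Cfsg.Agent.FusionSys Cfsg.Agent.FusionAlperin

namespace Cfsg.Agent.Tech.CentSubsystem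

universe u

variable {Ω : Type u} [Group Ω] {S T Y : Subgroup Ω} {p : ℕ} [Finite S] [Fact p.Prime]
  {F : FusionSystem S}

omit [Finite S] [Fact p.Prime] in
theorem le_centralizer_of_le {P : Subgroup Ω} (hTS : T ≤ S) (hP : P ≤ centralizerIn S T) :
    T ≤ centralizerIn S P := fun t ht =>
  ⟨hTS ht, Subgroup.mem_centralizer_iff.2 fun x hx =>
    (Subgroup.mem_centralizer_iff.1 (hP hx).2 t ht).symm⟩

omit [Fact p.Prime] in
theorem fullyNormalized_of_stronglyClosed (hT : F.StronglyClosed T) : F.IsFullyNormalized T := by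
  refine ⟨hT.1, fun Q hQ => le_of_eq ?_⟩
  obtain ⟨φ, hφ, rfl⟩ := hQ
  haveI : Finite T := finite_of_le ‹_› hT.1
  rw [range_eq_of_image_le (F.injective_of_mem hφ)
    (by rintro _ ⟨x, rfl⟩; exact sc_map_mem hT hφ x.2) le_rfl]

omit [Fact p.Prime] in
/-- The automorphisms of `Y` of `F` permute the maps of `C_F(T)`. -/
theorem autCongr_mem_cent (hF : F.IsSaturated p) (hT : F.StronglyClosed T)
    {C : FusionSystem (centralizerIn S T)} (hC : F.IsCentralizerSystem T C)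
    {R R' : Subgroup Ω} (hR : R ≤ centralizerIn S T) (hR' : R' ≤ centralizerIn S T)
    {e : R ≃* R'} (he : IsIso F e) {a : MulAut R} (ha : a ∈ C.autGroup R) :
    MulAut.congr e a ∈ C.autGroup R' := by
  have hTS := hT.1
  have hr : (R'.subtype.comp e.toMonoidHom).range = R' := range_subtype_comp e
  obtain ⟨ψ, hψ, hψe⟩ := exists_ext_sup hF hT he (le_centralizer_of_le hTS hR)
    (le_centralizer_of_le hTS (hr.le.trans hR'))
  have hψr : ψ.range = R' ⊔ T := by rw [range_sup_eq_sc hT hψ hψe, hr]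
  obtain ⟨E, hE, hEv⟩ : ∃ E : ↥(R ⊔ T) ≃* ↥(R' ⊔ T), IsIso F E ∧ ∀ y, (E y : Ω) = ψ y :=
    ⟨toIso F hψ hψr, toIso_isIso F _ _, fun _ => rfl⟩
  have ha' := autGroup_mem_hom C hR ha
  rw [hC R] at ha'
  obtain ⟨haF, -, -, θ, hθ, hθR, hθT⟩ := ha'
  have hθv : ∀ y, θ y ∈ R ⊔ T := fun y => range_le_sup_of_le θ
    (fun x hx => Subgroup.mem_sup_left ((hθR ⟨x, hx⟩).symm ▸ (a ⟨x, hx⟩).2))
    (fun x hx => Subgroup.mem_sup_right ((hθT ⟨x, hx⟩).symm ▸ hx)) ⟨y, rfl⟩
  have h1 := F.comp_mem hE.symm hθ fun y => (E.symm y).2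
  have h2 := F.comp_mem h1 hψ fun y => hθv _
  have haut : MulAut.congr e a ∈ F.autGroup R' :=
    autCongr_mem F he ((mem_autGroup F (hR.trans (centralizerIn_le T))).2 haF)
  refine (mem_autGroup_iff_hom C hR').2 ?_
  rw [hC R']
  refine ⟨autGroup_mem_hom F (hR'.trans (centralizerIn_le T)) haut, hR', fun x => hR' (Subtype.mem _),
    _, h2, fun y => ?_, fun t => ?_⟩
  · obtain ⟨x, rfl⟩ := e.surjective y
    have e1 : E.symm (Subgroup.inclusion le_sup_left (e x)) = Subgroup.inclusion le_sup_left x := by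
      rw [MulEquiv.symm_apply_eq]
      exact Subtype.ext ((hEv _).trans (hψe x)).symm
    show ψ ⟨θ ⟨(E.symm (Subgroup.inclusion le_sup_left (e x)) : _), _⟩, _⟩ = _
    refine Eq.trans (congrArg ψ (Subtype.ext (a2 := ⟨(a x : Ω), Subgroup.mem_sup_left (a x).2⟩) ?_))
      ?_
    · exact (congrArg θ (Subtype.ext (congrArg Subtype.val e1))).trans (hθR x)
    · show ψ ⟨(a x : Ω), _⟩ = ((MulAut.congr e a (e x) : R') : Ω)
      rw [autCongr_apply, MulEquiv.symm_apply_apply, hψe]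
      rfl
  · obtain ⟨w, hw⟩ := E.surjective (Subgroup.inclusion le_sup_right t)
    have hwt : ψ w = t := by rw [← hEv, hw]; rfl
    have hwT : (w : Ω) ∈ T := (sc_map_mem_iff hT hψ w).1 (hwt.symm ▸ t.2)
    have e1 : E.symm (Subgroup.inclusion le_sup_right t) = w := by
      rw [← hw, MulEquiv.symm_apply_apply]
    show ψ ⟨θ ⟨(E.symm (Subgroup.inclusion le_sup_right t) : _), _⟩, _⟩ = _
    refine Eq.trans (congrArg ψ (Subtype.ext ?_)) hwt
    exact (congrArg θ (Subtype.ext (congrArg Subtype.val e1))).trans (hθT ⟨w, hwT⟩)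

/-- Automorphisms of `Y` in `F` preserve a subsystem of `p`-power index of `C_F(T)` over `Y`. -/
theorem invariant_of_pPowerIndex (hS : IsPGroup p S) (hF : F.IsSaturated p)
    (hT : F.StronglyClosed T) (hY : Y ≤ centralizerIn S T)
    {C : FusionSystem (centralizerIn S T)} (hC : F.IsCentralizerSystem T C) {D : FusionSystem Y}
    (hD : D.IsSaturated p) (hDC : D.HasPPowerIndexIn C p) {β : MulAut Y} (hβ : β ∈ F.autGroup Y)
    {P : Subgroup Ω} {φ : P →* Ω} (hφ : φ ∈ D.Hom P) :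
    ∃ χ ∈ D.Hom (autImage β P), ∀ (x : P) (h : autExt β x ∈ autImage β P),
      χ ⟨autExt β x, h⟩ = autExt β (φ x) := by
  have hYS : Y ≤ S := hY.trans (centralizerIn_le T)
  haveI : Finite Y := finite_of_le ‹_› hYS
  have hβh : ∀ {x y : Ω}, x ∈ Y → y ∈ Y → autExt β (x * y) = autExt β x * autExt β y := by
    intro x y hx hy
    rw [autExt_of_mem β hx, autExt_of_mem β hy, autExt_of_mem β (Y.mul_mem hx hy),
      ← Subgroup.coe_mul, ← map_mul]
    rfl
  have hβi : ∀ {x : Ω}, x ∈ Y → autExt β x⁻¹ = (autExt β x)⁻¹ := by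
    intro x hx
    rw [autExt_of_mem β hx, autExt_of_mem β (Y.inv_mem hx), ← Subgroup.coe_inv, ← map_inv]
    rfl
  let D' : FusionSystem Y := subSystem D
    (fun P φ => ∃ χ ∈ D.Hom (autImage β P), ∀ (x : P) (h : autExt β x ∈ autImage β P),
      χ ⟨autExt β x, h⟩ = autExt β (φ x))
    (fun {P g} hP hg => by
      refine ⟨conjHom (autImage β P) (autExt β g), D.conj_mem (autImage_le β P)
        (by rw [autExt_of_mem β hg]; exact (β ⟨g, hg⟩).2), fun x h => ?_⟩
      show _ = autExt β (g * (x : Ω) * g⁻¹)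
      rw [hβh (Y.mul_mem hg (hP x.2)) (Y.inv_mem hg), hβh hg (hP x.2), hβi hg]
      rfl)
    (fun {P Q φ ψ} hφ _ ⟨a, ha, hae⟩ ⟨b, hb, hbe⟩ h => by
      have hm : ∀ y, a y ∈ autImage β Q := by
        intro y
        obtain ⟨x, hx, hxT, hxy⟩ := exists_autExt_eq β y
        have hy : y = ⟨autExt β (⟨x, hx⟩ : P), autExt_mem_autImage β (le_S D hφ) hx⟩ :=
          Subtype.ext hxy.symm
        rw [hy, hae]
        exact autExt_mem_autImage β (le_S D ‹_›) (h _)
      refine ⟨_, D.comp_mem ha hb hm, fun x hx => ?_⟩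
      refine Eq.trans ?_ (hbe ⟨φ x, h x⟩ (autExt_mem_autImage β (le_S D ‹_›) (h x)))
      exact congrArg b (Subtype.ext (hae x hx)))
    (fun {P φ} hφ ⟨a, ha, hae⟩ ψ hψ he => by
      obtain ⟨c, hc, hce⟩ := D.inv_mem ha
      have hle : autImage β φ.range ≤ a.range := by
        intro y hy
        obtain ⟨z, ⟨x, hxz⟩, hzT, hzy⟩ := exists_autExt_eq β ⟨y, hy⟩
        refine ⟨⟨_, autExt_mem_autImage β (le_S D hφ) x.2⟩, ?_⟩
        rw [hae, hxz]
        exact hzy
      refine ⟨_, restr_mem D hle hc, fun y hy => ?_⟩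
      obtain ⟨x, hx⟩ := y.2
      have hy' : y = ⟨φ x, x, rfl⟩ := Subtype.ext hx.symm
      subst hy'
      rw [he x]
      refine Eq.trans ?_ (hce ⟨_, autExt_mem_autImage β (le_S D hφ) x.2⟩)
      exact congrArg c (Subtype.ext (hae x (autExt_mem_autImage β (le_S D hφ) x.2)).symm))
  have hle : D.IsSubsystemOf D' := by
    refine FusionSub.le_of_pResidual_le (hS.to_le hYS) hD D' le_rfl fun R hR => ?_
    refine le_trans (FusionSub.map_pResidual_mono hDC.1 R) ?_
    rw [Subgroup.map_le_iff_le_comap, pResidual, Subgroup.closure_le]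
    intro a ha
    have haD : (a : MulAut R) ∈ D.autGroup R :=
      hDC.2.2 R hR ⟨a, Subgroup.subset_closure ha, rfl⟩
    refine (mem_autGroup D' hR).2 ⟨autGroup_mem_hom D hR haD, ?_⟩
    have hψ := restr_mem F hR (autGroup_mem_hom F hYS hβ)
    have hr : (restr hR (Y.subtype.comp β.toMonoidHom)).range = autImage β R := range_restr hR _
    obtain ⟨e, he, hev⟩ : ∃ e : R ≃* autImage β R, IsIso F e ∧
        ∀ x : R, (e x : Ω) = autExt β x :=
      ⟨toIso F hψ hr, toIso_isIso F hψ hr, fun x => (autExt_of_mem β (hR x.2)).symm⟩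
    have h1 := autCongr_mem_cent hF hT hC (hR.trans hY) ((autImage_le β R).trans hY) he a.2
    have h2 : MulAut.congr e (a : MulAut R) ∈ D.autGroup (autImage β R) := by
      refine hDC.2.2 _ (autImage_le β R) ⟨⟨_, h1⟩, Subgroup.subset_closure ?_, rfl⟩
      show (orderOf (⟨_, h1⟩ : C.autGroup (autImage β R))).Coprime p
      rw [Subgroup.orderOf_mk, MulEquiv.orderOf_eq, Subgroup.orderOf_coe]
      exact ha
    refine ⟨_, autGroup_mem_hom D (autImage_le β R) h2, fun x h => ?_⟩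
    have hx : (⟨autExt β x, h⟩ : autImage β R) = e x := Subtype.ext (hev x).symm
    show ((MulAut.congr e (a : MulAut R) ⟨autExt β x, h⟩ : autImage β R) : Ω) =
      autExt β ((a : MulAut R) x : Ω)
    rw [hx, autCongr_apply, MulEquiv.symm_apply_apply, hev]
  exact (hle P hφ).2

/-- Every map of `F` on a subgroup of `Y` is an automorphism of `Y` composed with a map of `D`. -/
theorem frattini_of_pPowerIndex (hS : IsPGroup p S) (hF : F.IsSaturated p)
    (hT : F.StronglyClosed T) (hY : Y ≤ centralizerIn S T) (hYsc : F.StronglyClosed Y)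
    {C : FusionSystem (centralizerIn S T)} (hC : F.IsCentralizerSystem T C)
    (hCs : C.IsSaturated p) {D : FusionSystem Y} (hD : D.IsSaturated p)
    (hDC : D.HasPPowerIndexIn C p) {P : Subgroup Ω} (hP : P ≤ Y) {φ : P →* Ω}
    (hφ : φ ∈ F.Hom P) :
    ∃ α ∈ F.autGroup Y, ∃ φ₀ ∈ D.Hom P, ∀ x : P, φ x = autExt α (φ₀ x) := by
  have hTS := hT.1
  have hYS : Y ≤ S := hY.trans (centralizerIn_le T)
  haveI : Finite T := finite_of_le ‹_› hTS
  haveI : Finite Y := finite_of_le ‹_› hYS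
  have hφY : ∀ x, φ x ∈ Y := fun x => sc_map_mem hYsc hφ (hP x.2)
  have hφr : φ.range ≤ centralizerIn S T := by
    rintro _ ⟨x, rfl⟩
    exact hY (hφY x)
  obtain ⟨ψ, hψ, hψe⟩ := exists_ext_sup hF hT hφ (le_centralizer_of_le hTS (hP.trans hY))
    (le_centralizer_of_le hTS hφr)
  -- an automorphism of `T C_S(T)` agreeing with `ψ` on `T`
  have hψT := restr_mem F (le_sup_right : T ≤ P ⊔ T) hψ
  have hrT : (restr (le_sup_right : T ≤ P ⊔ T) ψ).range = T :=
    range_eq_of_image_le (F.injective_of_mem hψT)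
      (by rintro _ ⟨x, rfl⟩; exact sc_map_mem hT hψ (x := Subgroup.inclusion le_sup_right x) x.2)
      le_rfl
  obtain ⟨g, hg, hge, -, -⟩ := receptive_extend (saturated_fullyCentralized hS hF
    (saturated_fullyNormalized hS hF (fullyNormalized_of_stronglyClosed hT)).1) hψT hrT
  have hW : T ⊔ centralizerIn S T ≤ extender S T (restr le_sup_right ψ) :=
    sup_le (le_extender hTS fun x => map_mem_S F hψT x) (centralizerIn_le_extender _)
  have hgW := restr_mem F hW hg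
  have hWS : T ⊔ centralizerIn S T ≤ S := sup_le hTS (centralizerIn_le T)
  haveI : Finite ↥(T ⊔ centralizerIn S T) := finite_of_le ‹_› hWS
  have hgT : ∀ t : T, restr hW g ⟨t, Subgroup.mem_sup_left t.2⟩ =
      ψ ⟨t, Subgroup.mem_sup_right t.2⟩ := fun t => hge t
  have hgr : (restr hW g).range = T ⊔ centralizerIn S T := by
    refine range_eq_of_image_le (F.injective_of_mem hgW) (range_le_sup_of_le _
      (fun t ht => Subgroup.mem_sup_left (sc_map_mem hT hgW ht))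
      (fun c hc => Subgroup.mem_sup_right ⟨map_mem_S F hgW _,
        Subgroup.mem_centralizer_iff.2 fun t ht => ?_⟩)) le_rfl
    obtain ⟨t', ht'⟩ := hrT.ge ht
    have e1 : restr hW g ⟨t', Subgroup.mem_sup_left t'.2⟩ = t := (hgT t').trans ht'
    rw [← e1, ← map_mul, ← map_mul]
    exact congrArg _ (Subtype.ext (Subgroup.mem_centralizer_iff.1 hc.2 t' t'.2))
  obtain ⟨G, hG, hGv⟩ : ∃ G : MulAut ↥(T ⊔ centralizerIn S T),
      IsIso F (G : _ ≃* _) ∧ ∀ y, (G y : Ω) = restr hW g y :=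
    ⟨toIso F hgW hgr, toIso_isIso F _ _, fun _ => rfl⟩
  -- the correcting map lies in `C_F(T)`
  have hψW : ∀ y, ψ y ∈ T ⊔ centralizerIn S T := fun y => range_le_sup_of_le ψ
    (fun x hx => Subgroup.mem_sup_right ((hψe ⟨x, hx⟩).symm ▸ hφr ⟨_, rfl⟩))
    (fun x hx => Subgroup.mem_sup_left (sc_map_mem hT hψ hx)) ⟨y, rfl⟩
  have hGs := autGroup_mem_hom F hWS ((mem_autGroup F hWS).2 hG.symm)
  have hc := F.comp_mem hψ hGs hψW
  obtain ⟨c, hc, hcv⟩ : ∃ c ∈ F.Hom (P ⊔ T), ∀ y, c y = (G.symm ⟨ψ y, hψW y⟩ : _) :=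
    ⟨_, hc, fun _ => rfl⟩
  have hcT : ∀ t : T, c ⟨t, Subgroup.mem_sup_right t.2⟩ = t := fun t => by
    have e1 : G.symm ⟨ψ ⟨t, Subgroup.mem_sup_right t.2⟩, hψW _⟩ =
        ⟨t, Subgroup.mem_sup_left t.2⟩ := by
      rw [MulEquiv.symm_apply_eq]
      exact Subtype.ext ((hGv _).trans (hgT t)).symm
    rw [hcv, e1]
  have hcY : ∀ x : P, c ⟨x, Subgroup.mem_sup_left x.2⟩ ∈ Y := fun x =>
    sc_map_mem hYsc hc (hP x.2)
  have hcC : restr (le_sup_left : P ≤ P ⊔ T) c ∈ C.Hom P := by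
    rw [hC P]
    exact ⟨restr_mem F _ hc, hP.trans hY, fun x => hY (hcY x), c, hc, fun _ => rfl, hcT⟩
  haveI : Finite ↥(centralizerIn S T) := finite_of_le ‹_› (centralizerIn_le T)
  obtain ⟨s, hs, d, hd, hde⟩ := pPowerIndex_frattini (hS.to_le (centralizerIn_le T)) hCs hY hD hDC
    (fun g hg x hx => sc_conj_mem hYsc (centralizerIn_le T hg) hx) hP hcC
  -- the automorphism of `Y`
  have hsY := F.conj_mem hYS (centralizerIn_le T hs)
  have hv : ∀ y : Y, conjHom Y s y ∈ T ⊔ centralizerIn S T := fun y =>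
    Subgroup.mem_sup_right (hY (sc_conj_mem hYsc (centralizerIn_le T hs) y.2))
  have hA := F.comp_mem hsY hgW hv
  have hAr : ((restr hW g).comp ((conjHom Y s).codRestrict _ hv)).range = Y :=
    range_eq_of_image_le (F.injective_of_mem hA)
      (by rintro _ ⟨y, rfl⟩; exact sc_map_mem hYsc hA y.2) le_rfl
  refine ⟨toIso F hA hAr, toIso_mem_autGroup F hA hAr, d, hd, fun x => ?_⟩
  rw [autExt_of_mem _ (map_mem_S D hd x)]
  show φ x = restr hW g ⟨conjHom Y s ⟨d x, _⟩, hv _⟩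
  have e2 : (⟨conjHom Y s ⟨d x, map_mem_S D hd x⟩, hv _⟩ : ↥(T ⊔ centralizerIn S T)) =
      G.symm ⟨ψ ⟨x, Subgroup.mem_sup_left x.2⟩, hψW _⟩ := by
    refine Subtype.ext ?_
    rw [← hcv]
    exact (hde x).symm
  rw [e2, ← hGv, MulEquiv.apply_symm_apply]
  exact (hψe x).symm

/-- The automorphisms of `Y` in `D` extend to `Y C_S(Y)` trivially modulo `Y`. -/
theorem autGroup_le_goodLift (hS : IsPGroup p S) (hF : F.IsSaturated p)
    (hT : F.StronglyClosed T) (hY : Y ≤ centralizerIn S T) (hYsc : F.StronglyClosed Y)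
    {C : FusionSystem (centralizerIn S T)} (hC : F.IsCentralizerSystem T C)
    (hfoc : C.focalSubgroup ≤ Y) {D : FusionSystem Y} (hD : D.IsSaturated p)
    (hDC : D.IsSubsystemOf C) : D.autGroup Y ≤ goodLift F Y := by
  have hTS := hT.1
  have hYS : Y ≤ S := hY.trans (centralizerIn_le T)
  haveI : Finite Y := finite_of_le ‹_› hYS
  haveI : Finite T := finite_of_le ‹_› hTS
  have hVS : Y ⊔ centralizerIn S Y ≤ S := sup_le hYS (centralizerIn_le Y)
  haveI : Finite ↥(Y ⊔ centralizerIn S Y) := finite_of_le ‹_› hVS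
  refine (FusionSub.autGroup_le_of_fullyAutomized (saturated_fullyNormalized (hS.to_le hYS) hD
    (FusionAlperin.fullyNormalized_self D)).2).trans (sup_le ?_ ?_)
  swap
  · intro a ha
    obtain ⟨y, hy, hye⟩ := mem_autInducedBy.1 ha
    have hyV : y ∈ Y ⊔ centralizerIn S Y := Subgroup.mem_sup_left hy
    have hyN : y ∈ Subgroup.normalizer ((Y ⊔ centralizerIn S Y : Subgroup Ω) : Set Ω) :=
      Subgroup.le_normalizer hyV
    refine ⟨(Y ⊔ centralizerIn S Y).normalizerMonoidHom ⟨y, hyN⟩,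
      autInducedBy_le_autGroup F hVS (mem_autInducedBy.2 ⟨y, hYS hy, fun _ => rfl⟩),
      fun x => (hye x).symm, fun v => ?_⟩
    show (v : Ω)⁻¹ * (y * v * y⁻¹) ∈ Y
    have h1 : (v : Ω)⁻¹ * y * v ∈ Y := by
      have := sc_conj_mem hYsc (S.inv_mem (hVS v.2)) hy
      simpa using this
    have h2 := Y.mul_mem h1 (Y.inv_mem hy)
    simpa [mul_assoc] using h2
  rw [Subgroup.map_le_iff_le_comap, pResidual, Subgroup.closure_le]
  intro a ha
  have hao : (orderOf (a : MulAut Y)).Coprime p := by rw [Subgroup.orderOf_coe]; exact ha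
  have haC := hDC Y (autGroup_mem_hom D le_rfl a.2)
  rw [hC Y] at haC
  obtain ⟨haF, -, -, θ, hθ, hθY, hθT⟩ := haC
  have hWS : Y ⊔ T ≤ S := sup_le hYS hTS
  haveI : Finite ↥(Y ⊔ T) := finite_of_le ‹_› hWS
  have hTC : T ≤ centralizerIn S Y := le_centralizer_of_le hTS hY
  have hθr : θ.range = Y ⊔ T := range_eq_of_image_le (F.injective_of_mem hθ)
    (range_le_sup_of_le θ (fun x hx => Subgroup.mem_sup_left (sc_map_mem hYsc hθ hx))
      (fun x hx => Subgroup.mem_sup_right ((hθT ⟨x, hx⟩).symm ▸ hx))) le_rfl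
  have hWn : F.IsFullyNormalized (Y ⊔ T) := by
    refine ⟨hWS, fun Q hQ => le_of_eq ?_⟩
    obtain ⟨φ, hφ, rfl⟩ := hQ
    rw [range_eq_of_image_le (F.injective_of_mem hφ)
      (range_le_sup_of_le φ (fun x hx => Subgroup.mem_sup_left (sc_map_mem hYsc hφ hx))
        (fun x hx => Subgroup.mem_sup_right (sc_map_mem hT hφ hx))) le_rfl]
  obtain ⟨η, hη, hηe, -, -⟩ := receptive_extend (saturated_fullyCentralized hS hF
    (saturated_fullyNormalized hS hF hWn).1) hθ hθr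
  have hV : Y ⊔ centralizerIn S Y ≤ extender S (Y ⊔ T) θ := by
    refine sup_le (le_sup_left.trans (le_extender hWS fun x => map_mem_S F hθ x)) fun x hx => ?_
    have hxN : x ∈ Subgroup.normalizer ((Y ⊔ T : Subgroup Ω) : Set Ω) :=
      FusionAlperin.mem_normalizer_sup (sc_le_normalizer hYsc hx.1) (sc_le_normalizer hT hx.1)
    refine mem_extender.2 ⟨hx.1, hxN, x, hx.1, ?_⟩
    intro w hw
    have hf : θ.comp ((Y ⊔ T).normalizerMonoidHom ⟨x, hxN⟩).toMonoidHom =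
        (MulAut.conj x).toMonoidHom.comp θ := by
      refine hom_ext_sup (fun y => ?_) (fun t => ?_)
      · show θ ⟨x * y * x⁻¹, _⟩ = x * θ ⟨y, _⟩ * x⁻¹
        have e1 : (⟨x * y * x⁻¹, ((Y ⊔ T).normalizerMonoidHom ⟨x, hxN⟩
            ⟨y, Subgroup.mem_sup_left y.2⟩).2⟩ : ↥(Y ⊔ T)) = ⟨y, Subgroup.mem_sup_left y.2⟩ :=
          Subtype.ext (show x * y * x⁻¹ = y by
            rw [← Subgroup.mem_centralizer_iff.1 hx.2 y y.2, mul_inv_cancel_right])
        have h3 : θ ⟨y, Subgroup.mem_sup_left y.2⟩ ∈ Y := sc_map_mem hYsc hθ y.2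
        rw [e1, ← Subgroup.mem_centralizer_iff.1 hx.2 _ h3, mul_inv_cancel_right]
      · show θ ⟨x * t * x⁻¹, _⟩ = x * θ ⟨t, _⟩ * x⁻¹
        have h3 : x * t * x⁻¹ ∈ T := sc_conj_mem hT hx.1 t.2
        exact (hθT ⟨_, h3⟩).trans (congrArg (fun z => x * z * x⁻¹) (hθT t)).symm
    exact DFunLike.congr_fun hf w
  obtain ⟨A, hA, hAY, hAT⟩ : ∃ A ∈ F.autGroup (Y ⊔ centralizerIn S Y),
      (∀ y : Y, (A ⟨y, Subgroup.mem_sup_left y.2⟩ : Ω) = (a : MulAut Y) y) ∧
      ∀ t : T, (A ⟨t, Subgroup.mem_sup_right (hTC t.2)⟩ : Ω) = t := by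
    have hm := restr_mem F hV hη
    have hηY : ∀ y : Y, restr hV η ⟨y, Subgroup.mem_sup_left y.2⟩ = ((a : MulAut Y) y : Ω) :=
      fun y => (hηe ⟨y, Subgroup.mem_sup_left y.2⟩).trans (hθY y)
    have hr : (restr hV η).range = Y ⊔ centralizerIn S Y := by
      refine range_eq_of_image_le (F.injective_of_mem hm) (range_le_sup_of_le _
        (fun y hy => Subgroup.mem_sup_left ((hηY ⟨y, hy⟩).symm ▸ Subtype.mem _))
        (fun c hc => Subgroup.mem_sup_right ⟨map_mem_S F hm _,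
          Subgroup.mem_centralizer_iff.2 fun y hy => ?_⟩)) le_rfl
      obtain ⟨y', hy'⟩ := (a : MulAut Y).surjective ⟨y, hy⟩
      have e1 : restr hV η ⟨y', Subgroup.mem_sup_left y'.2⟩ = y :=
        (hηY y').trans (congrArg Subtype.val hy')
      rw [← e1, ← map_mul, ← map_mul]
      exact congrArg _ (Subtype.ext (Subgroup.mem_centralizer_iff.1 hc.2 y' y'.2))
    exact ⟨toIso F hm hr, toIso_mem_autGroup F hm hr, hηY, fun t =>
      (hηe ⟨t, Subgroup.mem_sup_right t.2⟩).trans (hθT t)⟩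
  -- make the order prime to `p`
  obtain ⟨B, hB, hBY, hBT, hBo⟩ : ∃ B ∈ F.autGroup (Y ⊔ centralizerIn S Y),
      (∀ y : Y, (B ⟨y, Subgroup.mem_sup_left y.2⟩ : Ω) = (a : MulAut Y) y) ∧
      (∀ t : T, (B ⟨t, Subgroup.mem_sup_right (hTC t.2)⟩ : Ω) = t) ∧
      Nat.Coprime (orderOf B) p := by
    obtain ⟨k, e, m, ho, hmp, hek, hk1⟩ :=
      exists_exponent (o := orderOf A) (orderOf_pos A).ne' (Fact.out : p.Prime) hao
    have hpow : ∀ (i : ℕ) (y : Y),
        ((A ^ i) ⟨y, Subgroup.mem_sup_left y.2⟩ : Ω) = ((a : MulAut Y) ^ i) y := by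
      intro i
      induction i with
      | zero => intro y; rfl
      | succ i ih =>
        intro y
        rw [pow_succ', pow_succ', MulAut.mul_apply, MulAut.mul_apply]
        exact (congrArg (fun w => ((A w : ↥(Y ⊔ centralizerIn S Y)) : Ω))
          (Subtype.ext (ih y) : (A ^ i) ⟨y, _⟩ =
            ⟨((a : MulAut Y) ^ i) y, Subgroup.mem_sup_left (Subtype.mem _)⟩)).trans (hAY _)
    have hfix : ∀ (i : ℕ) (t : T),
        ((A ^ i) ⟨t, Subgroup.mem_sup_right (hTC t.2)⟩ : Ω) = t := by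
      intro i t
      induction i with
      | zero => rfl
      | succ i ih =>
        rw [pow_succ', MulAut.mul_apply]
        exact (congrArg (fun w => ((A w : ↥(Y ⊔ centralizerIn S Y)) : Ω))
          (Subtype.ext ih : (A ^ i) ⟨t, _⟩ = ⟨t, Subgroup.mem_sup_right (hTC t.2)⟩)).trans (hAT t)
    refine ⟨A ^ k, pow_mem hA k, fun y => ?_, hfix k, Nat.Coprime.coprime_dvd_left
      (orderOf_dvd_of_pow_eq_one (n := m) ?_) hmp⟩
    · rw [hpow]
      have : (a : MulAut Y) ^ k = a := by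
        conv_rhs => rw [← pow_one (a : MulAut Y)]
        exact pow_eq_pow_iff_modEq.2 hk1
      rw [this]
    · obtain ⟨l, rfl⟩ := hek
      rw [← pow_mul, show p ^ e * l * m = orderOf A * l by rw [ho]; ring, pow_mul,
        pow_orderOf_eq_one, one_pow]
  have hBh := autGroup_mem_hom F hVS hB
  have hBC : ∀ v : ↥(Y ⊔ centralizerIn S Y), (v : Ω) ∈ centralizerIn S Y →
      (B v : Ω) ∈ centralizerIn S Y := fun v hv => by
    refine ⟨hVS (B v).2, Subgroup.mem_centralizer_iff.2 fun y hy => ?_⟩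
    obtain ⟨y', hy'⟩ := (a : MulAut Y).surjective ⟨y, hy⟩
    have e1 : (B ⟨y', Subgroup.mem_sup_left y'.2⟩ : Ω) = y :=
      (hBY y').trans (congrArg Subtype.val hy')
    rw [← e1, ← Subgroup.coe_mul, ← Subgroup.coe_mul, ← map_mul, ← map_mul]
    exact congrArg (fun w => ((B w : ↥(Y ⊔ centralizerIn S Y)) : Ω))
      (Subtype.ext (Subgroup.mem_centralizer_iff.1 hv.2 y' y'.2))
  -- the elements centralizing `Y` and `T` move within `Y`
  obtain ⟨X, hX⟩ : ∃ X, X = centralizerIn S Y ⊓ centralizerIn S T := ⟨_, rfl⟩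
  have hXV : X ≤ Y ⊔ centralizerIn S Y := hX ▸ inf_le_left.trans le_sup_right
  have hXC : X ≤ centralizerIn S T := hX ▸ inf_le_right
  have hXT : X ⊔ T ≤ Y ⊔ centralizerIn S Y := sup_le hXV (hTC.trans le_sup_right)
  have hBT' : ∀ v : ↥(Y ⊔ centralizerIn S Y), (v : Ω) ∈ centralizerIn S T →
      (B v : Ω) ∈ centralizerIn S T := fun v hv => by
    refine ⟨hVS (B v).2, Subgroup.mem_centralizer_iff.2 fun t ht => ?_⟩
    show ((⟨t, ht⟩ : T) : Ω) * _ = _ * ((⟨t, ht⟩ : T) : Ω)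
    rw [← hBT ⟨t, ht⟩, ← Subgroup.coe_mul, ← Subgroup.coe_mul, ← map_mul, ← map_mul]
    exact congrArg (fun w => ((B w : ↥(Y ⊔ centralizerIn S Y)) : Ω))
      (Subtype.ext (Subgroup.mem_centralizer_iff.1 hv.2 t ht))
  have hstep : ∀ (v : ↥(Y ⊔ centralizerIn S Y)), (v : Ω) ∈ X → (v : Ω)⁻¹ * (B v : Ω) ∈ Y := by
    intro v hv
    refine hfoc (Subgroup.subset_closure ⟨X, restr hXV
      ((Y ⊔ centralizerIn S Y).subtype.comp B.toMonoidHom), ⟨v, hv⟩, ?_, rfl⟩)
    rw [hC X]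
    refine ⟨restr_mem F hXV hBh, hXC, fun x => hBT' _ (hXC x.2), _,
      restr_mem F hXT hBh, fun x => rfl, fun t => hBT t⟩
  -- the displacement of an element centralizing `Y`
  have hkey : ∀ (v : ↥(Y ⊔ centralizerIn S Y)), (v : Ω) ∈ centralizerIn S Y →
      (v : Ω)⁻¹ * (B v : Ω) ∈ Y := by
    intro v hv
    obtain ⟨d, hd⟩ : ∃ d, d = v⁻¹ * B v := ⟨_, rfl⟩
    have hdX : (d : Ω) ∈ X := by
      rw [hX, hd, Subgroup.coe_mul, Subgroup.coe_inv]
      refine ⟨(centralizerIn S Y).mul_mem ((centralizerIn S Y).inv_mem hv) (hBC v hv),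
        S.mul_mem (S.inv_mem (hVS v.2)) (hVS (B v).2), Subgroup.mem_centralizer_iff.2 fun t ht => ?_⟩
      have h1 : (v : Ω) * t * (v : Ω)⁻¹ ∈ T := sc_conj_mem hT (hVS v.2) ht
      have e1 : B (v * ⟨t, Subgroup.mem_sup_right (hTC ht)⟩ * v⁻¹) =
          v * ⟨t, Subgroup.mem_sup_right (hTC ht)⟩ * v⁻¹ :=
        Subtype.ext (hBT ⟨_, h1⟩)
      rw [map_mul, map_mul, map_inv,
        show B ⟨t, Subgroup.mem_sup_right (hTC ht)⟩ = ⟨t, Subgroup.mem_sup_right (hTC ht)⟩ from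
          Subtype.ext (hBT ⟨t, ht⟩)] at e1
      have e2 : (B v : Ω) * t * (B v : Ω)⁻¹ = (v : Ω) * t * (v : Ω)⁻¹ := congrArg Subtype.val e1
      calc t * ((v : Ω)⁻¹ * (B v : Ω)) = (v : Ω)⁻¹ * ((v : Ω) * t * (v : Ω)⁻¹) * (B v : Ω) := by
            group
        _ = (v : Ω)⁻¹ * (B v : Ω) * t := by rw [← e2]; group
    have hBv : B v = v * d := by rw [hd, mul_inv_cancel_left]
    obtain ⟨Z, hZ⟩ : ∃ Z, Z = Y.subgroupOf (Y ⊔ centralizerIn S Y) := ⟨_, rfl⟩
    haveI hZn : Z.Normal := by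
      refine hZ ▸ ⟨fun n hn g => Subgroup.mem_subgroupOf.2 ?_⟩
      exact sc_conj_mem hYsc (hVS g.2) (Subgroup.mem_subgroupOf.1 hn)
    have hmemZ : ∀ w : ↥(Y ⊔ centralizerIn S Y), (w : Ω) ∈ Y → w ∈ Z := fun w hw =>
      hZ ▸ Subgroup.mem_subgroupOf.2 hw
    have hBd : ∀ i : ℕ, (QuotientGroup.mk (B (d ^ i)) : _ ⧸ Z) = QuotientGroup.mk (d ^ i) := by
      intro i
      refine (QuotientGroup.eq.2 (hmemZ _ ?_)).symm
      rw [Subgroup.coe_mul, Subgroup.coe_inv]
      exact hstep _ (by rw [Subgroup.coe_pow]; exact X.pow_mem hdX i)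
    have hBq : ∀ x y : ↥(Y ⊔ centralizerIn S Y),
        (QuotientGroup.mk x : _ ⧸ Z) = QuotientGroup.mk y →
        (QuotientGroup.mk (B x) : _ ⧸ Z) = QuotientGroup.mk (B y) := by
      intro x y hxy
      have h1 := QuotientGroup.eq.1 hxy
      refine QuotientGroup.eq.2 ?_
      rw [← map_inv, ← map_mul, hZ, Subgroup.mem_subgroupOf]
      exact sc_map_mem hYsc hBh (Subgroup.mem_subgroupOf.1 (hZ ▸ h1))
    have hit : ∀ i : ℕ, (QuotientGroup.mk ((B ^ i) v) : _ ⧸ Z) = QuotientGroup.mk (v * d ^ i) := by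
      intro i
      induction i with
      | zero => simp
      | succ i ih =>
        rw [pow_succ', MulAut.mul_apply]
        refine (hBq _ _ ih).trans ?_
        rw [map_mul, hBv, pow_succ']
        simp only [QuotientGroup.mk_mul, hBd i, mul_assoc]
    have h1 : d ^ orderOf B ∈ Z := by
      have h := hit (orderOf B)
      rw [pow_orderOf_eq_one, MulAut.one_apply, QuotientGroup.eq] at h
      simpa using h
    obtain ⟨k, hk⟩ := (hS.to_le hVS) d
    have hcop : (orderOf B).Coprime (orderOf d) :=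
      Nat.Coprime.coprime_dvd_right (orderOf_dvd_of_pow_eq_one hk) (hBo.pow_right k)
    obtain ⟨m, hm⟩ := exists_pow_eq_self_of_coprime hcop
    have h2 : d ∈ Z := hm ▸ Z.pow_mem h1 m
    rw [hZ, Subgroup.mem_subgroupOf, hd, Subgroup.coe_mul, Subgroup.coe_inv] at h2
    exact h2
  refine ⟨B, hB, hBY, fun v => ?_⟩
  obtain ⟨r, hr, c, hc, hv⟩ := exists_mul_of_mem_sup (T := Y) (K := centralizerIn S Y)
    (fun x hx b hb => Subgroup.mem_centralizer_iff.1 hb.2 x hx) v.2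
  have e : v = ⟨r, Subgroup.mem_sup_left hr⟩ * ⟨c, Subgroup.mem_sup_right hc⟩ := Subtype.ext hv
  have h1 : r⁻¹ * (B ⟨r, Subgroup.mem_sup_left hr⟩ : Ω) ∈ Y :=
    Y.mul_mem (Y.inv_mem hr) ((hBY ⟨r, hr⟩).symm ▸ Subtype.mem _)
  have h2 := hkey ⟨c, Subgroup.mem_sup_right hc⟩ hc
  rw [e, map_mul, Subgroup.coe_mul, Subgroup.coe_mul]
  have hcomm : c⁻¹ * (r⁻¹ * (B ⟨r, Subgroup.mem_sup_left hr⟩ : Ω)) =
      r⁻¹ * (B ⟨r, Subgroup.mem_sup_left hr⟩ : Ω) * c⁻¹ :=
    (Subgroup.mem_centralizer_iff.1 ((Subgroup.centralizer _).inv_mem hc.2) _ h1).symm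
  rw [show (r * c)⁻¹ * ((B ⟨r, Subgroup.mem_sup_left hr⟩ : Ω) *
    (B ⟨c, Subgroup.mem_sup_right hc⟩ : Ω)) = c⁻¹ * (r⁻¹ *
      (B ⟨r, Subgroup.mem_sup_left hr⟩ : Ω)) * (B ⟨c, Subgroup.mem_sup_right hc⟩ : Ω) by group,
    hcomm, mul_assoc]
  exact Y.mul_mem h1 h2

/-- A strongly closed subgroup of `C_S(T)` containing the focal subgroup of `C_F(T)` carries a
normal subsystem inside `C_F(T)`. -/
theorem exists_normal (hS : IsPGroup p S) (hF : F.IsSaturated p) (hT : F.StronglyClosed T)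
    (hY : Y ≤ centralizerIn S T) (hYsc : F.StronglyClosed Y)
    {C : FusionSystem (centralizerIn S T)} (hC : F.IsCentralizerSystem T C)
    (hfoc : C.focalSubgroup ≤ Y) :
    ∃ D : FusionSystem Y, D.IsNormalIn F p ∧ ∀ P : Subgroup Ω, D.Hom P ⊆ F.centralizerHom T P := by
  haveI : Finite ↥(centralizerIn S T) := finite_of_le ‹_› (centralizerIn_le T)
  have hCs : C.IsSaturated p := centralizerSystem_saturated hS hF
    (saturated_fullyNormalized hS hF (fullyNormalized_of_stronglyClosed hT)).1 hC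
  obtain ⟨D, hD, hDC⟩ := FusionSub.exists_pPowerIndex (hS.to_le (centralizerIn_le T)) hCs hY
    ((hyperfocal_le_focal C).trans hfoc)
  have hDsub : ∀ P, D.Hom P ⊆ F.centralizerHom T P := fun P φ hφ => hC P ▸ hDC.1 P hφ
  have hDF : D.IsSubsystemOf F := fun P φ hφ => (hDsub P hφ).1
  refine ⟨D, ⟨⟨hD, hF, hDF, hYsc, fun P hP φ hφ α hα => ?_, fun P hP φ hφ => ?_⟩,
    fun α hα => ?_⟩, hDsub⟩
  · obtain ⟨χ, hχ, hχe⟩ := invariant_of_pPowerIndex hS hF hT hY hC hD hDC hα hφ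
    refine ⟨χ, hχ, fun x hφx hαx => ?_⟩
    have h := hχe x (autExt_mem_autImage α hP x.2)
    rw [autExt_of_mem α (map_mem_S D hφ x)] at h
    rw [← h]
    exact congrArg χ (Subtype.ext (autExt_of_mem α (hP x.2)).symm)
  · obtain ⟨α, hα, d, hd, he⟩ :=
      frattini_of_pPowerIndex hS hF hT hY hYsc hC hCs hD hDC hP hφ
    exact ⟨α, hα, d, hd, fun x hx => (he x).trans (autExt_of_mem α hx)⟩
  · obtain ⟨B, hB, hBY, hBm⟩ := autGroup_le_goodLift hS hF hT hY hYsc hC hfoc hD hDC.1 hα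
    refine ⟨B, hB, hBY, fun c hc => ⟨hBm c, ?_⟩⟩
    refine (Subgroup.centralizer (Y : Set Ω)).mul_mem
      ((Subgroup.centralizer (Y : Set Ω)).inv_mem hc.2) (Subgroup.mem_centralizer_iff.2 fun y hy => ?_)
    obtain ⟨y', hy'⟩ := α.surjective ⟨y, hy⟩
    have e1 : (B ⟨y', Subgroup.mem_sup_left y'.2⟩ : Ω) = y :=
      (hBY y').trans (congrArg Subtype.val hy')
    rw [← e1, ← Subgroup.coe_mul, ← Subgroup.coe_mul, ← map_mul, ← map_mul]
    exact congrArg (fun w => ((B w : ↥(Y ⊔ centralizerIn S Y)) : Ω))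
      (Subtype.ext (Subgroup.mem_centralizer_iff.1 hc.2 y' y'.2))

end Cfsg.Agent.Tech.CentSubsystem
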