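import Cfsg.Prelude.Def_OddOrderLocal
import Cfsg.Agent.PGroup.ClassTwo
import Cfsg.Agent.PGroup.Frattini
import Cfsg.Agent.TwoGroups.Recognition

/-!
A metacyclic 2-group with an automorphism of odd order is homocyclic or quaternion of order 8.
-/

set_option autoImplicit false

open scoped commutatorElement
open Cfsg.Agent

namespace Cfsg.Agent.Tech.MetacyclicTwoAut

variable {X : Type*} [Group X] [Finite X]

theorem exists_odd_aut (hA : ¬ IsPGroup 2 (MulAut X)) :
    ∃ α : MulAut X, α ≠ 1 ∧ Odd (orderOf α) := by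
  have : Finite (MulAut X) := Finite.of_injective _ DFunLike.coe_injective
  rw [IsPGroup.iff_orderOf] at hA
  push Not at hA
  obtain ⟨β, hβ⟩ := hA
  obtain ⟨k, m, hm, hkm⟩ :=
    Nat.exists_eq_pow_mul_and_not_dvd (orderOf_pos β).ne' 2 (by norm_num)
  have ho : orderOf (β ^ 2 ^ k) = m := by
    rw [orderOf_pow' _ (by positivity), hkm, Nat.gcd_eq_right (dvd_mul_right _ _),
      Nat.mul_div_cancel_left _ (by positivity)]
  refine ⟨β ^ 2 ^ k, fun h => ?_, ?_⟩
  · rw [h, orderOf_one] at ho
    exact hβ k (by rw [hkm, ← ho, mul_one])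
  · rw [ho, Nat.odd_iff]; omega

omit [Finite X] in
theorem eq_of_four {V : Type*} [Group V] [Finite V] (hV : Nat.card V ≤ 4)
    (he : ∀ v : V, v * v = 1) {x y : V} (hx : x ≠ 1) (hy : y ≠ 1) (hxy : y ≠ x) (z : V) :
    z = 1 ∨ z = x ∨ z = y ∨ z = x * y := by
  let f : Fin 4 → V := ![1, x, y, x * y]
  have hxi : x⁻¹ = x := inv_eq_of_mul_eq_one_right (he x)
  have hf : Function.Injective f := by
    intro i j h
    have h1 : x * y ≠ 1 := fun h => hxy (by rw [← hxi]; exact (inv_eq_of_mul_eq_one_right h).symm)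
    have h2 : x * y ≠ x := fun h => hy (mul_left_cancel (h.trans (mul_one x).symm))
    have h3 : x * y ≠ y := fun h => hx (mul_right_cancel (h.trans (one_mul y).symm))
    fin_cases i <;> fin_cases j <;>
      simp [f, hx, hy, hxy, Ne.symm hx, Ne.symm hy, Ne.symm hxy, h1, h2, h3, h1.symm, h2.symm,
        h3.symm] at h ⊢
  have hle := Nat.card_le_card_of_injective f hf
  rw [Nat.card_fin] at hle
  have hbij := (Nat.bijective_iff_injective_and_card f).2 ⟨hf, by rw [Nat.card_fin]; omega⟩
  obtain ⟨i, rfl⟩ := hbij.2 z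
  fin_cases i <;> simp [f]

theorem frattini_index_le (hX : IsPGroup 2 X) {a t : X}
    (ht : Subgroup.closure ({a, t} : Set X) = ⊤) : (frattini X).index ≤ 4 := by
  classical
  have h := PGroup.index_frattini_le_pow_card (p := 2) hX (S := {a, t}) (by simpa using ht)
  refine h.trans ?_
  calc 2 ^ ({a, t} : Finset X).card ≤ 2 ^ 2 := Nat.pow_le_pow_right (by norm_num) Finset.card_le_two
    _ = 4 := by norm_num

/-- An automorphism of odd order fixes no non-trivial element modulo `Φ(X)` when `|X : Φ(X)| ≤ 4`. -/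
theorem not_fixed (hX : IsPGroup 2 X) (h4 : (frattini X).index ≤ 4) {γ : MulAut X} (hγ : γ ≠ 1)
    (hodd : Odd (orderOf γ)) {x : X} (hx : x ∉ frattini X) : x⁻¹ * γ x ∉ frattini X := by
  intro hfix
  have hγ2 : γ ^ 2 = 1 := by
    refine PGroup.mulAut_eq_one_of_frattini hX (γ ^ 2)
      (Nat.Coprime.coprime_dvd_left (orderOf_pow_dvd 2) (Nat.coprime_two_right.2 hodd)) fun y => ?_
    set π := QuotientGroup.mk' (frattini X)
    have hexp : ∀ v : X ⧸ frattini X, v * v = 1 := fun v => by
      induction v using QuotientGroup.induction_on with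
      | H w => rw [← QuotientGroup.mk_mul, QuotientGroup.eq_one_iff, ← pow_two]
               exact PGroup.pow_mem_frattini hX w
    have hγπ : ∀ u w : X, π u = π w → π (γ u) = π (γ w) := by
      intro u w huw
      have h1 : u⁻¹ * w ∈ frattini X := QuotientGroup.eq.1 huw
      have h2 := Subgroup.characteristic_iff_le_comap.1
        (inferInstance : (frattini X).Characteristic) γ h1
      refine QuotientGroup.eq.2 ?_
      simpa using h2
    have hxfix : π (γ x) = π x := (QuotientGroup.eq.2 hfix).symm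
    apply QuotientGroup.eq.1
    show π y = π (γ (γ y))
    by_cases hy1 : π y = 1
    · have h1 := hγπ y 1 (by rw [hy1, map_one])
      rw [map_one] at h1
      have h2 := hγπ (γ y) 1 (by rw [h1])
      rw [map_one, map_one] at h2
      rw [hy1, h2]
    by_cases hyx : π y = π x
    · rw [hyx, hγπ (γ y) x ((hγπ y x hyx).trans hxfix), hxfix]
    have hx1 : π x ≠ 1 := fun h => hx ((QuotientGroup.eq_one_iff x).1 h)
    rcases eq_of_four (h4.trans' (Subgroup.index_eq_card _).ge) hexp hx1 hy1 hyx (π (γ y)) with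
      h | h | h | h
    · exfalso
      apply hy1
      have h2 : γ y ∈ frattini X := (QuotientGroup.eq_one_iff _).1 h
      have h3 := Subgroup.characteristic_iff_le_comap.1
        (inferInstance : (frattini X).Characteristic) γ.symm h2
      exact (QuotientGroup.eq_one_iff y).2 (by simpa using h3)
    · exfalso
      apply hyx
      have h2 : (γ y)⁻¹ * γ x ∈ frattini X := QuotientGroup.eq.1 (h.trans hxfix.symm)
      have h3 := Subgroup.characteristic_iff_le_comap.1
        (inferInstance : (frattini X).Characteristic) γ.symm h2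
      exact QuotientGroup.eq.2 (by simpa using h3)
    · exact (hγπ (γ y) y h ▸ h).symm
    · have h2 := hγπ (γ y) (x * y) (by rw [map_mul]; exact h)
      rw [h2, map_mul, map_mul, hxfix, h, ← mul_assoc, hexp, one_mul]
  obtain ⟨k, hk⟩ := hodd
  apply hγ
  have h1 := pow_orderOf_eq_one γ
  rwa [hk, pow_add, pow_mul, hγ2, one_pow, one_mul, pow_one] at h1

/-- Generators `a`, `b` with cyclic normal subgroups, interchanged with `a * b` modulo `Φ(X)`. -/
theorem exists_generators (hX : IsPGroup 2 X) (hm : Cfsg.IsMetacyclic X)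
    (hA : ¬ IsPGroup 2 (MulAut X)) :
    ∃ (α : MulAut X) (a b : X), b = α a ∧ Subgroup.closure ({a, b} : Set X) = ⊤ ∧
      (Subgroup.zpowers a).Normal ∧ (Subgroup.zpowers b).Normal ∧ a ∉ frattini X ∧
      b ∉ frattini X ∧ (a * b)⁻¹ * α b ∈ frattini X ∧ a⁻¹ * b ∉ frattini X := by
  obtain ⟨α, hα, hodd⟩ := exists_odd_aut hA
  obtain ⟨A, hAn, hAc, hQc⟩ := hm
  obtain ⟨⟨a, haA⟩, ha⟩ := hAc.exists_generator
  have hAeq : A = Subgroup.zpowers a := by
    refine le_antisymm (fun x hx => ?_) (Subgroup.zpowers_le.2 haA)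
    obtain ⟨i, hi⟩ := ha ⟨x, hx⟩
    exact ⟨i, congrArg Subtype.val hi⟩
  obtain ⟨tq, ht⟩ := hQc.exists_generator
  obtain ⟨t, rfl⟩ := QuotientGroup.mk'_surjective A tq
  have hgen : Subgroup.closure ({a, t} : Set X) = ⊤ := by
    rw [eq_top_iff]
    intro x _
    obtain ⟨i, hi⟩ := ht (QuotientGroup.mk' A x)
    have h1 : (t ^ i)⁻¹ * x ∈ A := by
      rw [← QuotientGroup.eq_one_iff]
      show QuotientGroup.mk' A ((t ^ i)⁻¹ * x) = 1
      rw [map_mul, map_inv, map_zpow,
        show QuotientGroup.mk' A t ^ i = QuotientGroup.mk' A x from hi, inv_mul_cancel]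
    rw [hAeq] at h1
    obtain ⟨j, hj⟩ := h1
    have : x = t ^ i * a ^ j := by rw [show a ^ j = (t ^ i)⁻¹ * x from hj, mul_inv_cancel_left]
    rw [this]
    exact mul_mem (zpow_mem (Subgroup.subset_closure (by simp)) i)
      (zpow_mem (Subgroup.subset_closure (by simp)) j)
  have h4 := frattini_index_le hX hgen
  have hexists : ∃ x : X, x ∉ frattini X := by
    by_contra! hall
    exact hα (PGroup.mulAut_eq_one_of_frattini hX α (Nat.coprime_two_right.2 hodd) fun x => hall _)
  have haΦ : a ∉ frattini X := by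
    intro haΦ
    have hcyc : Subgroup.zpowers t = ⊤ := by
      apply PGroup.eq_top_of_sup_frattini
      rw [eq_top_iff, ← hgen, Subgroup.closure_le]
      rintro x (rfl | rfl)
      · exact Subgroup.mem_sup_right haΦ
      · exact Subgroup.mem_sup_left (Subgroup.mem_zpowers _)
    obtain ⟨x, hx⟩ := hexists
    refine not_fixed hX h4 hα hodd hx ?_
    have h2 : (frattini X).index ≤ 2 := by
      classical
      have h := PGroup.index_frattini_le_pow_card (p := 2) hX (S := {t})
        (by rw [Finset.coe_singleton, ← Subgroup.zpowers_eq_closure, hcyc])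
      simpa using h
    have h3 : α x ∉ frattini X := fun h => hx (by
      simpa using Subgroup.characteristic_iff_le_comap.1
        (inferInstance : (frattini X).Characteristic) α.symm h)
    have hne : (frattini X).index = 2 := le_antisymm h2 (by
      have h5 : (frattini X).index ≠ 1 := fun h => hx (by rw [Subgroup.index_eq_one.1 h]; exact Subgroup.mem_top _)
      have := (Subgroup.index_ne_zero_of_finite (H := frattini X))
      omega)
    have hxi : x⁻¹ ∉ frattini X := fun h => hx (by simpa using (frattini X).inv_mem h)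
    exact (Subgroup.mul_mem_iff_of_index_two hne).2 (iff_of_false hxi h3)
  set b := α a with hb
  have hchar : ∀ (γ : MulAut X) {x : X}, x ∈ frattini X → γ x ∈ frattini X := fun γ {x} hx =>
    Subgroup.characteristic_iff_le_comap.1 (inferInstance : (frattini X).Characteristic) γ hx
  have hbΦ : b ∉ frattini X := fun h => haΦ (by simpa [hb] using hchar α.symm h)
  have hcΦ : α b ∉ frattini X := fun h => hbΦ (by simpa using hchar α.symm h)
  have hab : a⁻¹ * b ∉ frattini X := not_fixed hX h4 hα hodd haΦ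
  have hbc : b⁻¹ * α b ∉ frattini X := not_fixed hX h4 hα hodd hbΦ
  have hα2 : α ^ 2 ≠ 1 := fun h => by
    obtain ⟨k, hk⟩ := hodd
    have h1 := pow_orderOf_eq_one α
    rw [hk, pow_add, pow_mul, h, one_pow, one_mul, pow_one] at h1
    exact hα h1
  have hac : a⁻¹ * α b ∉ frattini X := by
    have h := not_fixed hX h4 hα2 (hodd.of_dvd_nat (orderOf_pow_dvd 2)) haΦ
    rwa [pow_two, MulAut.mul_apply] at h
  have hexp : ∀ v : X ⧸ frattini X, v * v = 1 := fun v => by
    induction v using QuotientGroup.induction_on with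
    | H w => rw [← QuotientGroup.mk_mul, QuotientGroup.eq_one_iff, ← pow_two]
             exact PGroup.pow_mem_frattini hX w
  set π := QuotientGroup.mk' (frattini X) with hπ
  have hne : ∀ {u w : X}, u⁻¹ * w ∉ frattini X → π w ≠ π u := fun h he => h (QuotientGroup.eq.1 he.symm)
  have hone : ∀ {u : X}, u ∉ frattini X → π u ≠ 1 := fun h he => h ((QuotientGroup.eq_one_iff _).1 he)
  have hfour := eq_of_four (h4.trans' (Subgroup.index_eq_card _).ge) hexp (hone haΦ) (hone hbΦ)
    (hne hab)
  have hzn : (Subgroup.zpowers b).Normal := by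
    have h : A.map α.toMonoidHom = Subgroup.zpowers b := by rw [hAeq, MonoidHom.map_zpowers]; rfl
    exact h ▸ hAn.map _ α.surjective
  refine ⟨α, a, b, rfl, ?_, hAeq ▸ hAn, hzn, haΦ, hbΦ, ?_, hab⟩
  · apply PGroup.eq_top_of_sup_frattini
    rw [eq_top_iff]
    intro x _
    have haS : a ∈ Subgroup.closure ({a, b} : Set X) := Subgroup.subset_closure (by simp)
    have hbS : b ∈ Subgroup.closure ({a, b} : Set X) := Subgroup.subset_closure (by simp)
    have key : ∀ {u : X}, u ∈ Subgroup.closure ({a, b} : Set X) → π x = π u →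
        x ∈ Subgroup.closure ({a, b} : Set X) ⊔ frattini X := fun {u} hu he => by
      have h1 : u⁻¹ * x ∈ frattini X := QuotientGroup.eq.1 he.symm
      simpa using mul_mem (Subgroup.mem_sup_left hu) (Subgroup.mem_sup_right h1)
    rcases hfour (π x) with h | h | h | h
    · exact key (one_mem _) (by rw [h, map_one])
    · exact key haS h
    · exact key hbS h
    · exact key (mul_mem haS hbS) (by rw [h, map_mul])
  · rcases hfour (π (α b)) with h | h | h | h
    · exact absurd h (hone hcΦ)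
    · exact absurd h (hne hac)
    · exact absurd h (hne hbc)
    · exact QuotientGroup.eq.1 (show π (a * b) = π (α b) by rw [h, map_mul])

omit [Finite X] in
theorem exists_zpow_mul {a b : X} [(Subgroup.zpowers a).Normal]
    (hgen : Subgroup.closure ({a, b} : Set X) = ⊤) (x : X) : ∃ i j : ℤ, a ^ i * b ^ j = x := by
  have h : x ∈ Subgroup.zpowers a ⊔ Subgroup.zpowers b := by
    have hle : Subgroup.closure ({a, b} : Set X) ≤ Subgroup.zpowers a ⊔ Subgroup.zpowers b := by
      rw [Subgroup.closure_le]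
      rintro y (rfl | rfl)
      · exact Subgroup.mem_sup_left (Subgroup.mem_zpowers _)
      · exact Subgroup.mem_sup_right (Subgroup.mem_zpowers _)
    exact hle (hgen ▸ Subgroup.mem_top x)
  obtain ⟨_, ⟨i, rfl⟩, _, ⟨j, rfl⟩, hx⟩ := Subgroup.mem_sup_of_normal_left.1 h
  exact ⟨i, j, hx⟩

theorem structure_two (hX : IsPGroup 2 X) (hm : Cfsg.IsMetacyclic X)
    (hA : ¬ IsPGroup 2 (MulAut X)) :
    Nonempty (X ≃* QuaternionGroup 2) ∨
      ∃ n : ℕ, Nonempty (X ≃* Multiplicative (ZMod (2 ^ n)) × Multiplicative (ZMod (2 ^ n))) := by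
  obtain ⟨α, a, b, hb, hgen, hAn, hBn, haΦ, hbΦ, hc3, hab⟩ := exists_generators hX hm hA
  set c3 := α b with hc3def
  have hcross : ∀ K : Subgroup X, (∀ x ∈ frattini X, x ∈ K) → (∀ x, x ∈ K ↔ α x ∈ K) → a ∉ K →
      a * b ∉ K := by
    intro K hK hinv ha hab'
    apply ha
    have h1 : c3 ∈ K := by
      have := K.mul_mem hab' (hK _ hc3)
      rwa [mul_inv_cancel_left] at this
    rw [hc3def, ← hinv, hb, ← hinv] at h1
    exact h1
  by_cases hcomm : ⁅a, b⁆ = 1
  · -- homocyclic
    right
    have habc : ∀ x y : X, x * y = y * x := by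
      have hcl : IsMulCommutative (Subgroup.closure ({a, b} : Set X)) :=
        Subgroup.isMulCommutative_closure fun x hx y hy => by
          rcases hx with rfl | rfl <;> rcases hy with rfl | rfl
          · rfl
          · exact commutatorElement_eq_one_iff_mul_comm.1 hcomm
          · exact (commutatorElement_eq_one_iff_mul_comm.1 hcomm).symm
          · rfl
      intro x y
      exact congrArg Subtype.val (hcl.is_comm.comm ⟨x, hgen ▸ Subgroup.mem_top x⟩
        ⟨y, hgen ▸ Subgroup.mem_top y⟩)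
    obtain ⟨n, hn⟩ := IsPGroup.iff_orderOf.1 hX a
    have hnb : orderOf b = 2 ^ n := by rw [hb, MulEquiv.orderOf_eq, hn]
    refine ⟨n, ?_⟩
    have hn0 : n ≠ 0 := by
      rintro rfl
      rw [pow_zero, orderOf_eq_one_iff] at hn
      exact haΦ (hn ▸ one_mem _)
    obtain ⟨k, rfl⟩ := Nat.exists_eq_succ_of_ne_zero hn0
    -- every element has order dividing `2 ^ (k + 1)`
    have hexp : ∀ x : X, x ^ 2 ^ (k + 1) = 1 := by
      intro x
      obtain ⟨i, j, rfl⟩ := exists_zpow_mul hgen x
      rw [(show Commute (a ^ i) (b ^ j) from habc _ _).mul_pow, ← zpow_natCast, ← zpow_natCast,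
        ← zpow_mul, ← zpow_mul, mul_comm i, mul_comm j, zpow_mul, zpow_mul, zpow_natCast, zpow_natCast,
        orderOf_dvd_iff_pow_eq_one.1 hn.dvd, orderOf_dvd_iff_pow_eq_one.1 hnb.dvd, one_zpow, one_zpow,
        one_mul]
    let K : Subgroup X :=
      { carrier := {x | x ^ 2 ^ k = 1}
        one_mem' := one_pow _
        mul_mem' := fun {x y} hx hy => by
          show (x * y) ^ 2 ^ k = 1
          rw [(show Commute x y from habc x y).mul_pow, show x ^ 2 ^ k = 1 from hx,
            show y ^ 2 ^ k = 1 from hy, one_mul]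
        inv_mem' := fun {x} hx => by
          show x⁻¹ ^ 2 ^ k = 1
          rw [inv_pow, show x ^ 2 ^ k = 1 from hx, inv_one] }
    have hKΦ : ∀ x ∈ frattini X, x ∈ K := by
      intro x hx
      rw [PGroup.frattini_eq_closure_sq hX] at hx
      refine (Subgroup.closure_le K).2 ?_ hx
      rintro _ ⟨y, rfl⟩
      show (y ^ 2) ^ 2 ^ k = 1
      rw [← pow_mul, ← pow_succ', hexp]
    have haK : a ∉ K := fun h => by
      have h' := orderOf_dvd_of_pow_eq_one (show a ^ 2 ^ k = 1 from h)
      rw [hn, Nat.pow_dvd_pow_iff_le_right (by norm_num)] at h'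
      omega
    have habK : (a * b) ^ 2 ^ k ≠ 1 := hcross K hKΦ
      (fun x => by
        show x ^ 2 ^ k = 1 ↔ (α x) ^ 2 ^ k = 1
        rw [← map_pow, map_eq_one_iff α α.injective]) haK
    -- the cyclic factors meet trivially
    have hsocle : ∀ g : X, orderOf g = 2 ^ (k + 1) → ∀ w ∈ Subgroup.zpowers g, w ^ 2 = 1 →
        w = 1 ∨ w = g ^ 2 ^ k := by
      intro g hg w hw hw2
      obtain ⟨i, rfl : g ^ i = w⟩ := hw
      have h1 : g ^ (i * 2) = 1 := by rw [zpow_mul]; exact_mod_cast hw2
      have h2 := orderOf_dvd_iff_zpow_eq_one.2 h1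
      rw [hg, pow_succ, Nat.cast_mul, Nat.cast_two,
        mul_dvd_mul_iff_right (two_ne_zero : (2 : ℤ) ≠ 0)] at h2
      obtain ⟨s, rfl⟩ := h2
      rcases Int.even_or_odd s with ⟨t, rfl⟩ | ⟨t, rfl⟩
      · left
        rw [show ((2 ^ k : ℕ) : ℤ) * (t + t) = ((2 ^ (k + 1) : ℕ) : ℤ) * t by push_cast; ring,
          zpow_mul, zpow_natCast, ← hg, pow_orderOf_eq_one, one_zpow]
      · right
        rw [show ((2 ^ k : ℕ) : ℤ) * (2 * t + 1) = ((2 ^ (k + 1) : ℕ) : ℤ) * t + ((2 ^ k : ℕ) : ℤ)
            by push_cast; ring,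
          zpow_add, zpow_mul, zpow_natCast, ← hg, pow_orderOf_eq_one, one_zpow, one_mul,
          zpow_natCast]
    have hdisj : Disjoint (Subgroup.zpowers a) (Subgroup.zpowers b) := by
      rw [Subgroup.disjoint_def]
      intro x hxa hxb
      by_contra hx1
      obtain ⟨e, he⟩ := IsPGroup.iff_orderOf.1 hX x
      obtain ⟨e', rfl⟩ := Nat.exists_eq_succ_of_ne_zero (n := e)
        (fun h => hx1 (orderOf_eq_one_iff.1 (by rw [he, h, pow_zero])))
      have hw2 : (x ^ 2 ^ e') ^ 2 = 1 := by rw [← pow_mul, ← pow_succ, ← he, pow_orderOf_eq_one]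
      have hw1 : x ^ 2 ^ e' ≠ 1 := fun h => by
        have h' := orderOf_dvd_of_pow_eq_one h
        rw [he, Nat.pow_dvd_pow_iff_le_right (by norm_num)] at h'
        omega
      have h1 := (hsocle a hn _ (pow_mem hxa _) hw2).resolve_left hw1
      have h2 := (hsocle b hnb _ (pow_mem hxb _) hw2).resolve_left hw1
      apply habK
      rw [(show Commute a b from habc a b).mul_pow, ← h1, ← h2, ← pow_two, hw2]
    let φ : Subgroup.zpowers a × Subgroup.zpowers b →* X :=
      MonoidHom.noncommCoprod (Subgroup.zpowers a).subtype (Subgroup.zpowers b).subtype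
        (fun x y => habc x y)
    have hφ : Function.Bijective φ := by
      refine ⟨?_, fun x => ?_⟩
      · refine (injective_iff_map_eq_one φ).2 fun z hz => ?_
        have h1 : (z.1 : X) * z.2 = 1 := hz
        have h2 : (z.1 : X) ∈ Subgroup.zpowers b := by
          rw [mul_eq_one_iff_eq_inv.1 h1]; exact inv_mem z.2.2
        have h3 := Subgroup.disjoint_def.1 hdisj z.1.2 h2
        rw [h3, one_mul] at h1
        exact Prod.ext (Subtype.ext h3) (Subtype.ext h1)
      · obtain ⟨i, j, rfl⟩ := exists_zpow_mul hgen x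
        exact ⟨(⟨_, i, rfl⟩, ⟨_, j, rfl⟩), rfl⟩
    have eiso : ∀ g : X, orderOf g = 2 ^ (k + 1) →
        Nonempty (Subgroup.zpowers g ≃* Multiplicative (ZMod (2 ^ (k + 1)))) := by
      intro g hg
      have hc : Nat.card (Subgroup.zpowers g) = 2 ^ (k + 1) := (Nat.card_zpowers g).trans hg
      rw [← hc]
      exact ⟨(zmodCyclicMulEquiv inferInstance).symm⟩
    exact ⟨(MulEquiv.ofBijective φ hφ).symm.trans
      ((eiso a hn).some.prodCongr (eiso b hnb).some)⟩
  -- quaternion
  left
  set c := ⁅a, b⁆ with hc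
  have hcA : c ∈ Subgroup.zpowers a := by
    rw [hc, commutatorElement_def, mul_assoc, mul_assoc]
    exact mul_mem (Subgroup.mem_zpowers a)
      (by simpa [mul_assoc] using hAn.conj_mem _ (inv_mem (Subgroup.mem_zpowers a)) b)
  have hcB : c ∈ Subgroup.zpowers b := by
    rw [hc, commutatorElement_def]
    exact mul_mem (hBn.conj_mem _ (Subgroup.mem_zpowers b) a) (inv_mem (Subgroup.mem_zpowers b))
  have hcz : c ∈ Subgroup.center X := by
    have hle : Subgroup.closure ({a, b} : Set X) ≤ Subgroup.centralizer {c} := by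
      rw [Subgroup.closure_le]
      rintro y (rfl | rfl)
      · obtain ⟨i, hi⟩ := hcA
        rw [SetLike.mem_coe, Subgroup.mem_centralizer_singleton_iff, ← hi]
        exact ((Commute.refl _).zpow_right i).eq
      · obtain ⟨i, hi⟩ := hcB
        rw [SetLike.mem_coe, Subgroup.mem_centralizer_singleton_iff, ← hi]
        exact ((Commute.refl _).zpow_right i).eq
    exact Subgroup.mem_center_iff.2 fun g =>
      Subgroup.mem_centralizer_singleton_iff.1 (hle (hgen ▸ Subgroup.mem_top g))
  set C := Subgroup.zpowers c with hCdef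
  have hCz : C ≤ Subgroup.center X := Subgroup.zpowers_le.2 hcz
  have hCn : C.Normal := ⟨fun z hz g => by
    rwa [Subgroup.mem_center_iff.1 (hCz hz) g, mul_inv_cancel_right]⟩
  have hcomC : ∀ x y : X, ⁅x, y⁆ ∈ C := by
    let π := QuotientGroup.mk' C
    have hcl : IsMulCommutative (Subgroup.closure (π '' ({a, b} : Set X))) :=
      Subgroup.isMulCommutative_closure fun x hx y hy => by
        have hab' : π a * π b = π b * π a := by
          rw [← commutatorElement_eq_one_iff_mul_comm, ← map_commutatorElement]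
          exact (QuotientGroup.eq_one_iff _).2 (Subgroup.mem_zpowers c)
        obtain ⟨x', hx', rfl⟩ := hx
        obtain ⟨y', hy', rfl⟩ := hy
        rcases hx' with rfl | rfl <;> rcases hy' with rfl | rfl
        · rfl
        · exact hab'
        · exact hab'.symm
        · rfl
    intro x y
    have hmem : ∀ z : X, π z ∈ Subgroup.closure (π '' ({a, b} : Set X)) := fun z => by
      rw [← MonoidHom.map_closure, hgen]
      exact Subgroup.mem_map_of_mem _ (Subgroup.mem_top z)
    rw [← QuotientGroup.eq_one_iff, ← QuotientGroup.mk'_apply, map_commutatorElement,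
      commutatorElement_eq_one_iff_mul_comm]
    exact congrArg Subtype.val (hcl.is_comm.comm ⟨_, hmem x⟩ ⟨_, hmem y⟩)
  have hcent : ∀ x y : X, ⁅x, y⁆ ∈ Subgroup.center X := fun x y => hCz (hcomC x y)
  have hCΦ : C ≤ frattini X :=
    Subgroup.zpowers_le.2 (PGroup.commutatorElement_mem_frattini (p := 2) hX a b)
  -- `αC = C`
  have hαC : ∀ z ∈ C, α z ∈ C := by
    rintro _ ⟨i, rfl⟩
    show α (c ^ i) ∈ C
    rw [map_zpow]
    refine C.zpow_mem ?_ i
    rw [hc, map_commutatorElement]
    exact hcomC _ _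
  obtain ⟨r, hr⟩ := IsPGroup.iff_orderOf.1 hX c
  have hr0 : r ≠ 0 := by
    rintro rfl
    rw [pow_zero, orderOf_eq_one_iff] at hr
    exact hcomm hr
  have hC2 : ∀ o : ℤ, c ^ o ∈ Subgroup.zpowers (c ^ (2 : ℤ)) → Even o := by
    rintro o ⟨s, hs⟩
    have h1 : c ^ (o - 2 * s) = 1 := by
      rw [zpow_sub, zpow_mul, show (c ^ (2 : ℤ)) ^ s = c ^ o from hs, mul_inv_cancel]
    have h2 := orderOf_dvd_iff_zpow_eq_one.2 h1
    rw [hr] at h2
    have h3 : (2 : ℤ) ∣ o - 2 * s :=
      dvd_trans (by exact_mod_cast dvd_pow_self 2 hr0) h2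
    exact even_iff_two_dvd.2 (by omega)
  obtain ⟨m, hm'⟩ := IsPGroup.iff_orderOf.1 (hX.to_quotient C) (QuotientGroup.mk' C a)
  have hpowC : ∀ i : ℤ, a ^ i ∈ C ↔ ((2 ^ m : ℕ) : ℤ) ∣ i := fun i => by
    rw [← QuotientGroup.eq_one_iff, ← QuotientGroup.mk'_apply, map_zpow, ← hm']
    exact orderOf_dvd_iff_zpow_eq_one.symm
  have hm0 : m ≠ 0 := by
    rintro rfl
    exact haΦ (hCΦ (by simpa using (hpowC 1).2 (by simp)))
  obtain ⟨u, hu⟩ : a ^ 2 ^ m ∈ C := by
    have := (hpowC ((2 ^ m : ℕ) : ℤ)).2 dvd_rfl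
    rwa [zpow_natCast] at this
  have hu' : c ^ u = a ^ 2 ^ m := hu
  have huo : Odd u := by
    obtain ⟨i, hi⟩ := hcA
    have hi' : a ^ i = c := hi
    obtain ⟨s, rfl⟩ := (hpowC i).1 (hi' ▸ Subgroup.mem_zpowers c)
    rw [zpow_mul, zpow_natCast, ← hu', ← zpow_mul] at hi'
    by_contra hne
    rw [Int.not_odd_iff_even] at hne
    have h1 : c ^ (1 : ℤ) ∈ Subgroup.zpowers (c ^ (2 : ℤ)) := by
      obtain ⟨t, rfl⟩ := hne
      refine ⟨t * s, ?_⟩
      show (c ^ (2 : ℤ)) ^ (t * s) = c ^ (1 : ℤ)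
      rw [← zpow_mul, zpow_one]
      conv_rhs => rw [← hi']
      congr 1; ring
    exact absurd (hC2 1 h1) (by decide)
  obtain ⟨w, hw⟩ := hαC c (Subgroup.mem_zpowers c)
  have hw' : c ^ w = α c := hw
  have hwo : Odd w := by
    by_contra hne
    rw [Int.not_odd_iff_even] at hne
    obtain ⟨t, rfl⟩ := hne
    have h1 : (α c) ^ 2 ^ (r - 1) = 1 := by
      rw [← hw', ← zpow_natCast, ← zpow_mul]
      have : ((t + t) * ((2 ^ (r - 1) : ℕ) : ℤ)) = ((2 ^ r : ℕ) : ℤ) * t := by
        conv_rhs => rw [← Nat.sub_add_cancel (Nat.one_le_iff_ne_zero.2 hr0), pow_succ]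
        push_cast; ring
      rw [this, zpow_mul, zpow_natCast, ← hr, pow_orderOf_eq_one, one_zpow]
    have h2 := orderOf_dvd_of_pow_eq_one h1
    rw [MulEquiv.orderOf_eq, hr, Nat.pow_dvd_pow_iff_le_right (by norm_num)] at h2
    omega
  have hub : c ^ (w * u) = b ^ 2 ^ m := by rw [zpow_mul, hw', ← map_zpow, hu', map_pow, ← hb]
  by_cases hm1 : m = 1
  · subst hm1
    rw [pow_one] at hu' hub
    have hc2 : c ^ 2 = 1 := by
      rw [← PGroup.commutatorElement_pow_left (hcent a b), commutatorElement_eq_one_iff_mul_comm,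
        ← hu']
      exact (Subgroup.mem_center_iff.1 (hCz (C.zpow_mem (Subgroup.mem_zpowers c) u)) b).symm
    have hodd : ∀ o : ℤ, Odd o → c ^ o = c := by
      rintro o ⟨t, rfl⟩
      rw [zpow_add, zpow_mul, zpow_one, show c ^ (2 : ℤ) = 1 by exact_mod_cast hc2, one_zpow, one_mul]
    rw [hodd u huo] at hu'
    rw [hodd _ (hwo.mul huo)] at hub
    have horda : orderOf a = 4 := by
      have h := orderOf_eq_prime_pow (x := a) (p := 2) (n := 1)
        (by rw [pow_one, ← hu']; exact hcomm)
        (by rw [show 2 ^ (1 + 1) = 2 * 2 by norm_num, pow_mul, ← hu', hc2])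
      simpa using h
    have hbA : b ∉ Subgroup.zpowers a := by
      rintro ⟨i, hi⟩
      apply hcomm
      rw [hc, commutatorElement_eq_one_iff_mul_comm, show b = a ^ i from hi.symm]
      exact ((Commute.refl a).zpow_right i).eq
    have hbA2 : b ^ 2 ∈ Subgroup.zpowers a := by rw [← hub]; exact hcA
    have hidx : (Subgroup.zpowers a).index = 2 := by
      rw [Subgroup.index_eq_two_iff]
      refine ⟨b, fun g => ?_⟩
      obtain ⟨i, j, rfl⟩ := exists_zpow_mul hgen g
      have hai : a ^ i ∈ Subgroup.zpowers a := ⟨i, rfl⟩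
      have heven : ∀ t : ℤ, b ^ (2 * t) ∈ Subgroup.zpowers a := fun t => by
        rw [zpow_mul]; exact zpow_mem (by exact_mod_cast hbA2) t
      rcases Int.even_or_odd j with ⟨t, rfl⟩ | ⟨t, rfl⟩
      · rw [← two_mul]
        refine Or.inr ⟨mul_mem hai (heven t), fun h => hbA ?_⟩
        rw [Subgroup.mul_mem_cancel_left] at h
        · exact h
        · exact mul_mem hai (heven t)
      · refine Or.inl ⟨?_, fun h => hbA ?_⟩
        · rw [mul_assoc, ← zpow_add_one, show 2 * t + 1 + 1 = 2 * (t + 1) by ring]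
          exact mul_mem hai (heven (t + 1))
        · rw [Subgroup.mul_mem_cancel_left _ hai, zpow_add, zpow_one,
            Subgroup.mul_mem_cancel_left _ (heven t)] at h
          exact h
    refine TwoGroups.equiv_quaternion_of_generators (a := a) (b := b) (n := 2)
      (by rw [horda]) ?_ hbA (by rw [← pow_two, ← hub, hu']) ?_
    · rw [← (Subgroup.zpowers a).card_mul_index, hidx, Nat.card_zpowers, horda]
    · have h1 : ⁅b, a⁆ = c := by
        rw [← commutatorElement_inv, ← hc]
        exact inv_eq_of_mul_eq_one_right (by rw [← pow_two, hc2])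
      rw [commutatorElement_def, mul_inv_eq_iff_eq_mul] at h1
      rw [h1, hu', eq_inv_iff_mul_eq_one, mul_assoc, ← pow_two, ← pow_add]
      rw [show 2 + 2 = 4 by norm_num, ← horda, pow_orderOf_eq_one]
  · exfalso
    have hchoose : ∃ e : ℕ, (2 ^ m).choose 2 = 2 * e := by
      refine ⟨2 ^ (m - 2) * (2 ^ m - 1), ?_⟩
      rw [Nat.choose_two_right]
      have : 2 ^ m = 2 * (2 * 2 ^ (m - 2)) := by
        rw [← pow_succ', ← pow_succ']; congr 1; omega
      rw [this, mul_assoc 2, Nat.mul_div_cancel_left _ (by norm_num)]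
      ring
    obtain ⟨e, he⟩ := hchoose
    set C2 := Subgroup.zpowers (c ^ (2 : ℤ)) with hC2def
    have hsq : ∀ z ∈ C, z ^ 2 ∈ C2 := by
      rintro _ ⟨i, rfl⟩
      refine ⟨i, ?_⟩
      show (c ^ (2 : ℤ)) ^ i = (c ^ i) ^ 2
      rw [← zpow_natCast, ← zpow_mul, ← zpow_mul]; congr 1; push_cast; ring
    have hmulC : ∀ x y : X, ∃ d ∈ C2, (x * y) ^ 2 ^ m = x ^ 2 ^ m * y ^ 2 ^ m * d := fun x y => by
      refine ⟨(⁅y, x⁆ ^ e) ^ 2, hsq _ (C.pow_mem (hcomC y x) e), ?_⟩
      rw [PGroup.mul_pow_of_commutatorElement (hcent y x), ← pow_mul, mul_comm e, ← he]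
    let K : Subgroup X :=
      { carrier := {x | x ^ 2 ^ m ∈ C2}
        one_mem' := by show (1 : X) ^ 2 ^ m ∈ C2; rw [one_pow]; exact one_mem _
        mul_mem' := fun {x y} hx hy => by
          obtain ⟨d, hd, hxy⟩ := hmulC x y
          show (x * y) ^ 2 ^ m ∈ C2
          rw [hxy]; exact mul_mem (mul_mem hx hy) hd
        inv_mem' := fun {x} hx => by
          show x⁻¹ ^ 2 ^ m ∈ C2
          rw [inv_pow]; exact inv_mem hx }
    have hallC : ∀ x : X, x ^ 2 ^ m ∈ C := by
      intro x
      obtain ⟨i, j, rfl⟩ := exists_zpow_mul hgen x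
      obtain ⟨d, hd, hxy⟩ := hmulC (a ^ i) (b ^ j)
      have hd' : d ∈ C :=
        (Subgroup.zpowers_le.2 (C.zpow_mem (Subgroup.mem_zpowers c) 2) : C2 ≤ C) hd
      rw [hxy, ← zpow_natCast, ← zpow_natCast, ← zpow_mul, ← zpow_mul, mul_comm i, mul_comm j,
        zpow_mul, zpow_mul, zpow_natCast, zpow_natCast, ← hu', ← hub]
      exact mul_mem (mul_mem (C.zpow_mem (C.zpow_mem (Subgroup.mem_zpowers c) u) i)
        (C.zpow_mem (C.zpow_mem (Subgroup.mem_zpowers c) _) j)) hd'
    have hKΦ : ∀ x ∈ frattini X, x ∈ K := by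
      intro x hx
      rw [PGroup.frattini_eq_closure_sq hX] at hx
      refine (Subgroup.closure_le K).2 ?_ hx
      rintro _ ⟨y, rfl⟩
      show (y ^ 2) ^ 2 ^ m ∈ C2
      rw [← pow_mul, mul_comm, pow_mul]
      exact hsq _ (hallC y)
    obtain ⟨d, hd, habp⟩ := hmulC a b
    have habK : a * b ∈ K := by
      show (a * b) ^ 2 ^ m ∈ C2
      rw [habp, ← hu', ← hub, ← zpow_add]
      refine mul_mem ?_ hd
      obtain ⟨t, ht⟩ := huo.add_odd (hwo.mul huo)
      refine ⟨t, ?_⟩
      show (c ^ (2 : ℤ)) ^ t = c ^ (u + w * u)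
      rw [← zpow_mul, ht, two_mul]
    have h3 : c3 ^ 2 ^ m ∈ C2 := by
      have := K.mul_mem habK (hKΦ _ hc3)
      rwa [mul_inv_cancel_left] at this
    rw [hc3def, ← map_pow, ← hub, map_zpow, ← hw', ← zpow_mul] at h3
    exact Int.not_even_iff_odd.2 (hwo.mul (hwo.mul huo)) (hC2 _ h3)

end Cfsg.Agent.Tech.MetacyclicTwoAut
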