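import Cfsg.Prelude.Def_Transfer
import Mathlib.GroupTheory.Sylow
import Mathlib.Algebra.Polynomial.AlgebraMap
import Mathlib.Algebra.Ring.GeomSum
import Mathlib.Algebra.CharP.Lemmas
import Mathlib.Algebra.CharP.Algebra
import Mathlib.Algebra.Polynomial.RingDivision
import Mathlib.Algebra.Field.ZMod
import Mathlib.RingTheory.Int.Basic
import Mathlib.FieldTheory.Finite.Basic
import Mathlib.Algebra.Module.LinearMap.End
import Mathlib.Algebra.Module.ZMod
import Mathlib.Data.Nat.Choose.Factorization

/-!
A p-group with an elementary abelian subgroup of index p on which the norm is nontrivial maps onto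
the Sylow p-subgroup of the symmetric group of degree p².
-/

set_option autoImplicit false
set_option linter.style.haveILetI false

namespace Cfsg.Agent.Tech

open Polynomial in
theorem X_sub_one_pow_eq_geom (p : ℕ) [Fact p.Prime] :
    ((X : (ZMod p)[X]) - 1) ^ (p - 1) = ∑ i ∈ Finset.range p, X ^ i := by
  have hne : (X : (ZMod p)[X]) - 1 ≠ 0 := by
    have := Polynomial.X_sub_C_ne_zero (1 : ZMod p)
    simpa using this
  apply mul_right_cancel₀ hne
  rw [← pow_succ, Nat.sub_add_cancel (Fact.out : p.Prime).one_le, geom_sum_mul,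
    sub_pow_char, one_pow]

open Polynomial in
theorem end_sub_one_pow {p : ℕ} [Fact p.Prime] {V : Type*} [AddCommGroup V] [Module (ZMod p) V]
    (T : Module.End (ZMod p) V) (v : V) :
    ((T - 1) ^ (p - 1)) v = ∑ i ∈ Finset.range p, (T ^ i) v := by
  have h := congrArg (fun f => (Polynomial.aeval T f) v) (X_sub_one_pow_eq_geom p)
  simpa using h

theorem sub_iterate_eq_sum {p : ℕ} [Fact p.Prime] {V : Type*} [AddCommGroup V]
    (hV : ∀ v : V, p • v = 0) (τ : V →+ V) (v : V) :
    (fun w => τ w - w)^[p - 1] v = ∑ i ∈ Finset.range p, (⇑τ)^[i] v := by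
  letI : Module (ZMod p) V := AddCommGroup.zmodModule hV
  have h := end_sub_one_pow (τ.toZModLinearMap p) v
  simp only [Module.End.pow_apply] at h
  exact h

theorem factorization_factorial_sq (p : ℕ) [hp : Fact p.Prime] :
    (Nat.factorial (p ^ 2)).factorization p = p + 1 := by
  have h1 : (Nat.factorial (p * p)).factorization p = (Nat.factorial p).factorization p + p :=
    Nat.factorization_factorial_mul hp.out
  have h2 : (Nat.factorial (p * 1)).factorization p = (Nat.factorial 1).factorization p + 1 :=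
    Nat.factorization_factorial_mul hp.out
  rw [mul_one, Nat.factorial_one] at h2
  simp only [Nat.factorization_one, Finsupp.coe_zero, Pi.zero_apply, zero_add] at h2
  rw [sq, h1, h2, add_comm]

variable {P : Type*} [Group P] [Finite P] {p : ℕ} [hp : Fact p.Prime]

theorem wreath_quotient (hP : IsPGroup p P) (A : Subgroup P) [A.Normal]
    (hA : Cfsg.IsElementaryAbelian p A) (hidx : A.index = p) (x y : P) (hx : x ∈ A)
    (hprod : ((List.range p).map (fun i => (y ^ i)⁻¹ * x * y ^ i)).prod ≠ 1) :
    ∃ (Q : Sylow p (Equiv.Perm (Fin (p ^ 2))))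
      (f : P →* ↥(Q : Subgroup (Equiv.Perm (Fin (p ^ 2))))), Function.Surjective f := by
  classical
  obtain ⟨hAc, hAexp⟩ := hA
  letI : CommGroup A :=
    { (inferInstance : Group A) with mul_comm := fun a b => hAc.is_comm.comm a b }
  have hV : ∀ a : Additive A, p • a = 0 := fun a => by
    apply Additive.toMul.injective
    show Additive.toMul a ^ p = 1
    exact Subtype.ext (hAexp _ (Additive.toMul a).2)
  have hconj : ∀ (g : P) (a : A), g⁻¹ * (a : P) * g ∈ A := fun g a => by
    simpa using (inferInstance : A.Normal).conj_mem a a.2 g⁻¹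
  let τ : Additive A →+ Additive A :=
    { toFun := fun a => Additive.ofMul ⟨y⁻¹ * ((Additive.toMul a : A) : P) * y, hconj y _⟩
      map_zero' := by
        apply Additive.toMul.injective; apply Subtype.ext
        show y⁻¹ * 1 * y = 1
        group
      map_add' := fun a b => by
        apply Additive.toMul.injective; apply Subtype.ext
        show y⁻¹ * (((Additive.toMul a : A) : P) * ((Additive.toMul b : A) : P)) * y =
          (y⁻¹ * ((Additive.toMul a : A) : P) * y) * (y⁻¹ * ((Additive.toMul b : A) : P) * y)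
        group }
  let val : Additive A → P := fun a => ((Additive.toMul a : A) : P)
  have hval_add : ∀ a b : Additive A, val (a + b) = val a * val b := fun a b => rfl
  have hval_T : ∀ a : Additive A, val (τ a) = y⁻¹ * val a * y := fun a => rfl
  have hval_sub : ∀ a b : Additive A, val (a - b) = val a * (val b)⁻¹ := fun a b => by
    show ((Additive.toMul (a - b) : A) : P) = _
    rw [toMul_sub, div_eq_mul_inv]
    rfl
  set X₀ : Additive A := Additive.ofMul ⟨x, hx⟩ with hX₀
  have hTpow : ∀ (i : ℕ) (a : Additive A), val ((⇑τ)^[i] a) = (y ^ i)⁻¹ * val a * y ^ i := by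
    intro i
    induction i with
    | zero => intro a; simp
    | succ i ih =>
      intro a
      rw [Function.iterate_succ_apply', hval_T, ih, pow_succ, mul_inv_rev]
      group
  have hsum : ∀ n : ℕ, val (∑ i ∈ Finset.range n, (⇑τ)^[i] X₀) =
      ((List.range n).map (fun i => (y ^ i)⁻¹ * x * y ^ i)).prod := by
    intro n
    induction n with
    | zero => simp [val]
    | succ n ih =>
      rw [Finset.sum_range_succ, hval_add, ih, List.range_succ, List.map_append, List.prod_append,
        hTpow]
      simp [val, X₀]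
  set N := ((List.range p).map (fun i => (y ^ i)⁻¹ * x * y ^ i)).prod with hN
  let d : ℕ → P := fun j => val ((fun w => τ w - w)^[j] X₀)
  have hdN : d (p - 1) = N := by
    show val _ = N
    rw [sub_iterate_eq_sum hV, hsum]
  have hdA : ∀ j, d j ∈ A := fun j => (Additive.toMul ((fun w => τ w - w)^[j] X₀) : A).2
  have hdsucc : ∀ j, d (j + 1) = y⁻¹ * d j * y * (d j)⁻¹ := by
    intro j
    show val _ = _
    rw [Function.iterate_succ_apply', hval_sub, hval_T]
  have hyp : y ^ p ∈ A := by
    have := Subgroup.pow_index_mem A y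
    rwa [hidx] at this
  have hNA : N ∈ A := hdN ▸ hdA _
  have hcomm : ∀ a ∈ A, ∀ b ∈ A, a * b = b * a := fun a ha b hb =>
    congrArg Subtype.val (hAc.is_comm.comm ⟨a, ha⟩ ⟨b, hb⟩)
  have hTp : ∀ a : Additive A, (⇑τ)^[p] a = a := by
    intro a
    apply Additive.toMul.injective; apply Subtype.ext
    show val ((⇑τ)^[p] a) = val a
    rw [hTpow, mul_assoc, hcomm _ (Additive.toMul a).2 _ hyp, inv_mul_cancel_left]
  have hyN : y⁻¹ * N * y = N := by
    rw [← hdN]
    show y⁻¹ * val _ * y = val _
    rw [← hval_T]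
    congr 1
    rw [sub_iterate_eq_sum hV, map_sum]
    have h1 := Finset.sum_range_succ (fun i => (⇑τ)^[i] X₀) p
    rw [Finset.sum_range_succ' (fun i => (⇑τ)^[i] X₀) p] at h1
    simp only [hTp, Function.iterate_zero_apply] at h1
    have h2 := add_right_cancel h1
    simpa only [Function.iterate_succ_apply'] using h2
  -- a subgroup of index `p` in `A` avoiding `N`
  obtain ⟨M, -, hM⟩ := Finite.exists_le_maximal (p := fun M : Subgroup P => M ≤ A ∧ N ∉ M) (a := ⊥)
    ⟨bot_le, fun h => hprod (Subgroup.mem_bot.mp h)⟩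
  obtain ⟨hMA, hNM⟩ := hM.prop
  haveI hMn : (M.subgroupOf A).Normal := ⟨fun a ha g => by
    show (g : P) * a * (g : P)⁻¹ ∈ M
    rw [hcomm g g.2 a a.2, mul_inv_cancel_right]; exact ha⟩
  have hNorder : orderOf (⟨N, hNA⟩ : A) = p :=
    orderOf_eq_prime (Subtype.ext (hAexp N hNA)) (fun h => hprod (congrArg Subtype.val h))
  have hsup : A ≤ M ⊔ Subgroup.zpowers N := by
    intro a ha
    by_contra hcon
    set M' := M ⊔ Subgroup.zpowers a with hM'
    have hM'A : M' ≤ A := sup_le hMA (Subgroup.zpowers_le.mpr ha)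
    have hNM' : N ∈ M' := by
      by_contra h
      exact hcon (Subgroup.mem_sup_left (hM.le_of_ge ⟨hM'A, h⟩ le_sup_left
        (Subgroup.mem_sup_right (Subgroup.mem_zpowers a))))
    have hn : Subgroup.zpowers a ≤ Subgroup.normalizer (M : Set P) := by
      refine (Subgroup.zpowers_le.mpr ?_)
      rw [Subgroup.mem_normalizer_iff]
      intro m
      constructor
      · intro hm; rw [hcomm a ha m (hMA hm), mul_inv_cancel_right]; exact hm
      · intro hm
        have hmA : m ∈ A := by
          have := A.mul_mem (A.mul_mem (A.inv_mem ha) (hMA hm)) ha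
          simpa [mul_assoc] using this
        rwa [hcomm a ha m hmA, mul_inv_cancel_right] at hm
    have h2 : N ∈ ((M ⊔ Subgroup.zpowers a : Subgroup P) : Set P) := hNM'
    rw [Subgroup.coe_mul_of_right_le_normalizer_left M _ hn] at h2
    obtain ⟨m, hm, _, ⟨k, rfl⟩, hmk⟩ := h2
    change m * a ^ k = N at hmk
    have hk : ¬ (p : ℤ) ∣ k := by
      rintro ⟨c, rfl⟩
      rw [zpow_mul, zpow_natCast, hAexp a ha, one_zpow, mul_one] at hmk
      exact hNM (hmk ▸ hm)
    obtain ⟨u, v, huv⟩ := (Nat.prime_iff_prime_int.mp hp.out).coprime_iff_not_dvd.mpr hk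
    have hak : a = (a ^ k) ^ v := by
      rw [← zpow_mul]
      have h3 : a = a ^ (u * (p : ℤ) + v * k) := by rw [huv, zpow_one]
      rw [zpow_add, mul_comm u, zpow_mul, zpow_natCast, hAexp a ha, one_zpow, one_mul,
        mul_comm v] at h3
      exact h3
    have hakM : a ^ k ∈ M ⊔ Subgroup.zpowers N := by
      rw [eq_inv_mul_of_mul_eq hmk]
      exact mul_mem (Subgroup.mem_sup_left (inv_mem hm)) (Subgroup.mem_sup_right (Subgroup.mem_zpowers N))
    exact hcon (hak ▸ zpow_mem hakM v)
  have hMrel : M.relIndex A = p := by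
    have hle : M.relIndex A ≤ p := by
      rw [Subgroup.relIndex, Subgroup.index]
      refine le_trans (Nat.card_le_card_of_surjective
        (fun n : Subgroup.zpowers (⟨N, hNA⟩ : A) => (QuotientGroup.mk (n : A) : A ⧸ M.subgroupOf A)) ?_) ?_
      · intro q
        induction q using QuotientGroup.induction_on with
        | H a =>
          have h : (a : P) ∈ ((M ⊔ Subgroup.zpowers N : Subgroup P) : Set P) := hsup a.2
          rw [Subgroup.coe_mul_of_right_le_normalizer_left M _ (Subgroup.zpowers_le.mpr (by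
            rw [Subgroup.mem_normalizer_iff]
            intro m
            constructor
            · intro hm; rw [hcomm N hNA m (hMA hm), mul_inv_cancel_right]; exact hm
            · intro hm
              have hmA : m ∈ A := by
                have := A.mul_mem (A.mul_mem (A.inv_mem hNA) (hMA hm)) hNA
                simpa [mul_assoc] using this
              rwa [hcomm N hNA m hmA, mul_inv_cancel_right] at hm))] at h
          obtain ⟨m, hm, _, ⟨k, rfl⟩, hmk⟩ := h
          change m * N ^ k = a at hmk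
          refine ⟨⟨(⟨N, hNA⟩ : A) ^ k, Subgroup.zpow_mem_zpowers _ k⟩, ?_⟩
          rw [QuotientGroup.eq]
          show ((N ^ k)⁻¹ * (a : P)) ∈ M
          rw [← hmk, ← mul_assoc, hcomm _ (A.inv_mem (A.zpow_mem hNA k)) m (hMA hm),
            mul_assoc, inv_mul_cancel, mul_one]
          exact hm
      · rw [Nat.card_zpowers, hNorder]
    obtain ⟨i, hi⟩ := (hP.to_subgroup A).index (M.subgroupOf A)
    change M.relIndex A = p ^ i at hi
    rcases i with _ | _ | i
    · exfalso
      exact hNM (Subgroup.relIndex_eq_one.mp (by simpa using hi) hNA)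
    · simpa using hi
    · exfalso
      rw [hi] at hle
      have : p ^ 2 ≤ p ^ (i + 1 + 1) := Nat.pow_le_pow_right hp.out.pos (by omega)
      nlinarith [hp.out.two_le]
  have hMidx : M.index = p ^ 2 := by
    rw [← Subgroup.relIndex_mul_index hMA, hMrel, hidx, sq]
  -- the action on the cosets of `M`
  set K := M.normalCore with hK
  have hKM : K ≤ M := M.normalCore_le
  let S : Set P := {a | a ∈ A}
  let t : P → P := fun a => y⁻¹ * a * y * a⁻¹
  have htK : ∀ a ∈ K, t a ∈ K := fun a ha =>
    K.mul_mem (by simpa using (M.normalCore_normal).conj_mem a ha y⁻¹) (K.inv_mem ha)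
  obtain ⟨C, hC0, hCsucc⟩ : ∃ C : ℕ → Subgroup P, C 0 = K ∧
      ∀ m, C (m + 1) = C m ⊔ Subgroup.zpowers (d (p - 1 - m)) :=
    ⟨fun m => Nat.rec K (fun i C => C ⊔ Subgroup.zpowers (d (p - 1 - i))) m, rfl, fun m => rfl⟩
  have hCA : ∀ m, C m ≤ A := by
    intro m
    induction m with
    | zero => rw [hC0]; exact hKM.trans hMA
    | succ m ih => rw [hCsucc]; exact sup_le ih (Subgroup.zpowers_le.mpr (hdA _))
  let tA : A →* A := MonoidHom.mk' (fun a => ⟨t a, A.mul_mem (hconj y a) (A.inv_mem a.2)⟩)
    (fun a b => by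
      apply Subtype.ext
      show y⁻¹ * ((a : P) * b) * y * ((a : P) * b)⁻¹ = (y⁻¹ * a * y * (a : P)⁻¹) * (y⁻¹ * b * y * (b : P)⁻¹)
      calc _ = (y⁻¹ * a * y) * (y⁻¹ * b * y * (b : P)⁻¹) * (a : P)⁻¹ := by group
        _ = (y⁻¹ * a * y) * ((a : P)⁻¹ * (y⁻¹ * b * y * (b : P)⁻¹)) := by
          rw [mul_assoc _ _ ((a : P)⁻¹)]
          rw [hcomm _ (A.mul_mem (hconj y b) (A.inv_mem b.2)) _ (A.inv_mem a.2)]
        _ = _ := by group)
  have hstep : ∀ m, m ≤ p - 1 → (∀ a ∈ C (m + 1), t a ∈ C m) ∧ d (p - 1 - m) ∉ C m := by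
    intro m
    induction m with
    | zero =>
      intro _
      rw [hC0]
      refine ⟨fun a ha => ?_, ?_⟩
      · let U : Subgroup A := ((K.subgroupOf A).comap tA)
        have hle : (C 1).subgroupOf A ≤ U := by
          rw [hCsucc, Subgroup.subgroupOf_sup (hCA 0) (Subgroup.zpowers_le.mpr (hdA _)), hC0]
          refine sup_le (fun b hb => htK b hb) ?_
          rintro ⟨b, hb⟩ ⟨k, hk⟩
          change d (p - 1) ^ k = b at hk
          have hN1 : (⟨d (p - 1), hdA _⟩ : A) ∈ U := by
            show t (d (p - 1)) ∈ K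
            rw [hdN]
            show y⁻¹ * N * y * N⁻¹ ∈ K
            rw [hyN, mul_inv_cancel]; exact K.one_mem
          have : (⟨b, hb⟩ : A) = (⟨d (p - 1), hdA _⟩ : A) ^ k := Subtype.ext hk.symm
          rw [this]; exact zpow_mem hN1 k
        exact hle (show (⟨a, hCA 1 ha⟩ : A) ∈ (C 1).subgroupOf A from ha)
      · show d (p - 1) ∉ K
        rw [hdN]; exact fun h => hNM (hKM h)
    | succ m ih =>
      intro hm
      obtain ⟨h1, h2⟩ := ih (by omega)
      have hd : t (d (p - 1 - (m + 1))) = d (p - 1 - m) := by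
        show y⁻¹ * _ * y * _ = _
        rw [← hdsucc, show p - 1 - (m + 1) + 1 = p - 1 - m by omega]
      refine ⟨fun a ha => ?_, fun h => h2 (hd ▸ h1 _ h)⟩
      let U : Subgroup A := ((C (m + 1)).subgroupOf A).comap tA
      have hle : (C (m + 1 + 1)).subgroupOf A ≤ U := by
        rw [hCsucc, Subgroup.subgroupOf_sup (hCA _) (Subgroup.zpowers_le.mpr (hdA _))]
        refine sup_le (fun b hb => ?_) ?_
        · show t b ∈ C (m + 1)
          rw [hCsucc]; exact Subgroup.mem_sup_left (h1 b hb)
        · rintro ⟨b, hb⟩ ⟨k, hk⟩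
          change d (p - 1 - (m + 1)) ^ k = b at hk
          have h3 : (⟨d (p - 1 - (m + 1)), hdA _⟩ : A) ∈ U := by
            show t (d (p - 1 - (m + 1))) ∈ C (m + 1)
            rw [hd, hCsucc]; exact Subgroup.mem_sup_right (Subgroup.mem_zpowers _)
          have : (⟨b, hb⟩ : A) = (⟨d (p - 1 - (m + 1)), hdA _⟩ : A) ^ k := Subtype.ext hk.symm
          rw [this]; exact zpow_mem h3 k
      exact hle (show (⟨a, hCA _ ha⟩ : A) ∈ (C (m + 1 + 1)).subgroupOf A from ha)
  have hcard : ∀ m, m ≤ p → p ^ m * Nat.card K ≤ Nat.card (C m) := by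
    intro m
    induction m with
    | zero => intro _; rw [hC0, pow_zero, one_mul]
    | succ m ih =>
      intro hm
      have hle : C m ≤ C (m + 1) := by rw [hCsucc]; exact le_sup_left
      obtain ⟨i, hi⟩ := (hP.to_subgroup (C (m + 1))).index ((C m).subgroupOf (C (m + 1)))
      change (C m).relIndex (C (m + 1)) = p ^ i at hi
      have hi0 : i ≠ 0 := by
        rintro rfl
        rw [pow_zero, Subgroup.relIndex_eq_one] at hi
        exact (hstep m (by omega)).2 (hi (by rw [hCsucc]; exact Subgroup.mem_sup_right (Subgroup.mem_zpowers _)))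
      have hmul : Nat.card (C m) * (C m).relIndex (C (m + 1)) = Nat.card (C (m + 1)) := by
        rw [← Subgroup.relIndex_bot_left, ← Subgroup.relIndex_bot_left]
        exact Subgroup.relIndex_mul_relIndex _ _ _ bot_le hle
      rw [← hmul, hi, pow_succ', mul_assoc, mul_comm (Nat.card (C m))]
      exact Nat.mul_le_mul (Nat.le_self_pow hi0 p) (ih (by omega))
  have hA' : p ^ p * Nat.card K ≤ Nat.card A :=
    (hcard p le_rfl).trans (Subgroup.card_le_of_le (hCA p))
  have hKidx : p ^ (p + 1) ≤ K.index := by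
    have h1 : Nat.card A * p = Nat.card K * K.index := by
      rw [← hidx, Subgroup.card_mul_index, Subgroup.card_mul_index]
    have h2 : p ^ (p + 1) * Nat.card K ≤ K.index * Nat.card K := by
      rw [mul_comm K.index, ← h1, pow_succ, mul_right_comm]
      exact Nat.mul_le_mul_right p hA'
    exact Nat.le_of_mul_le_mul_right h2 Nat.card_pos
  let e : P ⧸ M ≃ Fin (p ^ 2) :=
    (Finite.equivFinOfCardEq (by rw [← hMidx]; rfl))
  let ρ : P →* Equiv.Perm (Fin (p ^ 2)) :=
    (Equiv.permCongrHom e).toMonoidHom.comp (MulAction.toPermHom P (P ⧸ M))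
  have hker : ρ.ker = K := by
    rw [hK, Subgroup.normalCore_eq_ker]
    ext g
    simp only [ρ, MonoidHom.mem_ker, MonoidHom.comp_apply, MulEquiv.coe_toMonoidHom]
    exact (Equiv.permCongrHom e).map_eq_one_iff
  obtain ⟨Q, hQ⟩ := (hP.to_subgroup ⊤ |>.map ρ).exists_le_sylow
  have hQcard : Nat.card (Q : Subgroup (Equiv.Perm (Fin (p ^ 2)))) = p ^ (p + 1) := by
    rw [Sylow.card_eq_multiplicity, Nat.card_eq_fintype_card, Fintype.card_perm, Fintype.card_fin,
      factorization_factorial_sq]
  have hrange : (⊤ : Subgroup P).map ρ = Q := by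
    refine Subgroup.eq_of_le_of_card_ge hQ ?_
    rw [hQcard, ← MonoidHom.range_eq_map, ← Subgroup.index_ker, hker]
    exact hKidx
  refine ⟨Q, ρ.codRestrict _ (fun g => hQ ⟨g, Subgroup.mem_top g, rfl⟩), fun q => ?_⟩
  have hq : (q : Equiv.Perm (Fin (p ^ 2))) ∈ (⊤ : Subgroup P).map ρ := by rw [hrange]; exact q.2
  obtain ⟨g, -, hg⟩ := hq
  exact ⟨g, Subtype.ext hg⟩

end Cfsg.Agent.Tech
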