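import Cfsg.Prelude.Def_Local
import Cfsg.Agent.Fusion.Basic
import Cfsg.Agent.Tech.Basic

/-!
Two conjugates of a tightly embedded subgroup: the Sylow 2-structure of their mutual normalizers.
-/

set_option autoImplicit false

namespace Cfsg.Agent.Tech

open Cfsg.Agent.Fusion
open scoped commutatorElement

variable {G : Type*} [Group G] [Finite G]

/-- A p-subgroup of index prime to `p` in `M` is maximal among p-subgroups of `M`. -/
theorem eq_of_le_of_relIndex {p : ℕ} [Fact p.Prime] {A B M : Subgroup G} (hAB : A ≤ B)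
    (hB : IsPGroup p B) (hBM : B ≤ M) (hA : ¬ p ∣ A.relIndex M) : A = B := by
  refine le_antisymm hAB (Subgroup.relIndex_eq_one.mp ?_)
  obtain ⟨k, hk⟩ := hB.index (A.subgroupOf B)
  change A.relIndex B = p ^ k at hk
  rcases k with _ | k
  · simpa using hk
  · exfalso
    exact hA (((dvd_pow_self p k.succ_ne_zero).trans (dvd_of_eq hk.symm)).trans
      ⟨_, (Subgroup.relIndex_mul_relIndex A B M hAB hBM).symm⟩)

/-- A subgroup cut out of a normal subgroup `N` of `X` by a Sylow subgroup of `X`. -/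
theorem relIndex_not_dvd_of_normalizes {p : ℕ} [Fact p.Prime] {S N X : Subgroup G}
    (hS : IsPGroup p S) (hSX : S ≤ X) (hNX : N ≤ X) (hn : X ≤ Subgroup.normalizer (N : Set G))
    (hrel : ¬ p ∣ S.relIndex X) : ¬ p ∣ (S ⊓ N).relIndex N := by
  haveI : (N.subgroupOf X).Normal := Subgroup.normal_subgroupOf_of_le_normalizer hn
  obtain ⟨Q, hQ⟩ := exists_sylow_of_inf_normal ((hS.comap_subtype (K := X)).toSylow hrel)
    (N.subgroupOf X)
  rw [Subgroup.inf_relIndex_right, ← Subgroup.relIndex_subgroupOf hNX]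
  rw [← Subgroup.inf_relIndex_right]
  have h : ((hS.comap_subtype (K := X)).toSylow hrel : Subgroup X) = S.subgroupOf X := rfl
  rw [← h, ← hQ, Subgroup.relIndex]
  rw [show ((Q : Subgroup ↥(N.subgroupOf X)).map (N.subgroupOf X).subtype).subgroupOf
      (N.subgroupOf X) = Q from
    Subgroup.comap_map_eq_self_of_injective (N.subgroupOf X).subtype_injective _]
  exact Q.not_dvd_index

/-- A nontrivial group normalized by a p-group, inside one p-group, has nontrivial fixed points. -/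
theorem exists_centralized {p : ℕ} [Fact p.Prime] {T W : Subgroup G} (hT : IsPGroup p T)
    (hW : IsPGroup p W) (hW1 : W ≠ ⊥) (hn : T ≤ Subgroup.normalizer (W : Set G)) :
    ∃ w ∈ W, w ≠ 1 ∧ ∀ t ∈ T, t * w = w * t := by
  classical
  haveI : Nontrivial W := (Subgroup.nontrivial_iff_ne_bot W).mpr hW1
  letI : MulAction T W :=
    { smul := fun t w => ⟨(t : G) * w * (t : G)⁻¹, (Subgroup.mem_normalizer_iff.mp (hn t.2) w).mp w.2⟩
      one_smul := fun w => Subtype.ext (by show (1 : G) * w * (1 : G)⁻¹ = w; group)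
      mul_smul := fun s t w => Subtype.ext (by
        show (s * t : G) * w * (s * t : G)⁻¹ = s * ((t : G) * w * (t : G)⁻¹) * (s : G)⁻¹
        group) }
  obtain ⟨n, hn0, hcard⟩ := hW.nontrivial_iff_card.mp inferInstance
  have h1 : (1 : W) ∈ MulAction.fixedPoints T W := fun t => Subtype.ext (by
    show (t : G) * 1 * (t : G)⁻¹ = 1; group)
  obtain ⟨b, hb, hne⟩ := hT.exists_fixed_point_of_prime_dvd_card_of_fixed_point (α := W)
    (hcard ▸ dvd_pow_self p hn0.ne') h1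
  refine ⟨b, b.2, fun h => hne (Subtype.ext h.symm), fun t ht => ?_⟩
  exact mul_inv_eq_iff_eq_mul.mp (congrArg Subtype.val (hb ⟨t, ht⟩))

/-- Distinct conjugates of `Q` meet in no nontrivial 2-subgroup. -/
theorem tight_inter {Q : Subgroup G} (hQ : IsTightlyEmbedded Q) {a b : G}
    (hne : cj a Q ≠ cj b Q) {X : Subgroup G} (hX : IsPGroup 2 X) (ha : X ≤ cj a Q)
    (hb : X ≤ cj b Q) : X = ⊥ := by
  have hg : a⁻¹ * b ∉ Subgroup.normalizer (Q : Set G) := by
    intro h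
    apply hne
    calc cj a Q = cj a (cj (a⁻¹ * b) Q) := by rw [cj_eq_of_mem h]
      _ = cj b Q := by rw [cj_cj, mul_inv_cancel_left]
  have hle : cj a⁻¹ X ≤ Q ⊓ cj (a⁻¹ * b) Q := by
    refine le_inf ?_ ?_
    · exact le_cj_iff.mp ha
    · rw [← cj_cj]; exact cj_mono _ hb
  have hodd : Odd (Nat.card X) := by
    rw [← card_cj a⁻¹]
    exact (hQ.2 _ hg).of_dvd_nat (Subgroup.card_dvd_of_le hle)
  obtain ⟨k, hk⟩ := IsPGroup.iff_card.mp hX
  rcases k with _ | k
  · exact Subgroup.card_eq_one.mp (by simpa using hk)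
  · exfalso
    rw [hk] at hodd
    exact Nat.not_even_iff_odd.mpr hodd (by simp [parity_simps])

theorem mem_normalizer_of_centralizes {Q : Subgroup G} (hQ : IsTightlyEmbedded Q) {a x : G}
    {X : Subgroup G} (hX : IsPGroup 2 X) (hX1 : X ≠ ⊥) (hXa : X ≤ cj a Q)
    (hc : ∀ t ∈ X, t * x = x * t) : x ∈ Subgroup.normalizer (cj a Q : Set G) := by
  rw [← cj_eq_iff_mem_normalizer]
  by_contra hne
  refine hX1 (tight_inter hQ (a := x * a) (b := a) (by rw [← cj_cj]; exact hne) hX ?_ hXa)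
  intro t ht
  rw [← cj_cj, mem_cj, mul_assoc, hc t ht, inv_mul_cancel_left]
  exact hXa ht

/-- The data attached to two distinct conjugates `cj a Q`, `cj b Q`. -/
theorem tight_step {Q : Subgroup G} (hQ : IsTightlyEmbedded Q) {a b : G} (hne : cj a Q ≠ cj b Q)
    {T S : Subgroup G} (hT : IsPGroup 2 T) (hT1 : T ≠ ⊥)
    (hTle : T ≤ cj b Q ⊓ Subgroup.normalizer (cj a Q : Set G))
    (hTmax : ¬ 2 ∣ T.relIndex (cj b Q ⊓ Subgroup.normalizer (cj a Q : Set G)))
    (hS : IsPGroup 2 S) (hTS : T ≤ S) (hSX : S ≤ cj a Q ⊔ T)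
    (hSmax : ¬ 2 ∣ S.relIndex (cj a Q ⊔ T)) :
    T ⊓ cj a Q = ⊥ ∧ ⁅T, S ⊓ Subgroup.normalizer (T : Set G) ⊓ cj a Q⁆ = ⊥ ∧
      T ⊔ (S ⊓ Subgroup.normalizer (T : Set G) ⊓ cj a Q) = S ⊓ Subgroup.normalizer (T : Set G) ∧
      S ⊓ Subgroup.normalizer (T : Set G) ⊓ cj a Q ≠ ⊥ ∧
      S ⊓ Subgroup.normalizer (T : Set G) ⊓ cj a Q ≤ Subgroup.normalizer (cj b Q : Set G) ∧
      ∃ f : T →* ↥(S ⊓ Subgroup.normalizer (T : Set G) ⊓ cj a Q), Function.Injective f := by
  set A := cj a Q with hA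
  set B := cj b Q with hB
  set U := S ⊓ Subgroup.normalizer (T : Set G) ⊓ A with hU
  have hTA : T ⊓ A = ⊥ := tight_inter hQ hne (hT.to_le inf_le_left) inf_le_right
    (inf_le_left.trans (hTle.trans inf_le_left))
  have hTn : T ≤ Subgroup.normalizer (A : Set G) := hTle.trans inf_le_right
  have hcomm : ⁅T, U⁆ = ⊥ := by
    rw [eq_bot_iff, ← hTA, Subgroup.commutator_le]
    intro t ht u hu
    have e1 : ⁅t, u⁆ = t * (u * t⁻¹ * u⁻¹) := by rw [commutatorElement_def]; group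
    refine ⟨?_, ?_⟩
    · rw [e1]
      exact mul_mem ht ((Subgroup.mem_normalizer_iff.mp hu.1.2 t⁻¹).mp (T.inv_mem ht))
    · rw [commutatorElement_def]
      exact mul_mem ((Subgroup.mem_normalizer_iff.mp (hTn ht) u).mp hu.2) (A.inv_mem hu.2)
  have hcT : ∀ t ∈ T, ∀ u ∈ U, t * u = u * t := by
    intro t ht u hu
    have h : ⁅t, u⁆ = 1 := Subgroup.mem_bot.mp (hcomm ▸ Subgroup.commutator_mem_commutator ht hu)
    exact commutatorElement_eq_one_iff_mul_comm.mp h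
  have hsplit : ∀ s ∈ S, ∃ q ∈ S ⊓ A, ∃ t ∈ T, s = q * t := by
    intro s hs
    have h : s ∈ ((A ⊔ T : Subgroup G) : Set G) := hSX hs
    rw [Subgroup.coe_mul_of_right_le_normalizer_left A T hTn] at h
    obtain ⟨q, hq, t, ht, rfl⟩ := h
    exact ⟨q, ⟨(Subgroup.mul_mem_cancel_right _ (hTS ht)).mp hs, hq⟩, t, ht, rfl⟩
  have hsup : T ⊔ U = S ⊓ Subgroup.normalizer (T : Set G) := by
    refine le_antisymm (sup_le (le_inf hTS Subgroup.le_normalizer) inf_le_left) fun s hs => ?_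
    obtain ⟨q, hq, t, ht, rfl⟩ := hsplit s hs.1
    have hqn : q ∈ Subgroup.normalizer (T : Set G) :=
      (Subgroup.mul_mem_cancel_right _ (Subgroup.le_normalizer ht)).mp hs.2
    exact mul_mem (Subgroup.mem_sup_right ⟨⟨hq.1, hqn⟩, hq.2⟩) (Subgroup.mem_sup_left ht)
  have hSAmax : ¬ 2 ∣ (S ⊓ A).relIndex A := relIndex_not_dvd_of_normalizes hS hSX le_sup_left
    (sup_le Subgroup.le_normalizer hTn) hSmax
  have hSA1 : S ⊓ A ≠ ⊥ := by
    intro h
    rw [h, Subgroup.relIndex_bot_left, hA, card_cj] at hSAmax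
    exact hSAmax (even_iff_two_dvd.mp hQ.1)
  have hTnSA : T ≤ Subgroup.normalizer ((S ⊓ A : Subgroup G) : Set G) := by
    intro t ht
    rw [← cj_eq_iff_mem_normalizer, cj_inf, cj_eq_self_of_mem (hTS ht), cj_eq_of_mem (hTn ht)]
  obtain ⟨w, hw, hw1, hwc⟩ := exists_centralized hT (hS.to_le inf_le_left) hSA1 hTnSA
  have hUne : U ≠ ⊥ := by
    intro h
    refine hw1 (Subgroup.mem_bot.mp (h ▸ ⟨⟨hw.1, ?_⟩, hw.2⟩))
    exact Subgroup.centralizer_le_normalizer _ (fun t ht => hwc t ht)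
  have hUB : U ≤ Subgroup.normalizer (B : Set G) := fun u hu =>
    mem_normalizer_of_centralizes hQ hT hT1 (hTle.trans inf_le_left) (fun t ht => hcT t ht u hu)
  refine ⟨hTA, hcomm, hsup, hUne, hUB, ?_⟩
  by_cases hSN : S ≤ Subgroup.normalizer (T : Set G)
  · -- `U` is a Sylow subgroup of `A`; a conjugate of `T` lies in it
    have hUeq : U = S ⊓ A := by rw [hU, inf_eq_left.mpr hSN]
    have hTc : cj (a * b⁻¹) T ≤ A := by
      refine (cj_mono _ (hTle.trans inf_le_left)).trans ?_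
      rw [hB, cj_cj, inv_mul_cancel_right]
    obtain ⟨P, hP1, hP2⟩ := exists_sylow_inf_relIndex (p := 2) (isPGroup_cj hT (a * b⁻¹)) hTc
    obtain ⟨y, hy, hyP⟩ := exists_conj_of_relIndex (P.2.to_le (inf_le_left (b := A)))
      (hS.to_le (inf_le_left (b := A))) inf_le_right inf_le_right hP2 hSAmax
    have hsub : cj (y * (a * b⁻¹)) T ≤ U := by
      rw [hUeq, ← cj_cj, ← hyP]; exact cj_mono _ (le_inf hP1 hTc)
    let e : T →* U :=
      ((MulAut.conj (y * (a * b⁻¹))).toMonoidHom.comp T.subtype).codRestrict U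
        (fun t => hsub ⟨t, t.2, rfl⟩)
    exact ⟨e, fun t t' h => Subtype.ext
      ((MulAut.conj (y * (a * b⁻¹))).injective (congrArg Subtype.val h))⟩
  · have hlt : S ⊓ Subgroup.normalizer (T : Set G) < S :=
      lt_of_le_of_ne inf_le_left fun h => hSN (inf_eq_left.mp h)
    obtain ⟨s, hs, hsN⟩ := SetLike.exists_of_lt (lt_normalizer_inf hS hlt)
    have hTs : cj s T ≤ S ⊓ Subgroup.normalizer (T : Set G) := by
      refine (cj_mono s (le_inf hTS Subgroup.le_normalizer)).trans ?_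
      rw [cj_eq_of_mem hs.2]
    have hsB : cj s B ≠ B := by
      intro h
      apply hsN
      refine ⟨hs.1, ?_⟩
      have hsA : cj s A = A := by
        obtain ⟨q, hq, t, ht, rfl⟩ := hsplit s hs.1
        exact cj_eq_of_mem (mul_mem (Subgroup.le_normalizer hq.2) (hTn ht))
      have h1 : cj s T ≤ B ⊓ Subgroup.normalizer (A : Set G) := by
        refine (cj_mono s hTle).trans ?_
        rw [cj_inf, h, cj_normalizer, hsA]
      have h2 : T ⊔ cj s T ≤ B ⊓ Subgroup.normalizer (A : Set G) := sup_le hTle h1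
      have h3 : IsPGroup 2 (T ⊔ cj s T : Subgroup G) :=
        hS.to_le (sup_le hTS (hTs.trans inf_le_left))
      have h4 := eq_of_le_of_relIndex le_sup_left h3 h2 hTmax
      show s ∈ Subgroup.normalizer (T : Set G)
      rw [← cj_eq_iff_mem_normalizer]
      have h5 : cj s T ≤ T := le_sup_right.trans h4.ge
      exact Subgroup.eq_of_le_of_card_ge h5 (card_cj s T).ge
    have hTB : T ≤ B := fun t ht => (hTle ht).1
    have hne' : cj (s * b) Q ≠ cj b Q := by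
      intro h
      apply hsB
      rw [hB, cj_cj]
      exact h
    have hX1 : cj s T ⊓ T ≤ cj (s * b) Q := by
      intro x hx
      have h := cj_mono s hTB hx.1
      rw [hB, cj_cj] at h
      exact h
    have hX2 : cj s T ⊓ T ≤ cj b Q := fun x hx => hTB hx.2
    have hX0 : IsPGroup 2 (cj s T ⊓ T : Subgroup G) := hT.to_le inf_le_right
    have hTTs : cj s T ⊓ T = ⊥ := tight_inter hQ hne' hX0 hX1 hX2
    have hdec : ∀ x ∈ S ⊓ Subgroup.normalizer (T : Set G), ∃ u ∈ U, x * u⁻¹ ∈ T := by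
      intro x hx
      obtain ⟨q, hq, t, ht, rfl⟩ := hsplit x hx.1
      have hqn : q ∈ Subgroup.normalizer (T : Set G) :=
        (Subgroup.mul_mem_cancel_right _ (Subgroup.le_normalizer ht)).mp hx.2
      exact ⟨q, ⟨⟨hq.1, hqn⟩, hq.2⟩, (Subgroup.mem_normalizer_iff.mp hqn t).mp ht⟩
    choose g hgU hgT using hdec
    have huniq : ∀ x hx, ∀ u ∈ U, x * u⁻¹ ∈ T → g x hx = u := by
      intro x hx u hu hxu
      have h : (x * u⁻¹)⁻¹ * (x * (g x hx)⁻¹) = u * (g x hx)⁻¹ := by group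
      have h2 : u * (g x hx)⁻¹ ∈ T ⊓ A :=
        ⟨h ▸ T.mul_mem (T.inv_mem hxu) (hgT x hx), A.mul_mem hu.2 (A.inv_mem (hgU x hx).2)⟩
      rw [hTA, Subgroup.mem_bot, mul_inv_eq_one] at h2
      exact h2.symm
    let e : T →* U := MonoidHom.mk'
      (fun t => ⟨g (s * t * s⁻¹) (hTs ⟨t, t.2, rfl⟩), hgU _ _⟩) (fun t t' => by
        apply Subtype.ext
        simp only [Subgroup.coe_mul]
        refine huniq _ _ _ (mul_mem (hgU _ _) (hgU _ _)) ?_
        set x := s * (t : G) * s⁻¹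
        set x' := s * (t' : G) * s⁻¹
        set u := g x (hTs ⟨t, t.2, rfl⟩)
        set u' := g x' (hTs ⟨t', t'.2, rfl⟩)
        have e1 : (s * ((t : G) * (t' : G)) * s⁻¹) * (u * u')⁻¹ = x * (x' * u'⁻¹) * u⁻¹ := by
          simp only [x, x']; group
        show (s * ((t : G) * (t' : G)) * s⁻¹) * (u * u')⁻¹ ∈ T
        rw [e1]
        have hx1 : x' * u'⁻¹ ∈ T := hgT _ _
        have hxu : x * u⁻¹ ∈ T := hgT _ _
        have e2 : x * (x' * u'⁻¹) * u⁻¹ = (x * u⁻¹) * (u * (x' * u'⁻¹) * u⁻¹) := by group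
        rw [e2]
        exact mul_mem hxu ((Subgroup.mem_normalizer_iff.mp (hgU _ _).1.2 _).mp hx1))
    refine ⟨e, (injective_iff_map_eq_one e).mpr fun t ht => ?_⟩
    have h1 : g (s * t * s⁻¹) (hTs ⟨t, t.2, rfl⟩) = 1 := congrArg Subtype.val ht
    have h2 := hgT (s * t * s⁻¹) (hTs ⟨t, t.2, rfl⟩)
    rw [h1, inv_one, mul_one] at h2
    have h3 : s * (t : G) * s⁻¹ ∈ cj s T ⊓ T := ⟨⟨t, t.2, by simp⟩, h2⟩
    rw [hTTs, Subgroup.mem_bot, conj_eq_one_iff] at h3
    exact Subtype.ext h3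

theorem tight_main {Q : Subgroup G} (hQ : IsTightlyEmbedded Q) {g : G}
    (hg : g ∉ Subgroup.normalizer (Q : Set G)) {T : Subgroup G} (hT1 : T ≠ ⊥)
    (hT : T ≤ cj g Q ⊓ Subgroup.normalizer (Q : Set G))
    (hTsyl : IsPGroup 2 T ∧ ¬ 2 ∣ T.relIndex (cj g Q ⊓ Subgroup.normalizer (Q : Set G)))
    {S : Subgroup G} (hTS : T ≤ S) (hS : S ≤ Q ⊔ T)
    (hSsyl : IsPGroup 2 S ∧ ¬ 2 ∣ S.relIndex (Q ⊔ T)) :
    T ⊓ Q = ⊥ ∧
      T ⊓ (S ⊓ Subgroup.normalizer (T : Set G) ⊓ Q) = ⊥ ∧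
      ⁅T, S ⊓ Subgroup.normalizer (T : Set G) ⊓ Q⁆ = ⊥ ∧
      T ⊔ (S ⊓ Subgroup.normalizer (T : Set G) ⊓ Q) = S ⊓ Subgroup.normalizer (T : Set G) ∧
      Nonempty (↥(S ⊓ Subgroup.normalizer (T : Set G) ⊓ Q) ≃* T) := by
  have hne : cj (1 : G) Q ≠ cj g Q := by
    rw [cj_one]; exact fun h => hg (cj_eq_iff_mem_normalizer.mp h.symm)
  set U := S ⊓ Subgroup.normalizer (T : Set G) ⊓ Q with hU
  have h := tight_step hQ hne hTsyl.1 hT1 (by rwa [cj_one]) (by rw [cj_one]; exact hTsyl.2)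
    hSsyl.1 hTS (by rwa [cj_one]) (by rw [cj_one]; exact hSsyl.2)
  rw [cj_one, ← hU] at h
  obtain ⟨h1, h2, h3, h4, h5, f, hf⟩ := h
  refine ⟨h1, ?_, h2, h3, ?_⟩
  · exact le_bot_iff.mp ((inf_le_inf_left T inf_le_right).trans h1.le)
  have hUp : IsPGroup 2 U := hSsyl.1.to_le (inf_le_left.trans inf_le_left)
  have hUle : U ≤ Q ⊓ Subgroup.normalizer (cj g Q : Set G) := le_inf inf_le_right h5
  obtain ⟨P, hP1, hP2⟩ := exists_sylow_inf_relIndex (p := 2) hUp hUle
  set U₁ := (P : Subgroup G) ⊓ (Q ⊓ Subgroup.normalizer (cj g Q : Set G)) with hU₁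
  have hU₁p : IsPGroup 2 U₁ := P.2.to_le inf_le_left
  have hUU₁ : U ≤ U₁ := le_inf hP1 hUle
  obtain ⟨P', hP'1, hP'2⟩ := exists_sylow_inf_relIndex (p := 2) hU₁p
    (le_sup_right : U₁ ≤ cj g Q ⊔ U₁)
  set S₁ := (P' : Subgroup G) ⊓ (cj g Q ⊔ U₁) with hS₁
  have h' := tight_step hQ hne.symm hU₁p (fun h => h4 (le_bot_iff.mp (h ▸ hUU₁)))
    (by rw [cj_one]; exact inf_le_right) (by rw [cj_one]; exact hP2)
    (P'.2.to_le inf_le_left) (le_inf hP'1 le_sup_right) inf_le_right hP'2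
  set V := S₁ ⊓ Subgroup.normalizer (U₁ : Set G) ⊓ cj g Q with hV
  obtain ⟨-, -, -, -, h'5, f', hf'⟩ := h'
  have hVn : V ≤ Subgroup.normalizer (Q : Set G) := by
    rw [cj_one] at h'5; exact h'5
  have hVp : IsPGroup 2 V := P'.2.to_le ((inf_le_left.trans inf_le_left).trans inf_le_left)
  obtain ⟨P'', hV1, hV2⟩ := exists_sylow_inf_relIndex (p := 2) hVp (le_inf inf_le_right hVn)
  have hTcard : Nat.card V ≤ Nat.card T := by
    obtain ⟨y, -, hy⟩ := exists_conj_of_relIndex (P''.2.to_le inf_le_left) hTsyl.1 inf_le_right hT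
      hV2 hTsyl.2
    rw [← hy, card_cj]
    exact Subgroup.card_le_of_le (le_inf hV1 (le_inf inf_le_right hVn))
  have hcard : Nat.card U ≤ Nat.card T :=
    (Subgroup.card_le_of_le hUU₁).trans ((Nat.card_le_card_of_injective f' hf').trans hTcard)
  exact ⟨(MulEquiv.ofBijective f
    (hf.bijective_of_nat_card_le hcard)).symm⟩

end Cfsg.Agent.Tech
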