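import Mathlib.GroupTheory.Sylow
import Mathlib.GroupTheory.GroupAction.Quotient
import Mathlib.Algebra.Group.Subgroup.Finite

/-!
An involution with a unique fixed point in a transitive action, such that products of two commuting
distinct conjugates also fix a unique point: its centralizer has odd index.
-/

set_option autoImplicit false

namespace Cfsg.Agent.Tech

variable {G α : Type*} [Group G] [MulAction G α] {z : G} {a : α}

theorem invol_inv {x : G} (hx : orderOf x = 2) : x⁻¹ = x :=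
  inv_eq_of_mul_eq_one_right (by rw [← sq, ← hx]; exact pow_orderOf_eq_one x)

theorem invol_conj {x : G} (hx : orderOf x = 2) {y : G} (h : IsConj x y) : orderOf y = 2 := by
  obtain ⟨k, rfl⟩ := isConj_iff.mp h
  have := orderOf_injective (MulAut.conj k).toMonoidHom (MulAut.conj k).injective x
  simpa [hx] using this

theorem conj_fix_unique (ha : z • a = a) (huniq : ∀ c : α, z • c = c → c = a) {u : G}
    (hu : IsConj z u) {c d : α} (hc : u • c = c) (hd : u • d = d) : c = d := by
  obtain ⟨k, rfl⟩ := isConj_iff.mp hu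
  have key : ∀ c : α, (k * z * k⁻¹) • c = c → k⁻¹ • c = a := by
    intro c hc
    apply huniq
    have h := congrArg (k⁻¹ • ·) hc
    simpa [smul_smul, mul_assoc] using h
  exact MulAction.injective k⁻¹ ((key c hc).trans (key d hd).symm)

theorem prod_fix_unique
    (hprod : ∀ t : G, IsConj z t → t ≠ z → t * z = z * t → ∀ c : α, (z * t) • c = c → c = a)
    {u v : G} (hu : IsConj z u) (hv : IsConj z v) (hne : u ≠ v) (hcomm : u * v = v * u) {c d : α}
    (hc : (u * v) • c = c) (hd : (u * v) • d = d) : c = d := by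
  obtain ⟨k, rfl⟩ := isConj_iff.mp hu
  have key : ∀ c : α, (k * z * k⁻¹ * v) • c = c → k⁻¹ • c = a := by
    intro c hc
    refine hprod (k⁻¹ * v * k) (hv.trans (isConj_iff.mpr ⟨k⁻¹, by simp⟩)) ?_ ?_ _ ?_
    · intro h
      exact hne (by rw [← h]; group)
    · have h := congrArg (fun x => k⁻¹ * x * k) hcomm
      simp only [mul_assoc, inv_mul_cancel_left, inv_mul_cancel, mul_one] at h ⊢
      exact h.symm
    · have h := congrArg (k⁻¹ • ·) hc
      simpa [smul_smul, mul_assoc] using h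
  exact MulAction.injective k⁻¹ ((key c hc).trans (key d hd).symm)

/-- The involution in `z^G` midway between `z` and `u`. -/
theorem exists_middle [Finite G] (hz : orderOf z = 2) (ha : z • a = a)
    (huniq : ∀ c : α, z • c = c → c = a)
    (hprod : ∀ t : G, IsConj z t → t ≠ z → t * z = z * t → ∀ c : α, (z * t) • c = c → c = a)
    {b : α} (hba : b ≠ a) {u : G} (hu : IsConj z u) (hub : u • b = b) :
    ∃ v : G, IsConj z v ∧ v • a = b ∧ v • b = a ∧ v * z * v⁻¹ = u ∧
      ∀ v' : G, v' * z * v'⁻¹ = u → v' * v'= 1 → v' * v = v * v' := by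
  have hu2 := invol_conj hz hu
  have hzi := invol_inv hz
  have hui := invol_inv hu2
  set w := z * u with hw
  set n := orderOf w with hn
  have hwn : w ^ n = 1 := pow_orderOf_eq_one w
  have hzz : z * z = 1 := by nth_rw 1 [← hzi]; exact inv_mul_cancel z
  have hzw : z * w * z⁻¹ = w⁻¹ := by rw [hw, mul_inv_rev, hui, hzi, ← mul_assoc z z u, hzz, one_mul]
  have hzwi : ∀ i : ℤ, z * w ^ i * z⁻¹ = w ^ (-i) := by
    intro i; rw [← conj_zpow, hzw, inv_zpow, zpow_neg]
  have hodd : Odd n := by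
    by_contra hev
    obtain ⟨m, hm⟩ := even_iff_two_dvd.mp (Nat.not_odd_iff_even.mp hev)
    have hnpos : 0 < n := orderOf_pos w
    set d := w ^ m with hd
    have hd1 : d ≠ 1 := fun h => by
      have := orderOf_dvd_of_pow_eq_one h
      have := Nat.le_of_dvd (by omega) this
      omega
    have hd2 : d * d = 1 := by rw [hd, ← pow_add, show m + m = n by omega, hwn]
    have hdi : d⁻¹ = d := inv_eq_of_mul_eq_one_right hd2
    have hzd : z * d = d * z := by
      have h : z * d * z⁻¹ = d⁻¹ := by rw [hd, ← conj_pow, hzw, inv_pow]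
      rw [hdi] at h
      exact mul_inv_eq_iff_eq_mul.mp h
    have hwd : w * d = d * w := by rw [hd, ← pow_succ', pow_succ]
    have hud : u * d = d * u := by
      have hu' : u = z * w := by rw [hw, ← mul_assoc]; nth_rw 1 [← hzi]; simp
      rw [hu', mul_assoc, hwd, ← mul_assoc, hzd, mul_assoc]
    -- `z * d` is conjugate to `z` or to `u`
    have hzdz : IsConj z (z * d) := by
      rcases Nat.even_or_odd m with ⟨j, hj⟩ | ⟨j, hj⟩
      · refine isConj_iff.mpr ⟨(w ^ (j : ℤ))⁻¹, ?_⟩
        have h := hzwi (j : ℤ)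
        rw [inv_inv]
        calc (w ^ (j : ℤ))⁻¹ * z * w ^ (j : ℤ)
            = (z * w ^ (j : ℤ) * z⁻¹) * z * w ^ (j : ℤ) := by rw [h, zpow_neg]
          _ = z * (w ^ (j : ℤ) * w ^ (j : ℤ)) := by group
          _ = z * d := by rw [hd, ← zpow_add, ← zpow_natCast, hj, Nat.cast_add]
      · refine hu.trans (isConj_iff.mpr ⟨(w ^ (j : ℤ))⁻¹, ?_⟩)
        have hu' : u = z * w := by rw [hw, ← mul_assoc]; nth_rw 1 [← hzi]; simp
        rw [hu', inv_inv]
        calc (w ^ (j : ℤ))⁻¹ * (z * w) * w ^ (j : ℤ)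
            = (z * w ^ (j : ℤ) * z⁻¹) * (z * w) * w ^ (j : ℤ) := by rw [hzwi, zpow_neg]
          _ = z * (w ^ (j : ℤ) * w * w ^ (j : ℤ)) := by group
          _ = z * d := by
            rw [hd, ← zpow_natCast w m, hj]
            push_cast
            group
    have hne : z * d ≠ z := fun h => hd1 (mul_eq_left.mp h)
    have hzz : z * z = 1 := by nth_rw 1 [← hzi]; exact inv_mul_cancel z
    have hfix := hprod (z * d) hzdz hne (by rw [mul_assoc, ← hzd]) (d • b)
    have hdb : d • b = b := by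
      refine conj_fix_unique ha huniq hu ?_ hub
      rw [smul_smul, hud, ← smul_smul, hub]
    rw [← mul_assoc, hzz, one_mul, hdb] at hfix
    exact hba (hfix hdb)
  obtain ⟨j, hj⟩ := hodd
  set k : ℤ := (j : ℤ) + 1 with hk
  have h2k : w ^ (2 * k) = w := by
    have : (2 * k) = (n : ℤ) + 1 := by rw [hj]; push_cast; ring
    rw [this, zpow_add, zpow_natCast, hwn, one_mul, zpow_one]
  set v := z * w ^ k with hv
  have hu' : u = z * w := by rw [hw, ← mul_assoc]; nth_rw 1 [← hzi]; simp
  have hvz : v * z * v⁻¹ = u := by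
    calc v * z * v⁻¹ = (z * w ^ k * z⁻¹) * z * z * (w ^ k)⁻¹ * z⁻¹ := by rw [hv]; group
      _ = w ^ (-k) * (z * z) * (w ^ k)⁻¹ * z⁻¹ := by rw [hzwi]; group
      _ = (w ^ (2 * k))⁻¹ * z⁻¹ := by
        rw [show z * z = 1 by nth_rw 1 [← hzi]; exact inv_mul_cancel z]; group
      _ = (z * w)⁻¹ := by rw [h2k]; exact (mul_inv_rev z w).symm
      _ = u := by rw [← hu', hui]
  have hvc : IsConj z v := by
    refine isConj_iff.mpr ⟨(w ^ (k * k))⁻¹, ?_⟩
    rw [inv_inv]
    calc (w ^ (k * k))⁻¹ * z * w ^ (k * k) = (z * w ^ (k * k) * z⁻¹) * z * w ^ (k * k) := by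
          rw [hzwi, zpow_neg]
      _ = z * (w ^ (2 * k)) ^ k := by rw [← zpow_mul]; group
      _ = v := by rw [h2k]
  have hvv : v * v = 1 := by
    have h := invol_inv (invol_conj hz hvc)
    nth_rw 1 [← h]; exact inv_mul_cancel v
  have hva : v • a = b := by
    refine conj_fix_unique ha huniq hu ?_ hub
    rw [← hvz, mul_smul, inv_smul_smul, mul_smul, ha]
  refine ⟨v, hvc, hva, ?_, hvz, ?_⟩
  · rw [← hva, smul_smul, hvv, one_smul]
  · intro v' hv'z hv'2
    have hv'i : v'⁻¹ = v' := inv_eq_of_mul_eq_one_right hv'2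
    have hv'u : v' * u * v'⁻¹ = z := by
      rw [← hv'z, hv'i]; simp [mul_assoc, hv'2]; rw [← mul_assoc, hv'2, one_mul]
    have hv'w : v' * w * v'⁻¹ = w⁻¹ := by
      rw [hw, mul_inv_rev, hui, hzi]
      calc v' * (z * u) * v'⁻¹ = (v' * z * v'⁻¹) * (v' * u * v'⁻¹) := by group
        _ = u * z := by rw [hv'z, hv'u]
    have h : v' * v * v'⁻¹ = v := by
      calc v' * v * v'⁻¹ = (v' * z * v'⁻¹) * (v' * w * v'⁻¹) ^ k := by rw [conj_zpow, hv]; group
        _ = z * (w ^ (2 * k) * w ^ (-k)) := by rw [hv'z, hv'w, h2k, inv_zpow, ← zpow_neg, hu', mul_assoc]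
        _ = v := by rw [hv, ← zpow_add, show 2 * k + -k = k by ring]
    exact mul_inv_eq_iff_eq_mul.mp h

theorem odd_card_swaps [Finite G] (hz : orderOf z = 2)
    (hprod : ∀ t : G, IsConj z t → t ≠ z → t * z = z * t → ∀ c : α, (z * t) • c = c → c = a)
    {b : α} (hba : b ≠ a) (hne : ∃ v : G, IsConj z v ∧ v • a = b ∧ v • b = a) :
    Odd (Nat.card {v : G // IsConj z v ∧ v • a = b ∧ v • b = a}) := by
  classical
  obtain ⟨v, hv⟩ := hne
  have hv2 : v * v = 1 := by
    nth_rw 1 [← invol_inv (invol_conj hz hv.1)]; exact inv_mul_cancel v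
  have hvi : v⁻¹ = v := inv_eq_of_mul_eq_one_right hv2
  let V := {v : G // IsConj z v ∧ v • a = b ∧ v • b = a}
  letI := Fintype.ofFinite V
  let σ : V → V := fun x => ⟨v * x.1 * v⁻¹, x.2.1.trans (isConj_iff.mpr ⟨v, rfl⟩),
    by rw [mul_smul, mul_smul, hvi, hv.2.1, x.2.2.2, hv.2.1],
    by rw [mul_smul, mul_smul, hvi, hv.2.2, x.2.2.1, hv.2.2]⟩
  have hσ : Function.Involutive σ := by
    intro x
    apply Subtype.ext
    show v * (v * x.1 * v⁻¹) * v⁻¹ = x.1
    rw [hvi]
    calc v * (v * x.1 * v) * v = (v * v) * x.1 * (v * v) := by group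
      _ = x.1 := by rw [hv2, one_mul, mul_one]
  have hfix : Function.fixedPoints σ = {⟨v, hv⟩} := by
    ext x
    refine ⟨fun hx => ?_, fun hx => ?_⟩
    · have h : v * x.1 * v⁻¹ = x.1 := congrArg Subtype.val hx
      rw [Set.mem_singleton_iff]
      apply Subtype.ext
      by_contra hne
      refine hba (prod_fix_unique hprod x.2.1 hv.1 hne (mul_inv_eq_iff_eq_mul.mp h).symm
        (c := b) (d := a) ?_ ?_)
      · rw [mul_smul, hv.2.2, x.2.2.1]
      · rw [mul_smul, hv.2.1, x.2.2.2]
    · rw [Set.mem_singleton_iff] at hx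
      subst hx
      apply Subtype.ext
      show v * v * v⁻¹ = v
      group
  haveI : Fact (Nat.Prime 2) := ⟨Nat.prime_two⟩
  have h := Equiv.Perm.card_fixedPoints_modEq (f := (σ : Function.End V)) (p := 2) (n := 1)
    (by funext x; exact hσ x)
  have h1 : Fintype.card (Function.fixedPoints σ) = 1 := by
    rw [Fintype.card_eq_one_iff]
    have e : ∀ x : V, x ∈ Function.fixedPoints σ ↔ x = ⟨v, hv⟩ := by
      intro x
      have := Set.ext_iff.mp hfix x
      simpa using this
    exact ⟨⟨_, (e _).mpr rfl⟩, fun ⟨x, hx⟩ => Subtype.ext ((e x).mp hx)⟩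
  replace h : Fintype.card V ≡ 1 [MOD 2] := by convert h using 1; convert h1.symm using 2
  rw [Nat.card_eq_fintype_card, Nat.odd_iff]
  exact h

/-- The main consequence: the centralizer of `z` has odd index in the stabilizer of `a`. -/
theorem odd_relIndex_centralizer [Finite G] [MulAction.IsPretransitive G α] (hz : orderOf z = 2)
    (ha : z • a = a) (huniq : ∀ c : α, z • c = c → c = a)
    (hprod : ∀ t : G, IsConj z t → t ≠ z → t * z = z * t → ∀ c : α, (z * t) • c = c → c = a)
    {b : α} (hba : b ≠ a) :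
    Odd ((Subgroup.centralizer ({z} : Set G)).relIndex (MulAction.stabilizer G a)) := by
  classical
  set S := MulAction.stabilizer G a
  obtain ⟨g, hg⟩ := MulAction.exists_smul_eq G a b
  let Za := {u : G // IsConj z u ∧ u • a = a}
  let Zb := {u : G // IsConj z u ∧ u • b = b}
  let V := {v : G // IsConj z v ∧ v • a = b ∧ v • b = a}
  let e₁ : Za ≃ Zb := {
    toFun := fun u => ⟨g * u.1 * g⁻¹, u.2.1.trans (isConj_iff.mpr ⟨g, rfl⟩), by
      rw [mul_smul, mul_smul, ← hg, inv_smul_smul, u.2.2]⟩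
    invFun := fun u => ⟨g⁻¹ * u.1 * g, u.2.1.trans (isConj_iff.mpr ⟨g⁻¹, by simp⟩), by
      rw [mul_smul, mul_smul, hg, u.2.2, ← hg, inv_smul_smul]⟩
    left_inv := fun u => Subtype.ext (by show g⁻¹ * (g * u.1 * g⁻¹) * g = u.1; group)
    right_inv := fun u => Subtype.ext (by show g * (g⁻¹ * u.1 * g) * g⁻¹ = u.1; group) }
  choose mid hmc hma hmb hmz hmu using fun (u : Zb) =>
    exists_middle hz ha huniq hprod hba u.2.1 u.2.2
  let f : V → Zb := fun v => ⟨v.1 * z * v.1⁻¹, isConj_iff.mpr ⟨v.1, rfl⟩, by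
    have h : v.1⁻¹ • b = a := by rw [inv_smul_eq_iff, v.2.2.1]
    rw [mul_smul, h, mul_smul, ha, v.2.2.1]⟩
  let e₂ : Zb ≃ V := {
    toFun := fun u => ⟨mid u, hmc u, hma u, hmb u⟩
    invFun := f
    left_inv := fun u => Subtype.ext (hmz u)
    right_inv := fun v => by
      apply Subtype.ext
      have hv2 : v.1 * v.1 = 1 := by
        nth_rw 1 [← invol_inv (invol_conj hz v.2.1)]; exact inv_mul_cancel v.1
      by_contra hne
      refine hba (prod_fix_unique hprod v.2.1 (hmc (f v)) (Ne.symm hne)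
        (hmu (f v) v.1 rfl hv2) (c := b) (d := a) ?_ ?_)
      · rw [mul_smul, hmb, v.2.2.1]
      · rw [mul_smul, hma, v.2.2.2] }
  have hVodd : Odd (Nat.card V) :=
    odd_card_swaps hz hprod hba ⟨_, (e₂ (e₁ ⟨z, IsConj.refl z, ha⟩)).2⟩
  have hcard : Nat.card Za = Nat.card V := Nat.card_congr (e₁.trans e₂)
  have horb : (Subgroup.centralizer ({z} : Set G)).relIndex S = Nat.card Za := by
    let q : S → Za := fun x => ⟨x.1 * z * x.1⁻¹, isConj_iff.mpr ⟨x.1, rfl⟩, by
      have h : (x.1)⁻¹ • a = a := by rw [inv_smul_eq_iff, x.2]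
      rw [mul_smul, h, mul_smul, ha, x.2]⟩
    refine Nat.card_eq_of_bijective (Quotient.lift q ?_) ⟨?_, ?_⟩
    · intro x y hxy
      have h' : x⁻¹ * y ∈ (Subgroup.centralizer ({z} : Set G)).subgroupOf S :=
        QuotientGroup.leftRel_apply.mp hxy
      have h : (x.1⁻¹ * y.1) * z = z * (x.1⁻¹ * y.1) := Subgroup.mem_centralizer_singleton_iff.mp h'
      apply Subtype.ext
      calc x.1 * z * x.1⁻¹ = x.1 * (z * (x.1⁻¹ * y.1)) * y.1⁻¹ := by group
        _ = y.1 * z * y.1⁻¹ := by rw [← h]; group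
    · intro x y
      induction x using QuotientGroup.induction_on with
      | H x => induction y using QuotientGroup.induction_on with
        | H y =>
          intro hxy
          have h : x.1 * z * x.1⁻¹ = y.1 * z * y.1⁻¹ := congrArg Subtype.val hxy
          refine QuotientGroup.eq.mpr ?_
          show x.1⁻¹ * y.1 ∈ Subgroup.centralizer ({z} : Set G)
          rw [Subgroup.mem_centralizer_singleton_iff]
          calc x.1⁻¹ * y.1 * z = x.1⁻¹ * (y.1 * z * y.1⁻¹) * y.1 := by group
            _ = z * (x.1⁻¹ * y.1) := by rw [← h]; group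
    · intro u
      obtain ⟨k, hk⟩ := isConj_iff.mp u.2.1
      have hka : k • a = a := by
        refine conj_fix_unique ha huniq u.2.1 ?_ u.2.2
        rw [← hk, mul_smul, inv_smul_smul, mul_smul, ha]
      exact ⟨QuotientGroup.mk (⟨k, hka⟩ : S), Subtype.ext hk⟩
  rw [horb, hcard]
  exact hVodd

end Cfsg.Agent.Tech
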