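import Cfsg.Agent.FusionAlperin.PPrimeResidual

/-!
Subsystems of index prime to `p` from subgroups of `Aut_F(S)` above the residual one.
-/

set_option autoImplicit false

open Cfsg Cfsg.FusionSystem
open Cfsg.Agent.FusionSys Cfsg.Agent.FusionAlperin
open Cfsg.Agent.S5119 (InvT Decomp autExt_inv autExt_inv' autExt_mul)

namespace Cfsg.Agent.Tech.Meet

universe u

variable {Ω : Type u} [Group Ω] {S : Subgroup Ω} {p : ℕ}

/-- The maps that are an element of `K` composed with a map of the generated subsystem. -/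
def joinSystem (F : FusionSystem S) (p : ℕ) (K : Subgroup (MulAut S)) (hK : K ≤ F.autGroup S) :
    FusionSystem S :=
  subSystem F (fun P φ => DecompIn K (centricPElemSystem F p) P φ)
    (fun hP hg => ⟨1, one_mem _, _, (centricPElemSystem F p).conj_mem hP hg, fun x =>
      (autExt_of_mem (1 : MulAut S) (map_mem_S (centricPElemSystem F p)
        ((centricPElemSystem F p).conj_mem hP hg) x)).symm⟩)
    (fun _ _ a b h => decompIn_comp hK (centricPElemSystem_invariant F) a b h)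
    (fun {P φ} hφ a ψ _ he => by
      obtain ⟨α, hα, f, hf, hfe⟩ :=
        decompIn_symm hK (centricPElemSystem_invariant F) (toIso F hφ rfl) a
      refine ⟨α, hα, f, hf, fun y => ?_⟩
      rw [← hfe y]
      obtain ⟨x, hx⟩ := y.2
      have hy : y = ⟨φ x, x, rfl⟩ := Subtype.ext hx.symm
      rw [hy, he x]
      exact (congrArg Subtype.val ((toIso F hφ rfl).symm_apply_apply x)).symm)

theorem join_sub (F : FusionSystem S) {K : Subgroup (MulAut S)} (hK : K ≤ F.autGroup S) :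
    (joinSystem F p K hK).IsSubsystemOf F := fun _ _ h => h.1

theorem centricPElem_le_join (F : FusionSystem S) {K : Subgroup (MulAut S)}
    (hK : K ≤ F.autGroup S) : centricPElemSystem F p ≤ joinSystem F p K hK := fun _ φ h =>
  ⟨h.1, 1, one_mem _, φ, h, fun x =>
    (autExt_of_mem (1 : MulAut S) (map_mem_S (centricPElemSystem F p) h x)).symm⟩

theorem le_join_autGroup (F : FusionSystem S) {K : Subgroup (MulAut S)} (hK : K ≤ F.autGroup S) :
    K ≤ (joinSystem F p K hK).autGroup S := fun α hα =>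
  (mem_autGroup _ le_rfl).2 ⟨autGroup_mem_hom F le_rfl (hK hα), α, hα, _,
    subtype_mem _ le_rfl, fun x => (autExt_of_mem α x.2).symm⟩

theorem join_le {F E : FusionSystem S} {K : Subgroup (MulAut S)} (hK : K ≤ F.autGroup S)
    (h0 : centricPElemSystem F p ≤ E) (hH : K ≤ E.autGroup S) : joinSystem F p K hK ≤ E := by
  rintro P φ ⟨-, α, hα, φ₀, hφ₀, he⟩
  exact comp_mem' E (h0 P hφ₀) (autGroup_mem_hom E le_rfl (hH hα))
    (map_mem_S (centricPElemSystem F p) hφ₀) fun x => (he x).trans (autExt_of_mem α _)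

theorem join_saturated [Finite S] [Fact p.Prime] (hS : IsPGroup p S) {F : FusionSystem S}
    (hF : F.IsSaturated p) {K : Subgroup (MulAut S)} (hK : K ≤ F.autGroup S)
    (hR : residualAut F p ≤ K) : (joinSystem F p K hK).IsSaturated p := by
  set E₀ := centricPElemSystem F p
  set E₁ := joinSystem F p K hK
  have hconjF : ∀ {P Q : Subgroup Ω}, E₁.IsConj P Q → F.IsConj P Q :=
    fun ⟨φ, hφ, h⟩ => ⟨φ, hφ.1, h⟩
  refine saturated_of_generated hS (ℋ := {P | F.IsCentric P})
    (fun P hP Q hQ => isCentric_of_isConj hP (hconjF hQ)) (fun P hP => ?_)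
    (fun E' hE' => join_le hK ?_ ?_) (fun P hP hPn => absurd ?_ hPn)
  · obtain ⟨Q, hPQ, hQ⟩ := exists_fullyNormalized F hP.1
    obtain ⟨f, hf⟩ := (isConj_iff_exists_iso F).1 hPQ
    obtain ⟨γ, -, e, he, hfe⟩ := centricPElem_decomp hS hF hf
    have heF := centricPElemSystem_sub F P he
    have hPR : F.IsConj P e.range := ⟨e, heF, rfl⟩
    have hRn : F.IsFullyNormalized e.range :=
      fullyNormalized_of_autExt hQ (range_le_S E₀ he)
        (isConj_trans (isConj_symm hPR) hPQ) (toIso E₀ he rfl) f hfe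
    refine ⟨e.range, ⟨e, centricPElem_le_join F hK P he, rfl⟩,
      fullyAutomized_of_le (join_sub F hK) (saturated_fullyNormalized hS hF hRn).2,
      hRn.1, fun P' φ hφ hrange => ?_⟩
    have hP' : F.IsCentric P' := isCentric_of_isConj hP
      (isConj_trans hPR (isConj_symm ⟨φ, hφ.1, hrange⟩))
    obtain ⟨ψ, hψ, hψe⟩ := (saturated_fullyCentralized hS hF
      (saturated_fullyNormalized hS hF hRn).1).2 P' φ hφ.1 hrange
    refine ⟨ψ, ⟨hψ, ?_⟩, hψe⟩
    obtain ⟨α, hα, ψ₀, hψ₀, hψd⟩ := centricPElem_decomp hS hF hψ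
    obtain ⟨η, hη, φ₀, hφ₀, hφd⟩ := hφ.2
    refine ⟨α, ?_, ψ₀, hψ₀, hψd⟩
    have hle : P' ≤ extender S P' φ := le_extender (le_S F hφ.1) (map_mem_S F hφ.1)
    have hψr := restr_mem E₀ hle hψ₀
    obtain ⟨c, hc, hce⟩ := E₀.inv_mem hψr
    have hcP : ∀ y, c y ∈ P' := by
      rintro ⟨_, x, rfl⟩
      rw [hce]
      exact x.2
    have h0 := E₀.comp_mem hc hφ₀ hcP
    have hmem : η⁻¹ * α ∈ residualAutSet F p := by
      refine ⟨mul_mem ((F.autGroup S).inv_mem (hK hη)) hα, _, _,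
        isCentric_of_isConj hP' ⟨_, centricPElemSystem_sub F P' hψr, rfl⟩, h0, ?_⟩
      rintro ⟨_, x, rfl⟩
      show φ₀ ⟨c _, _⟩ = _
      have e1 : (⟨c ⟨restr hle ψ₀ x, x, rfl⟩, hcP _⟩ : P') = x := Subtype.ext (hce x)
      rw [e1, autExt_mul _ _ (map_mem_S E₀ hψr x)]
      show φ₀ x = autExt η⁻¹ (autExt α (ψ₀ ⟨x, hle x.2⟩))
      rw [← hψd, hψe x x.2 (hle x.2), hφd, autExt_inv η (map_mem_S E₀ hφ₀ x)]
    have := mul_mem hη (hR (Subgroup.subset_closure hmem))
    rwa [mul_inv_cancel_left] at this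
  · refine centricPElemSystem_le fun Q hQ α hα => (mem_autGroup E' hQ.1).2 ?_
    refine hE' Q hQ (centricPElem_le_join F hK Q ?_)
    exact autGroup_mem_hom E₀ hQ.1 (centricPElemSystem_contains F Q hQ hα)
  · intro α hα
    refine (mem_autGroup E' le_rfl).2 (hE' S ⟨le_rfl, fun Q hQ => ?_⟩ ?_)
    · rw [eq_of_le_of_card_le (isConj_le_right hQ) (isConj_card_eq hQ).le]
      exact centralizerIn_le S
    · exact autGroup_mem_hom E₁ le_rfl (le_join_autGroup F hK hα)
  · show F.IsCentric P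
    refine ⟨hP.1, ?_⟩
    rintro Q ⟨f, hf, rfl⟩ c hc
    obtain ⟨α, -, e, he, hfe⟩ := centricPElem_decomp hS hF hf
    have hcR : ((α.symm ⟨c, hc.1⟩ : S) : Ω) ∈ centralizerIn S e.range := by
      refine ⟨(α.symm _).2, Subgroup.mem_centralizer_iff.2 ?_⟩
      rintro _ ⟨z, rfl⟩
      have h1 : α ⟨e z, map_mem_S E₀ he z⟩ * ⟨c, hc.1⟩ =
          ⟨c, hc.1⟩ * α ⟨e z, map_mem_S E₀ he z⟩ := by
        refine Subtype.ext ?_
        show _ * c = c * _
        rw [← autExt_of_mem, ← hfe]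
        exact Subgroup.mem_centralizer_iff.1 hc.2 _ ⟨z, rfl⟩
      have h2 := congrArg (fun s => ((α.symm s : S) : Ω)) h1
      simpa using h2
    obtain ⟨z, hz⟩ := hP.2 e.range ⟨e, centricPElem_le_join F hK P he, rfl⟩ hcR
    refine ⟨z, ?_⟩
    rw [hfe, autExt_of_mem α (map_mem_S E₀ he z)]
    have : (⟨e z, map_mem_S E₀ he z⟩ : S) = α.symm ⟨c, hc.1⟩ := Subtype.ext hz
    rw [this, MulEquiv.apply_symm_apply]

end Cfsg.Agent.Tech.Meet
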