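import Cfsg.Agent.Tech.MeetSaturation
import Cfsg.Agent.Tech.JoinResidual

/-!
The largest subsystem over `T₁ ⊓ T₂` normal in `F` and in both subsystems.
-/

set_option autoImplicit false

open Cfsg Cfsg.FusionSystem
open Cfsg.Agent.FusionSys Cfsg.Agent.FusionAlperin
open Cfsg.Agent.S5119 (InvT Decomp autExt_inv autExt_inv' autExt_mul)

namespace Cfsg.Agent.Tech.Meet

universe u

variable {Ω : Type u} [Group Ω] {S T T₁ T₂ : Subgroup Ω} {p : ℕ} {F : FusionSystem S}
  {E₁ : FusionSystem T₁} {E₂ : FusionSystem T₂}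

theorem eq_of_conj_top [Finite S] (hT : F.StronglyClosed T) {R : Subgroup Ω}
    (hR : F.IsConj T R) : R = T := by
  obtain ⟨φ, hφ, rfl⟩ := hR
  haveI : Finite T := finite_of_le ‹_› hT.1
  exact range_eq_of_image_le (F.injective_of_mem hφ)
    (by rintro _ ⟨x, rfl⟩; exact sc_map_mem hT hφ x.2) le_rfl

theorem fullyNormalized_top [Finite S] (hT : F.StronglyClosed T) : F.IsFullyNormalized T :=
  ⟨hT.1, fun _ hR => (congrArg (fun Y => Nat.card (normalizerIn S Y)) (eq_of_conj_top hT hR)).le⟩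

theorem tCentric_top [Finite S] (hT : F.StronglyClosed T) : TCentric F T T :=
  ⟨le_rfl, fun _ hR => by rw [eq_of_conj_top hT hR]; exact centralizerIn_le T⟩

/-- Automorphisms of `T` extending to `T C_S(T)` with displacement of the centralizer in the centre
of `T`. -/
def extGroup (F : FusionSystem S) (hTS : T ≤ S) : Subgroup (MulAut T) where
  carrier := {a | ∃ β ∈ F.autGroup (T ⊔ centralizerIn S T),
    (∀ x : T, (β (Subgroup.inclusion le_sup_left x) : Ω) = a x) ∧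
    ∀ c : ↥(T ⊔ centralizerIn S T), (c : Ω) ∈ centralizerIn S T →
      (c : Ω)⁻¹ * (β c : Ω) ∈ T ⊓ Subgroup.centralizer (T : Set Ω)}
  one_mem' := ⟨1, one_mem _, fun _ => rfl, fun c _ => by simp⟩
  mul_mem' := by
    rintro a b ⟨A, hA, hAa, hAm⟩ ⟨B, hB, hBb, hBm⟩
    refine ⟨A * B, mul_mem hA hB, fun x => ?_, fun c hc => ?_⟩
    · rw [MulAut.mul_apply, MulAut.mul_apply, ← hAa (b x)]
      exact congrArg (fun w => (A w : Ω)) (Subtype.ext (hBb x))
    · have hz := hBm c hc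
      set z : T := ⟨(c : Ω)⁻¹ * (B c : Ω), hz.1⟩
      have e : B c = c * Subgroup.inclusion le_sup_left z :=
        Subtype.ext (mul_inv_cancel_left (c : Ω) (B c : Ω)).symm
      have h1 : (a z : Ω) ∈ T ⊓ Subgroup.centralizer (T : Set Ω) := by
        refine ⟨(a z).2, Subgroup.mem_centralizer_iff.2 fun t ht => ?_⟩
        obtain ⟨w, hw⟩ := a.surjective ⟨t, ht⟩
        have e1 : w * z = z * w := Subtype.ext (Subgroup.mem_centralizer_iff.1 hz.2 _ w.2)
        have e2 := congrArg (fun s => (a s : Ω)) e1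
        simp only [map_mul, Subgroup.coe_mul, hw] at e2
        exact e2
      rw [MulAut.mul_apply, e, map_mul, Subgroup.coe_mul, hAa, ← mul_assoc]
      exact (T ⊓ Subgroup.centralizer (T : Set Ω)).mul_mem (hAm c hc) h1
  inv_mem' := by
    rintro a ⟨A, hA, hAa, hAm⟩
    refine ⟨A⁻¹, (F.autGroup _).inv_mem hA, fun x => ?_, fun c hc => ?_⟩
    · have e : A (Subgroup.inclusion le_sup_left (a⁻¹ x)) = Subgroup.inclusion le_sup_left x := by
        refine Subtype.ext ((hAa _).trans ?_)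
        rw [MulAut.inv_def, MulEquiv.apply_symm_apply]
        rfl
      rw [MulAut.inv_def, ← e, MulEquiv.symm_apply_apply]
      rfl
    · have hy : (A.symm c : Ω) ∈ centralizerIn S T := by
        refine ⟨sup_le hTS (centralizerIn_le T) (A.symm c).2,
          Subgroup.mem_centralizer_iff.2 fun t ht => ?_⟩
        have e : (Subgroup.inclusion le_sup_left (⟨t, ht⟩ : T) : ↥(T ⊔ centralizerIn S T)) *
            A.symm c = A.symm c * Subgroup.inclusion le_sup_left ⟨t, ht⟩ := by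
          apply A.injective
          rw [map_mul, map_mul, MulEquiv.apply_symm_apply]
          refine Subtype.ext ?_
          rw [Subgroup.coe_mul, Subgroup.coe_mul, hAa]
          exact Subgroup.mem_centralizer_iff.1 hc.2 _ (a ⟨t, ht⟩).2
        exact congrArg Subtype.val e
      have h2 := (T ⊓ Subgroup.centralizer (T : Set Ω)).inv_mem (hAm _ hy)
      rw [MulEquiv.apply_symm_apply, mul_inv_rev, inv_inv] at h2
      exact h2

theorem ext_of_normal {E : FusionSystem T} (hE : E.IsNormalIn F p) (hTS : T ≤ S) :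
    E.autGroup T ≤ extGroup F hTS := fun a ha => hE.2 a ha

theorem goodLift_of_ext {hTS : T ≤ S} {a : MulAut T} (ha : a ∈ extGroup F hTS) :
    a ∈ goodLift F T := by
  obtain ⟨A, hA, hAa, hAm⟩ := ha
  refine ⟨A, hA, fun x => hAa x, ?_⟩
  have hN : ∀ y ∈ T ⊔ centralizerIn S T, ∀ t ∈ T, y⁻¹ * t * y ∈ T := by
    intro y hy t ht
    have hle : T ⊔ centralizerIn S T ≤ Subgroup.normalizer (T : Set Ω) :=
      sup_le Subgroup.le_normalizer ((inf_le_right : centralizerIn S T ≤ _).trans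
        (Subgroup.centralizer_le_normalizer _))
    have h := (Subgroup.mem_normalizer_iff.1 ((Subgroup.normalizer _).inv_mem (hle hy)) t).1 ht
    rwa [inv_inv] at h
  let V : Subgroup Ω :=
    { carrier := {y | ∃ h : y ∈ T ⊔ centralizerIn S T, y⁻¹ * (A ⟨y, h⟩ : Ω) ∈ T}
      one_mem' := ⟨Subgroup.one_mem _, by
        rw [show (⟨1, Subgroup.one_mem _⟩ : ↥(T ⊔ centralizerIn S T)) = 1 from rfl, map_one]
        simp⟩
      mul_mem' := by
        rintro x y ⟨hx, hx'⟩ ⟨hy, hy'⟩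
        refine ⟨Subgroup.mul_mem _ hx hy, ?_⟩
        have h1 := T.mul_mem (hN y hy _ hx') hy'
        rw [show (⟨x * y, Subgroup.mul_mem _ hx hy⟩ : ↥(T ⊔ centralizerIn S T)) =
          ⟨x, hx⟩ * ⟨y, hy⟩ from rfl, map_mul, Subgroup.coe_mul]
        simpa [mul_assoc] using h1
      inv_mem' := by
        rintro x ⟨hx, hx'⟩
        refine ⟨Subgroup.inv_mem _ hx, ?_⟩
        have h1 := hN x⁻¹ (Subgroup.inv_mem _ hx) _ (T.inv_mem hx')
        rw [show (⟨x⁻¹, Subgroup.inv_mem _ hx⟩ : ↥(T ⊔ centralizerIn S T)) = ⟨x, hx⟩⁻¹ from rfl,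
          map_inv, Subgroup.coe_inv]
        simpa [mul_assoc] using h1 }
  have hV : T ⊔ centralizerIn S T ≤ V := sup_le
    (fun t ht => ⟨Subgroup.mem_sup_left ht, T.mul_mem (T.inv_mem ht)
      ((hAa ⟨t, ht⟩).symm ▸ (a ⟨t, ht⟩).2 :)⟩)
    fun c hc => ⟨Subgroup.mem_sup_right hc, (hAm ⟨c, Subgroup.mem_sup_right hc⟩ hc).1⟩
  intro y
  exact (hV y.2).2

variable [Finite S] [Fact p.Prime]

theorem le_meet_aut (hd : Data p F E₁ E₂) {D : FusionSystem (T₁ ⊓ T₂)} (hDF : D.IsNormalIn F p)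
    (hD₁ : D.IsSubsystemOf E₁) (hD₂ : D.IsSubsystemOf E₂) :
    D.autGroup (T₁ ⊓ T₂) ≤ (meetSystem p F E₁ E₂).autGroup (T₁ ⊓ T₂) := by
  have hT := hd.sc
  have := hd.finite
  have hTp := hd.pgroup.to_le hT.1
  have hFN : F.IsFullyNormalized (T₁ ⊓ T₂) := fullyNormalized_top hT
  have hDn : D.IsFullyNormalized (T₁ ⊓ T₂) :=
    fullyNormalized_top ⟨le_rfl, fun R _ φ hφ => map_mem_S D hφ⟩
  obtain ⟨-, P₀, hP₀⟩ := (saturated_fullyNormalized hTp hDF.1.1 hDn).2
  have hsyl : SylIn p (autInducedBy (T₁ ⊓ T₂) (T₁ ⊓ T₂)) (D.autGroup (T₁ ⊓ T₂)) :=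
    ⟨autInducedBy_le_autGroup D le_rfl, P₀, hP₀⟩
  have : Finite ↥(D.autGroup (T₁ ⊓ T₂)) := inferInstance
  refine le_of_sylow_pprime hsyl (autInducedBy_le_autGroup _ le_rfl) fun a ha ho => ?_
  have hgood : a ∈ good F E₁ E₂ (T₁ ⊓ T₂) :=
    ⟨⟨goodLift_of_ext (ext_of_normal hDF hT.1 ha),
      (mem_autGroup_iff_hom E₁ inf_le_left).2 (hD₁ _ (autGroup_mem_hom D le_rfl ha))⟩,
      (mem_autGroup_iff_hom E₂ inf_le_right).2 (hD₂ _ (autGroup_mem_hom D le_rfl ha))⟩
  exact meet_contains hd _ (tCentric_top hT) (good_le_natGroup hd hFN hgood ho)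

/-- The generating group on `T₁ ⊓ T₂`. -/
def topGroup (p : ℕ) (F : FusionSystem S) (E₁ : FusionSystem T₁) (E₂ : FusionSystem T₂) :
    Subgroup (MulAut ↥(T₁ ⊓ T₂)) :=
  Subgroup.closure {a | a ∈ (residualSystem (meetSystem p F E₁ E₂) p).autGroup (T₁ ⊓ T₂) ∨
    ∃ D : FusionSystem (T₁ ⊓ T₂),
      (D.IsNormalIn F p ∧ D.IsNormalIn E₁ p ∧ D.IsNormalIn E₂ p) ∧ a ∈ D.autGroup (T₁ ⊓ T₂)}

theorem top_le (hd : Data p F E₁ E₂) :
    topGroup p F E₁ E₂ ≤ (meetSystem p F E₁ E₂).autGroup (T₁ ⊓ T₂) :=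
  (Subgroup.closure_le _).2 fun a ha => by
    rcases ha with h | ⟨D, ⟨hF, h₁, h₂⟩, h⟩
    · exact autGroup_mono (residualSystem_sub _) _ h
    · exact le_meet_aut hd hF h₁.1.2.2.1 h₂.1.2.2.1 h

theorem residual_normal (hd : Data p F E₁ E₂) :
    (residualSystem (meetSystem p F E₁ E₂) p).IsNormalIn F p :=
  have := hd.finite
  Cfsg.Agent.S5141.result p hd.pgroup F hd.sat _ ⟨meet_saturated hd, hd.sat, meet_invariant hd⟩ _
    (residual_isPPrimeResidual (hd.pgroup.to_le hd.sc.1) (meet_saturated hd))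

theorem residualAut_le_top (hd : Data p F E₁ E₂) :
    residualAut (meetSystem p F E₁ E₂) p ≤ topGroup p F E₁ E₂ := fun _ ha =>
  Subgroup.subset_closure (Or.inl (residualAut_le_autGroup _ ha))

theorem top_conj (hd : Data p F E₁ E₂) {β η : MulAut ↥(T₁ ⊓ T₂)}
    (hβ : β ∈ F.autGroup (T₁ ⊓ T₂)) (hη : η ∈ topGroup p F E₁ E₂) :
    β * η * β⁻¹ ∈ topGroup p F E₁ E₂ := by
  have hiso : IsIso F (β : ↥(T₁ ⊓ T₂) ≃* ↥(T₁ ⊓ T₂)) := (mem_autGroup F hd.sc.1).1 hβ
  induction hη using Subgroup.closure_induction with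
  | mem a ha =>
    refine Subgroup.subset_closure ?_
    rw [← congr_self]
    rcases ha with h | ⟨D, hD, h⟩
    · exact Or.inl (autCongr_mem_of_invariant hd.pgroup hd.sat (residual_normal hd).1.2.2 le_rfl
        hiso h)
    · exact Or.inr ⟨D, hD, autCongr_mem_of_invariant hd.pgroup hd.sat hD.1.1.2.2 le_rfl hiso h⟩
  | one => simp
  | mul a b _ _ ha hb => simpa [mul_assoc] using (topGroup p F E₁ E₂).mul_mem ha hb
  | inv a _ ha => simpa [mul_assoc] using (topGroup p F E₁ E₂).inv_mem ha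

/-- The largest common normal subsystem. -/
def normalMeet (hd : Data p F E₁ E₂) : FusionSystem (T₁ ⊓ T₂) :=
  joinSystem (meetSystem p F E₁ E₂) p (topGroup p F E₁ E₂) (top_le hd)

theorem residual_le_normalMeet (hd : Data p F E₁ E₂) :
    residualSystem (meetSystem p F E₁ E₂) p ≤ normalMeet hd :=
  residual_le_of (centricPElem_le_join _ _)
    ((residualAut_le_top hd).trans (le_join_autGroup _ (top_le hd)))

theorem normalMeet_saturated (hd : Data p F E₁ E₂) : (normalMeet hd).IsSaturated p :=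
  have := hd.finite
  join_saturated (hd.pgroup.to_le hd.sc.1) (meet_saturated hd) (top_le hd) (residualAut_le_top hd)

theorem normalMeet_invT (hd : Data p F E₁ E₂) : InvT F (normalMeet hd) := by
  intro β hβ P φ hφ
  obtain ⟨hφM, η, hη, φ₀, hφ₀, he⟩ := hφ
  set R0 := residualSystem (meetSystem p F E₁ E₂) p
  have hR0 : InvT F R0 := Cfsg.Agent.S5141.invT_of_invariant (residual_normal hd).1.2.2
  have hφ₀' : φ₀ ∈ R0.Hom P := centricPElem_le_residual _ P hφ₀
  obtain ⟨χ, hχ, hχe⟩ := meet_invT hd β hβ P φ hφM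
  obtain ⟨χ₀, hχ₀, hχ₀e⟩ := hR0 β hβ P φ₀ hφ₀'
  refine ⟨χ, comp_mem' (normalMeet hd) (residual_le_normalMeet hd _ hχ₀)
    (autGroup_mem_hom _ le_rfl (le_join_autGroup _ (top_le hd) (top_conj hd hβ hη)))
    (map_mem_S R0 hχ₀) fun y => ?_, hχe⟩
  obtain ⟨x, hx, hxT, hxy⟩ := exists_autExt_eq β y
  have hy : y = ⟨autExt β (⟨x, hx⟩ : P), autExt_mem_autImage β (le_S R0 hφ₀') hx⟩ :=
    Subtype.ext hxy.symm
  have h1 : φ₀ ⟨x, hx⟩ ∈ T₁ ⊓ T₂ := map_mem_S R0 hφ₀' _
  have h2 : autExt β (φ₀ ⟨x, hx⟩) ∈ T₁ ⊓ T₂ := by rw [autExt_of_mem β h1]; exact (β _).2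
  refine Eq.trans ?_ (autExt_of_mem (β * η * β⁻¹) (map_mem_S R0 hχ₀ y))
  subst hy
  rw [hχe, hχ₀e, he, autExt_mul _ _ h2, autExt_inv β h1, autExt_mul _ _ h1]

/-- Normality of the common subsystem in a system containing the meet as an invariant subsystem. -/
theorem normalMeet_normal_in (hd : Data p F E₁ E₂) {S' : Subgroup Ω} {X : FusionSystem S'}
    (hXF : X.IsSubsystemOf F) (hS' : S' ≤ S) (hXs : X.IsSaturated p)
    (hMX : (meetSystem p F E₁ E₂).IsInvariantIn X)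
    (hnorm : ∀ D : FusionSystem (T₁ ⊓ T₂),
      D.IsNormalIn F p ∧ D.IsNormalIn E₁ p ∧ D.IsNormalIn E₂ p → D.IsNormalIn X p) :
    (normalMeet hd).IsNormalIn X p := by
  have hT := hMX.2.1
  have := hd.finite
  have : Finite S' := finite_of_le ‹_› hS'
  set M := meetSystem p F E₁ E₂
  have hS'p := hd.pgroup.to_le hS'
  have hTp := hd.pgroup.to_le hd.sc.1
  have hDM : (normalMeet hd).IsSubsystemOf M := fun _ _ h => h.1
  have hI : InvT X (normalMeet hd) := fun β hβ => normalMeet_invT hd β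
    ((mem_autGroup_iff_hom F hd.sc.1).2 (hXF _ (autGroup_mem_hom X hT.1 hβ)))
  refine ⟨⟨normalMeet_saturated hd, hXs, invariant_of (fun P φ h => hMX.1 P (hDM P h)) hT hI
    fun P hP φ hφ => ?_⟩, ?_⟩
  · obtain ⟨α, hα, m, hm, hme⟩ := hMX.2.2.2 P hP φ hφ
    obtain ⟨γ, hγ, e, he, hee⟩ := centricPElem_decomp hTp (meet_saturated hd) hm
    refine ⟨α * γ, mul_mem hα ((mem_autGroup_iff_hom X hT.1).2
      (hMX.1 _ (autGroup_mem_hom M le_rfl hγ))), e, centricPElem_le_join M (top_le hd) P he,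
      fun x => ?_⟩
    have h1 : e x ∈ T₁ ⊓ T₂ := map_mem_S (centricPElemSystem M p) he x
    rw [autExt_mul _ _ h1, ← hee x, hme x (map_mem_S M hm x), autExt_of_mem α (map_mem_S M hm x)]
  · have hext : (normalMeet hd).autGroup (T₁ ⊓ T₂) ≤ extGroup X hT.1 := by
      intro a ha
      obtain ⟨-, η, hη, e, he, hae⟩ := autGroup_mem_hom (normalMeet hd) le_rfl ha
      have hR0 : (residualSystem M p).autGroup (T₁ ⊓ T₂) ≤ extGroup X hT.1 :=
        ext_of_normal (Cfsg.Agent.S5141.result p hS'p X hXs _ ⟨meet_saturated hd, hXs, hMX⟩ _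
          (residual_isPPrimeResidual hTp (meet_saturated hd))) hT.1
      have hL : topGroup p F E₁ E₂ ≤ extGroup X hT.1 := (Subgroup.closure_le _).2 fun b hb => by
        rcases hb with h | ⟨D, hD, h⟩
        · exact hR0 h
        · exact ext_of_normal (hnorm D hD) hT.1 h
      have hea : η⁻¹ * a ∈ (residualSystem M p).autGroup (T₁ ⊓ T₂) := by
        refine (mem_autGroup_iff_hom _ le_rfl).2 (mem_hom_congr _
          (centricPElem_le_residual M _ he) fun x => ?_)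
        have h1 : (a x : Ω) = autExt η (e x) := hae x
        refine Eq.trans ?_ (autExt_inv η (map_mem_S (centricPElemSystem M p) he x))
        rw [← h1, autExt_of_mem η⁻¹ (a x).2]
        rfl
      have h2 := (extGroup X hT.1).mul_mem (hL hη) (hR0 hea)
      rwa [mul_inv_cancel_left] at h2
    exact fun a ha => hext ha

theorem normalMeet_greatest (hd : Data p F E₁ E₂) {D : FusionSystem (T₁ ⊓ T₂)}
    (hDF : D.IsNormalIn F p) (hD₁ : D.IsNormalIn E₁ p) (hD₂ : D.IsNormalIn E₂ p) :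
    D.IsSubsystemOf (normalMeet hd) := by
  intro P φ hφ
  have := hd.finite
  obtain ⟨γ, hγ, e, he, hee⟩ := centricPElem_decomp (hd.pgroup.to_le hd.sc.1) hDF.1.1 hφ
  have heR := centricPElem_le_of_invariant hd.pgroup hd.sat hDF.1.2.2 hDF.1.1
    (residual_normal hd).1.2.2 P he
  refine comp_mem' (normalMeet hd) (residual_le_normalMeet hd P heR)
    (autGroup_mem_hom _ le_rfl (le_join_autGroup _ (top_le hd)
      (Subgroup.subset_closure (Or.inr ⟨D, ⟨hDF, hD₁, hD₂⟩, hγ⟩))))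
    (map_mem_S (centricPElemSystem D p) he) fun x => ?_
  exact (hee x).trans (autExt_of_mem γ _)

end Cfsg.Agent.Tech.Meet
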