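import Cfsg.Agent.Tech.FixCentralize
import Cfsg.Agent.Tech.NormalMeet
import Cfsg.Agent.FusionAux.Induction

/-!
The central product of two normal subsystems over commuting groups is normal.
-/

set_option autoImplicit false

open Cfsg Cfsg.FusionSystem
open scoped Pointwise
open Cfsg.Agent.FusionSys Cfsg.Agent.FusionAlperin
open Cfsg.Agent.S5119 (InvT Decomp decomp_comp decomp_restrict decomp_symm autExt_mul)

namespace Cfsg.Agent.Tech.CProd

open Cfsg.Agent.Tech.Meet (finite_prod isPGroup_prod extGroup fullyNormalized_top invariant_of)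
open Cfsg.Agent.Tech.Commuting (centralizes_of_central)

universe u

variable {Ω : Type u} [Group Ω] {S T₁ T₂ U : Subgroup Ω} {p : ℕ}
  {E₁ : FusionSystem T₁} {E₂ : FusionSystem T₂} {D : FusionSystem U}

/-- Central products exist for commuting groups with central intersection. -/
theorem exists_of_central [Finite T₁] [Finite T₂] [Fact p.Prime] (hT₁ : IsPGroup p T₁)
    (hT₂ : IsPGroup p T₂) (hc : ∀ a ∈ T₁, ∀ b ∈ T₂, a * b = b * a)
    (hR₁ : E₁.IsCentral (T₁ ⊓ T₂)) (hR₂ : E₂.IsCentral (T₁ ⊓ T₂)) :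
    ∃ D : FusionSystem (T₁ ⊔ T₂), IsCentralProductOf E₁ E₂ D := by
  have := finite_prod (A := T₁) (B := T₂)
  obtain ⟨D₀, hD₀⟩ := Cfsg.Agent.S5136.result p hT₁ hT₂ E₁ E₂
  let θ : ↥(T₁.prod T₂) →* Ω :=
    MonoidHom.mk' (fun s => (s : Ω × Ω).1 * (s : Ω × Ω).2) fun a b => by
      show (a : Ω × Ω).1 * (b : Ω × Ω).1 * ((a : Ω × Ω).2 * (b : Ω × Ω).2) = _
      simp only [mul_assoc]
      rw [← mul_assoc (b : Ω × Ω).1, hc _ b.2.1 _ a.2.2]
      simp [mul_assoc]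
  set Z := θ.ker.map (T₁.prod T₂).subtype
  have hker : ∀ s, θ s = 1 ↔ (s : Ω × Ω) ∈ Z := fun s =>
    ⟨fun h => ⟨s, h, rfl⟩, fun ⟨t, ht, e⟩ => (Subtype.ext e : t = s) ▸ ht⟩
  have hZv : ∀ z ∈ Z, z.1 * z.2 = 1 ∧ z.1 ∈ T₁ ⊓ T₂ ∧ z.2 ∈ T₁ ⊓ T₂ := by
    rintro _ ⟨s, hs, rfl⟩
    have h1 : (s : Ω × Ω).1 * (s : Ω × Ω).2 = 1 := hs
    refine ⟨hs, ⟨s.2.1, ?_⟩, ?_, s.2.2⟩
    · show (s : Ω × Ω).1 ∈ T₂
      rw [eq_inv_of_mul_eq_one_left h1]
      exact T₂.inv_mem s.2.2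
    · show (s : Ω × Ω).2 ∈ T₁
      rw [eq_inv_of_mul_eq_one_right h1]
      exact T₁.inv_mem s.2.1
  have hcen : D₀.IsCentral Z := by
    refine ⟨Subgroup.map_subtype_le _, fun P φ hφ => ?_⟩
    obtain ⟨hP, φ₁, hφ₁, φ₂, hφ₂, hφe⟩ := (hD₀ P φ).1 hφ
    obtain ⟨f, hf, hf1, hf2⟩ := hR₁.2 _ φ₁ hφ₁
    obtain ⟨e, he, he1, he2⟩ := hR₂.2 _ φ₂ hφ₂
    have hR : P ⊔ Z ≤ T₁.prod T₂ := sup_le hP (Subgroup.map_subtype_le _)
    have hfst : (P ⊔ Z).map (MonoidHom.fst Ω Ω) ≤ P.map (MonoidHom.fst Ω Ω) ⊔ T₁ ⊓ T₂ := by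
      rw [Subgroup.map_sup]
      refine sup_le_sup_left ?_ _
      rintro _ ⟨z, hz, rfl⟩
      exact (hZv z hz).2.1
    have hsnd : (P ⊔ Z).map (MonoidHom.snd Ω Ω) ≤ P.map (MonoidHom.snd Ω Ω) ⊔ T₁ ⊓ T₂ := by
      rw [Subgroup.map_sup]
      refine sup_le_sup_left ?_ _
      rintro _ ⟨z, hz, rfl⟩
      exact (hZv z hz).2.2
    let fst' : ↥(P ⊔ Z) →* (P ⊔ Z).map (MonoidHom.fst Ω Ω) :=
      ((MonoidHom.fst Ω Ω).comp (P ⊔ Z).subtype).codRestrict _ fun r => ⟨r, r.2, rfl⟩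
    let snd' : ↥(P ⊔ Z) →* (P ⊔ Z).map (MonoidHom.snd Ω Ω) :=
      ((MonoidHom.snd Ω Ω).comp (P ⊔ Z).subtype).codRestrict _ fun r => ⟨r, r.2, rfl⟩
    refine ⟨MonoidHom.prod ((restr hfst f).comp fst') ((restr hsnd e).comp snd'), (hD₀ _ _).2
      ⟨hR, _, restr_mem E₁ hfst hf, _, restr_mem E₂ hsnd he, fun x _ _ => rfl⟩, fun x => ?_,
      fun z => ?_⟩
    · rw [hφe x ⟨x, x.2, rfl⟩ ⟨x, x.2, rfl⟩]
      exact Prod.ext (Eq.trans (congrArg f (Subtype.ext rfl)) (hf1 ⟨_, x, x.2, rfl⟩))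
        (Eq.trans (congrArg e (Subtype.ext rfl)) (he1 ⟨_, x, x.2, rfl⟩))
    · obtain ⟨-, h2, h3⟩ := hZv z z.2
      exact Prod.ext (Eq.trans (congrArg f (Subtype.ext rfl)) (hf2 ⟨_, h2⟩))
        (Eq.trans (congrArg e (Subtype.ext rfl)) (he2 ⟨_, h3⟩))
  have hZsc := isNormal_stronglyClosed (isCentral_isNormal hcen)
  have hr : θ.range = T₁ ⊔ T₂ := le_antisymm
    (by
      rintro _ ⟨s, rfl⟩
      exact Subgroup.mul_mem _ (Subgroup.mem_sup_left s.2.1) (Subgroup.mem_sup_right s.2.2))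
    (sup_le (fun x hx => ⟨⟨(x, 1), hx, one_mem _⟩, mul_one x⟩)
      fun y hy => ⟨⟨(1, y), one_mem _, hy⟩, one_mul y⟩)
  refine ⟨factorSystem D₀ hZsc θ hker hr, D₀, hD₀, Z, θ,
    le_sSup (s := {X | D₀.IsCentral X}) hcen, ?_, ?_, fun x _ => mul_one x, fun y _ => one_mul y,
    factorSystem_isFactorSystem D₀ hZsc θ hker hr⟩
  · rw [eq_bot_iff]
    rintro z ⟨hz, -, hz2⟩
    obtain ⟨h1, -⟩ := hZv z hz
    have hz2' : z.2 = 1 := Subgroup.mem_bot.1 hz2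
    rw [hz2', mul_one] at h1
    exact Subgroup.mem_bot.2 (Prod.ext h1 hz2')
  · rw [eq_bot_iff]
    rintro z ⟨hz, hz1, -⟩
    obtain ⟨h1, -⟩ := hZv z hz
    have hz1' : z.1 = 1 := Subgroup.mem_bot.1 hz1
    rw [hz1', one_mul] at h1
    exact Subgroup.mem_bot.2 (Prod.ext hz1' h1)

/-- `Q` is the product of its intersections with `T₁` and `T₂`. -/
def Split (T₁ T₂ Q : Subgroup Ω) : Prop := Q ≤ Q ⊓ T₁ ⊔ Q ⊓ T₂

/-- Two normal subsystems and their central product. -/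
structure NP (p : ℕ) (F : FusionSystem S) (E₁ : FusionSystem T₁) (E₂ : FusionSystem T₂)
    (D : FusionSystem U) : Prop where
  fin : Finite S
  pgrp : IsPGroup p S
  sat : F.IsSaturated p
  nor₁ : E₁.IsNormalIn F p
  nor₂ : E₂.IsNormalIn F p
  cp : CP p E₁ E₂ D
  fix₁ : Centralizes F E₁ T₂
  fix₂ : Centralizes F E₂ T₁

variable [Finite S] [Fact p.Prime] {F : FusionSystem S}

theorem NP.of_cp (hS : IsPGroup p S) (hF : F.IsSaturated p) (hE₁ : E₁.IsNormalIn F p)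
    (hE₂ : E₂.IsNormalIn F p) (h : CP p E₁ E₂ D) : NP p F E₁ E₂ D :=
  ⟨‹_›, hS, hF, hE₁, hE₂, h, centralizes_of_central hS hF hE₁ hE₂.1.2.2.2.1 h.comm h.cen₁,
    centralizes_of_central hS hF hE₂ hE₁.1.2.2.2.1 (fun t ht w hw => (h.comm w hw t ht).symm)
      (inf_comm T₁ T₂ ▸ h.cen₂)⟩

variable (h : NP p F E₁ E₂ D)
include h

omit [Finite S] [Fact p.Prime] in
theorem NP.le : U ≤ S :=
  h.cp.sup ▸ sup_le h.nor₁.1.2.2.2.1.1 h.nor₂.1.2.2.2.1.1

omit [Finite S] [Fact p.Prime] in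
theorem NP.sub : D.IsSubsystemOf F := by
  intro P φ hφ
  obtain ⟨A, B, e₁, e₂, ψ, he₁, he₂, -, h1, h2, hle, hy⟩ := h.cp.decomp hφ
  obtain ⟨-, -, -, ψ₁, hψ₁, hψ₁A, hψ₁T⟩ := h.fix₁ _ he₁
  obtain ⟨-, -, -, ψ₂, hψ₂, hψ₂B, hψ₂T⟩ := h.fix₂ _ he₂
  have hAB : A ⊔ B ≤ A ⊔ T₂ := sup_le_sup_left (le_S E₂ he₂) A
  have hv : ∀ x : ↥(A ⊔ B), restr hAB ψ₁ x ∈ B ⊔ T₁ := fun x => range_le_sup_of_le (restr hAB ψ₁)
    (fun y hy => (Subgroup.mem_sup_right (by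
      show ψ₁ ⟨(y : Ω), _⟩ ∈ T₁
      exact (hψ₁A ⟨y, hy⟩).symm ▸ map_mem_S E₁ he₁ _) : _ ∈ B ⊔ T₁))
    (fun y hy => (Subgroup.mem_sup_left (by
      show ψ₁ ⟨(y : Ω), _⟩ ∈ B
      exact (hψ₁T ⟨y, le_S E₂ he₂ hy⟩).symm ▸ hy) : _ ∈ B ⊔ T₁)) ⟨x, rfl⟩
  have hm := F.comp_mem (restr_mem F hAB hψ₁) hψ₂ hv
  refine mem_hom_congr F (restr_mem F hle hm) fun y => (hy y).trans ?_
  refine hom_eq_sup ψ (ψ₂.comp ((restr hAB ψ₁).codRestrict _ hv)) (fun a => ?_) (fun b => ?_)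
    ⟨y, hle y.2⟩
  · rw [h1]
    have e : ψ₁ ⟨a, Subgroup.mem_sup_left a.2⟩ = e₁ a := hψ₁A a
    refine ((hψ₂T ⟨e₁ a, map_mem_S E₁ he₁ a⟩).symm.trans ?_)
    exact congrArg ψ₂ (Subtype.ext e.symm)
  · rw [h2]
    have e : ψ₁ ⟨b, hAB (Subgroup.mem_sup_right b.2)⟩ = b := hψ₁T ⟨b, le_S E₂ he₂ b.2⟩
    refine ((hψ₂B b).symm.trans ?_)
    exact congrArg ψ₂ (Subtype.ext e.symm)

omit [Finite S] [Fact p.Prime] in
theorem NP.invT : InvT F D := by
  intro β hβ P φ hφ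
  obtain ⟨A, B, e₁, e₂, ψ, he₁, he₂, -, h1, h2, hle, hy⟩ := h.cp.decomp hφ
  have := h.fin
  have hβh := autGroup_mem_hom F h.le hβ
  have := h.cp.fin₁
  have := h.cp.fin₂
  have hr₁ : (restr h.cp.le₁ (U.subtype.comp β.toMonoidHom)).range = T₁ :=
    range_eq_of_image_le (F.injective_of_mem (restr_mem F h.cp.le₁ hβh)) (by
      rintro _ ⟨x, rfl⟩
      exact sc_map_mem h.nor₁.1.2.2.2.1 hβh (x := Subgroup.inclusion h.cp.le₁ x) x.2) le_rfl
  have hr₂ : (restr h.cp.le₂ (U.subtype.comp β.toMonoidHom)).range = T₂ :=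
    range_eq_of_image_le (F.injective_of_mem (restr_mem F h.cp.le₂ hβh)) (by
      rintro _ ⟨x, rfl⟩
      exact sc_map_mem h.nor₂.1.2.2.2.1 hβh (x := Subgroup.inclusion h.cp.le₂ x) x.2) le_rfl
  set β₁ : MulAut T₁ := toIso F (restr_mem F h.cp.le₁ hβh) hr₁
  set β₂ : MulAut T₂ := toIso F (restr_mem F h.cp.le₂ hβh) hr₂
  obtain ⟨χ₁, hχ₁, hχ₁e⟩ := Cfsg.Agent.S5141.invT_of_invariant h.nor₁.1.2.2 β₁
    (toIso_mem_autGroup F _ hr₁) A e₁ he₁
  obtain ⟨χ₂, hχ₂, hχ₂e⟩ := Cfsg.Agent.S5141.invT_of_invariant h.nor₂.1.2.2 β₂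
    (toIso_mem_autGroup F _ hr₂) B e₂ he₂
  obtain ⟨χ, hχ, hχA, hχB⟩ := h.cp.pair hχ₁ hχ₂
  have hA := le_S E₁ he₁
  have hB := le_S E₂ he₂
  have hβa : ∀ u ∈ T₁, autExt β u = autExt β₁ u := fun u hu => by
    rw [autExt_of_mem β (h.cp.le₁ hu), autExt_of_mem β₁ hu]
    rfl
  have hβb : ∀ u ∈ T₂, autExt β u = autExt β₂ u := fun u hu => by
    rw [autExt_of_mem β (h.cp.le₂ hu), autExt_of_mem β₂ hu]
    rfl
  have hadd : ∀ a ∈ U, ∀ b ∈ U, autExt β (a * b) = autExt β a * autExt β b := fun a ha b hb => by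
    rw [autExt_of_mem β ha, autExt_of_mem β hb, autExt_of_mem β (U.mul_mem ha hb),
      ← Subgroup.coe_mul, ← map_mul]
    rfl
  have hval : ∀ x (hx : x ∈ A ⊔ B), ∃ hm : autExt β x ∈ autImage β₁ A ⊔ autImage β₂ B,
      χ ⟨autExt β x, hm⟩ = autExt β (ψ ⟨x, hx⟩) := by
    intro x hx
    obtain ⟨a, ha, b, hb, rfl⟩ := exists_mul_of_mem_sup
      (fun a ha b hb => h.cp.comm a (hA ha) b (hB hb)) hx
    have hma : autExt β a ∈ autImage β₁ A := by
      rw [hβa a (hA ha)]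
      exact autExt_mem_autImage β₁ hA ha
    have hmb : autExt β b ∈ autImage β₂ B := by
      rw [hβb b (hB hb)]
      exact autExt_mem_autImage β₂ hB hb
    have hsum := hadd a (h.cp.le₁ (hA ha)) b (h.cp.le₂ (hB hb))
    have hm : autExt β (a * b) ∈ autImage β₁ A ⊔ autImage β₂ B := hsum ▸
      Subgroup.mul_mem _ (Subgroup.mem_sup_left hma) (Subgroup.mem_sup_right hmb)
    refine ⟨hm, ?_⟩
    have e1 : (⟨autExt β (a * b), hm⟩ : ↥(autImage β₁ A ⊔ autImage β₂ B)) =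
        ⟨_, Subgroup.mem_sup_left hma⟩ * ⟨_, Subgroup.mem_sup_right hmb⟩ := Subtype.ext hsum
    have e2 : (⟨a * b, hx⟩ : ↥(A ⊔ B)) =
        ⟨a, Subgroup.mem_sup_left ha⟩ * ⟨b, Subgroup.mem_sup_right hb⟩ := rfl
    rw [e1, map_mul, e2, map_mul, hχA ⟨_, hma⟩, hχB ⟨_, hmb⟩, h1 ⟨a, ha⟩, h2 ⟨b, hb⟩,
      hadd _ (h.cp.le₁ (map_mem_S E₁ he₁ _)) _ (h.cp.le₂ (map_mem_S E₂ he₂ _)),
      hβa _ (map_mem_S E₁ he₁ _), hβb _ (map_mem_S E₂ he₂ _)]
    refine congrArg₂ (· * ·) ?_ ?_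
    · refine Eq.trans (congrArg χ₁
        (Subtype.ext (a2 := ⟨autExt β₁ a, autExt_mem_autImage β₁ hA ha⟩) (hβa a (hA ha)))) ?_
      exact hχ₁e ⟨a, ha⟩ (autExt_mem_autImage β₁ hA ha)
    · refine Eq.trans (congrArg χ₂
        (Subtype.ext (a2 := ⟨autExt β₂ b, autExt_mem_autImage β₂ hB hb⟩) (hβb b (hB hb)))) ?_
      exact hχ₂e ⟨b, hb⟩ (autExt_mem_autImage β₂ hB hb)
  have hle' : autImage β P ≤ autImage β₁ A ⊔ autImage β₂ B := fun z hz => by
    obtain ⟨x, hx, -, hxz⟩ := exists_autExt_eq β (⟨z, hz⟩ : autImage β P)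
    obtain ⟨hm, -⟩ := hval x (hle hx)
    have hxz' : autExt β x = z := hxz
    exact hxz' ▸ hm
  refine ⟨restr hle' χ, restr_mem D hle' hχ, fun x hm => ?_⟩
  obtain ⟨hm', he'⟩ := hval x (hle x.2)
  rw [hy]
  exact he'

omit h in
omit [Finite S] [Fact p.Prime] in
theorem Split.le {Q : Subgroup Ω} (hQ : Split T₁ T₂ Q) : Q ≤ T₁ ⊔ T₂ :=
  hQ.trans (sup_le_sup inf_le_right inf_le_right)

omit [Finite S] [Fact p.Prime] in
theorem NP.split_mul {Q : Subgroup Ω} (hQ : Split T₁ T₂ Q) {x : Ω} (hx : x ∈ Q) :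
    ∃ a ∈ Q ⊓ T₁, ∃ b ∈ Q ⊓ T₂, x = a * b :=
  exists_mul_of_mem_sup (fun a (ha : a ∈ Q ⊓ T₁) b (hb : b ∈ Q ⊓ T₂) =>
    h.cp.comm a ha.2 b hb.2) (hQ hx)

omit [Finite S] [Fact p.Prime] in
theorem NP.split_range {Q : Subgroup Ω} (hQ : Split T₁ T₂ Q) {φ : Q →* Ω} (hφ : φ ∈ F.Hom Q) :
    Split T₁ T₂ φ.range := by
  rintro _ ⟨x, rfl⟩
  obtain ⟨a, ha, b, hb, he⟩ := h.split_mul hQ x.2
  have e : x = ⟨a, ha.1⟩ * ⟨b, hb.1⟩ := Subtype.ext he
  rw [e, map_mul]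
  exact Subgroup.mul_mem _
    (Subgroup.mem_sup_left ⟨⟨_, rfl⟩, sc_map_mem h.nor₁.1.2.2.2.1 hφ (x := ⟨a, ha.1⟩) ha.2⟩)
    (Subgroup.mem_sup_right ⟨⟨_, rfl⟩, sc_map_mem h.nor₂.1.2.2.2.1 hφ (x := ⟨b, hb.1⟩) hb.2⟩)

omit [Finite S] [Fact p.Prime] in
theorem NP.split_normalizer {Q : Subgroup Ω} (hQ : Split T₁ T₂ Q) :
    Split T₁ T₂ (normalizerIn U Q) := by
  have key : ∀ (t₁ t₂ : Ω), t₁ ∈ T₁ → t₂ ∈ T₂ → t₁ * t₂ ∈ Subgroup.normalizer (Q : Set Ω) →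
      ∀ y ∈ Q, t₁ * y * t₁⁻¹ ∈ Q := by
    intro t₁ t₂ h₁ h₂ hn y hy
    obtain ⟨a, ha, b, hb, rfl⟩ := h.split_mul hQ hy
    have e1 : t₁ * a * t₁⁻¹ = (t₁ * t₂) * a * (t₁ * t₂)⁻¹ := by
      calc t₁ * a * t₁⁻¹ = t₁ * (a * t₂) * t₂⁻¹ * t₁⁻¹ := by group
        _ = _ := by rw [h.cp.comm a ha.2 t₂ h₂]; group
    have e2 : t₁ * b * t₁⁻¹ = b := by rw [h.cp.comm t₁ h₁ b hb.2, mul_inv_cancel_right]
    have e3 : t₁ * (a * b) * t₁⁻¹ = (t₁ * a * t₁⁻¹) * (t₁ * b * t₁⁻¹) := by group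
    rw [e3, e1, e2]
    exact Q.mul_mem ((Subgroup.mem_normalizer_iff.1 hn a).1 ha.1) hb.1
  intro x hx
  obtain ⟨t₁, h₁, t₂, h₂, rfl⟩ := exists_mul_of_mem_sup h.cp.comm (h.cp.sup.ge hx.1)
  have hn : t₁ ∈ Subgroup.normalizer (Q : Set Ω) := by
    refine Subgroup.mem_normalizer_iff.2 fun y => ⟨key t₁ t₂ h₁ h₂ hx.2 y, fun hy => ?_⟩
    have h' : t₁⁻¹ * t₂⁻¹ ∈ Subgroup.normalizer (Q : Set Ω) := by
      have := (Subgroup.normalizer (Q : Set Ω)).inv_mem hx.2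
      rwa [mul_inv_rev, ← h.cp.comm _ (T₁.inv_mem h₁) _ (T₂.inv_mem h₂)] at this
    have := key t₁⁻¹ t₂⁻¹ (T₁.inv_mem h₁) (T₂.inv_mem h₂) h' _ hy
    simpa [mul_assoc] using this
  have hm : t₁ ∈ normalizerIn U Q := ⟨h.cp.le₁ h₁, hn⟩
  refine Subgroup.mul_mem _ (Subgroup.mem_sup_left ⟨hm, h₁⟩) (Subgroup.mem_sup_right ⟨?_, h₂⟩)
  have := (normalizerIn U Q).mul_mem ((normalizerIn U Q).inv_mem hm) hx
  rwa [inv_mul_cancel_left] at this

theorem NP.autConj {R : Subgroup Ω} (hR : Split T₁ T₂ R) {b a : MulAut R}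
    (hb : b ∈ F.autGroup R) (ha : a ∈ D.autGroup R) : b * a * b⁻¹ ∈ D.autGroup R := by
  have hRU : R ≤ U := hR.le.trans h.cp.sup.le
  have hRS := hRU.trans h.le
  have : Finite R := finite_of_le ‹_› hRS
  have hbh := autGroup_mem_hom F hRS hb
  have hah := autGroup_mem_hom D hRU ha
  have side : ∀ {T T' : Subgroup Ω} {E : FusionSystem T} {E' : FusionSystem T'},
      E.IsNormalIn F p → CP p E E' D →
      restr (inf_le_left : R ⊓ T ≤ R) (R.subtype.comp (b * a * b⁻¹).toMonoidHom) ∈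
        E.Hom (R ⊓ T) := by
    intro T T' E E' hE hcp
    have hT := hE.1.2.2.2.1
    have hfinQ : Finite ↥(R ⊓ T) := finite_of_le ‹_› (inf_le_left.trans hRS)
    have hbr := restr_mem F (inf_le_left : R ⊓ T ≤ R) hbh
    have hrb : (restr (inf_le_left : R ⊓ T ≤ R) (R.subtype.comp b.toMonoidHom)).range = R ⊓ T :=
      range_eq_of_image_le (F.injective_of_mem hbr) (by
        rintro _ ⟨x, rfl⟩
        exact ⟨(b _).2, sc_map_mem hT hbr (x := x) x.2.2⟩) le_rfl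
    have har := hcp.mem_left (restr_mem D (inf_le_left : R ⊓ T ≤ R) hah) inf_le_right
    have hra : (restr (inf_le_left : R ⊓ T ≤ R) (R.subtype.comp a.toMonoidHom)).range = R ⊓ T :=
      range_eq_of_image_le (E.injective_of_mem har) (by
        rintro _ ⟨x, rfl⟩
        exact ⟨(a _).2, map_mem_S E har x⟩) le_rfl
    set bT := toIso F hbr hrb
    set aT := toIso E har hra
    have h' := autCongr_mem_of_invariant h.pgrp h.sat hE.1.2.2 inf_le_right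
      (toIso_isIso F hbr hrb) (toIso_mem_autGroup E har hra)
    refine mem_hom_congr E (autGroup_mem_hom E inf_le_right h') fun x => ?_
    obtain ⟨y, rfl⟩ := bT.surjective x
    show (((b * a * b⁻¹) (Subgroup.inclusion inf_le_left (bT y)) : R) : Ω) =
      ((MulAut.congr bT aT (bT y) : ↥(R ⊓ T)) : Ω)
    rw [autCongr_apply, MulEquiv.symm_apply_apply]
    have e1 : Subgroup.inclusion inf_le_left (bT y) = b (Subgroup.inclusion inf_le_left y) :=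
      Subtype.ext rfl
    rw [e1, MulAut.mul_apply, MulAut.mul_apply, MulAut.inv_def, MulEquiv.symm_apply_apply]
    show _ = ((b (Subgroup.inclusion inf_le_left (aT y)) : R) : Ω)
    exact congrArg (fun z : R => ((b z : R) : Ω)) (Subtype.ext rfl)
  obtain ⟨ψ, hψ, hψ1, hψ2⟩ := h.cp.pair (side h.nor₁ h.cp) (side h.nor₂ h.cp.symm)
  refine (mem_autGroup_iff_hom D hRU).2 (mem_hom_congr D (restr_mem D hR hψ) fun y => ?_)
  refine hom_eq_sup ((R.subtype.comp (b * a * b⁻¹).toMonoidHom).comp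
    (Subgroup.inclusion (sup_le inf_le_left inf_le_left))) ψ (fun x => ?_) (fun x => ?_) ⟨y, hR y.2⟩
  · exact (hψ1 x).symm
  · exact (hψ2 x).symm

/-- Decomposition on split subgroups. -/
theorem NP.decomp_split {P : Subgroup Ω} (hP : P ≤ U) (hsplit : Split T₁ T₂ P) :
    ∀ φ ∈ F.Hom P, Decomp F D P φ := by
  have hS := h.pgrp
  have hF := h.sat
  have := h.cp.finU
  have hI := h.invT
  revert hsplit
  refine downward_induction (S := U)
    (motive := fun P => Split T₁ T₂ P → ∀ φ ∈ F.Hom P, Decomp F D P φ) ?_ hP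
  intro P hP ih hsplit φ hφ
  have himg : ∀ {Q : Subgroup Ω} {f : Q →* Ω}, Split T₁ T₂ Q → f ∈ F.Hom Q → f.range ≤ U :=
    fun hQ hf => (h.split_range hQ hf).le.trans h.cp.sup.le
  rcases hP.eq_or_lt with rfl | hlt
  · have hr : φ.range = P :=
      range_eq_of_image_le (F.injective_of_mem hφ) (himg hsplit hφ) le_rfl
    exact ⟨_, toIso_mem_autGroup F hφ hr, _, subtype_mem D le_rfl,
      fun x => (autExt_of_mem (toIso F hφ hr) x.2).symm⟩
  obtain ⟨R, hPR, hR⟩ := exists_fullyNormalized F (hP.trans h.le)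
  obtain ⟨f₀, hf₀, hf₀r⟩ := hPR
  have hRsplit : Split T₁ T₂ R := hf₀r ▸ h.split_range hsplit hf₀
  have hRT : R ≤ U := hf₀r ▸ himg hsplit hf₀
  have hcR : Nat.card P = Nat.card R := isConj_card_eq ⟨f₀, hf₀, hf₀r⟩
  have key : ∀ Q, Q ≤ U → Split T₁ T₂ Q → F.IsConj Q R →
      ∃ f : Q ≃* R, IsIso F f ∧ Decomp F D Q (fun x => (f x : Ω)) := by
    intro Q hQT hQs hQ
    obtain ⟨ψ, hψ, -, hψm⟩ := exists_normalizer_map_fullyNormalized hS hF hR hQ
    have hQlt : Q < U := lt_of_le_of_ne hQT fun h => by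
      have h1 := card_lt_of_lt le_rfl hlt
      have h2 := isConj_card_eq hQ
      rw [h] at h2
      omega
    have hNS : normalizerIn U Q ≤ normalizerIn S Q := inf_le_inf_right _ h.le
    have hle := le_normalizerIn (S := S) (hQT.trans h.le)
    have hr : (restr hle ψ).range = R := by rw [range_restr, hψm]
    refine ⟨toIso F (restr_mem F hle hψ) hr, toIso_isIso F _ _, ?_⟩
    refine decomp_restrict (ih (normalizerIn U Q) (normalizerIn_le Q) ?_ (h.split_normalizer hQs) _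
      (restr_mem F hNS hψ)) (le_normalizerIn hQT) fun x => rfl
    rw [hcR, ← isConj_card_eq hQ]
    exact card_lt_of_lt (normalizerIn_le Q) (lt_normalizerIn (hS.to_le h.le) hQlt)
  obtain ⟨f₁, hf₁, hd₁⟩ := key P hP hsplit ⟨f₀, hf₀, hf₀r⟩
  obtain ⟨f₂, hf₂, hd₂⟩ := key φ.range (himg hsplit hφ) (h.split_range hsplit hφ)
    (isConj_trans (isConj_symm ⟨φ, hφ, rfl⟩) ⟨f₀, hf₀, hf₀r⟩)
  set a : MulAut R := f₁.symm.trans ((toIso F hφ rfl).trans f₂) with hadef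
  have ha : a ∈ F.autGroup R :=
    (mem_autGroup F hR.1).2 (hf₁.symm.trans ((toIso_isIso F hφ rfl).trans hf₂))
  have hRlt : R < U := lt_of_le_of_ne hRT fun h => by
    have h1 := card_lt_of_lt le_rfl hlt
    rw [← h] at h1
    omega
  haveI hKn : ((D.autGroup R).subgroupOf (F.autGroup R)).Normal := ⟨fun x hx y => by
    rw [Subgroup.mem_subgroupOf] at hx ⊢
    exact h.autConj hRsplit y.2 hx⟩
  obtain ⟨hh, k, N, N', en, hRN, hak, hk, hen, -, hNn, hag, hext⟩ :=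
    Cfsg.Agent.FusionAux.exists_frattini_extend hS hF hR
      ((D.autGroup R).subgroupOf (F.autGroup R)) ⟨a, ha⟩
  have hNU : normalizerIn U R ≤ N := fun t ht => by
    refine hext t ⟨h.le ht.1, ht.2⟩ ⟨⟨R.normalizerMonoidHom ⟨t, ht.2⟩,
      autInducedBy_le_autGroup F hR.1 (mem_autInducedBy.2 ⟨t, h.le ht.1, fun _ => rfl⟩)⟩, ?_,
      fun _ => rfl⟩
    exact autInducedBy_le_autGroup D hRT (mem_autInducedBy.2 ⟨t, ht.1, fun _ => rfl⟩)
  have hdh : Decomp F D R (fun x => ((hh : MulAut R) x : Ω)) := by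
    refine decomp_restrict (ih (normalizerIn U R) (normalizerIn_le R) ?_
      (h.split_normalizer hRsplit) _ (restr_mem F hNU hen)) (le_normalizerIn hRT)
      fun x => (hag x).symm
    rw [hcR]
    exact card_lt_of_lt (normalizerIn_le R) (lt_normalizerIn (hS.to_le h.le) hRlt)
  have hdk : Decomp F D R (fun x => ((k : MulAut R) x : Ω)) :=
    ⟨1, one_mem _, _, autGroup_mem_hom D hRT hk,
      fun x => (autExt_of_mem (1 : MulAut U) (hRT ((k : MulAut R) x).2)).symm⟩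
  have hda := decomp_comp hI hdk hdh fun x => ((k : MulAut R) x).2
  have h3 := decomp_comp hI hd₁ hda fun x => (f₁ x).2
  have h4 := decomp_comp hI h3 (decomp_symm hI f₂ hd₂) fun x => ((hh : MulAut R) _).2
  refine decomp_restrict h4 le_rfl fun x => ?_
  have hv : ((hh : MulAut R) ((k : MulAut R) (f₁ x))) = a (f₁ x) :=
    (congrArg (fun m : F.autGroup R => (m : MulAut R) (f₁ x)) hak).symm
  have hw : a (f₁ x) = f₂ (toIso F hφ rfl x) := by
    show f₂ (toIso F hφ rfl (f₁.symm (f₁ x))) = _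
    rw [MulEquiv.symm_apply_apply]
  show φ x = ((f₂.symm ⟨((hh : MulAut R) ((k : MulAut R) (f₁ x)) : Ω), _⟩ : φ.range) : Ω)
  have e : (⟨((hh : MulAut R) ((k : MulAut R) (f₁ x)) : Ω), ((hh : MulAut R) _).2⟩ : R) =
      f₂ (toIso F hφ rfl x) := Subtype.ext (congrArg Subtype.val (hv.trans hw))
  rw [e, MulEquiv.symm_apply_apply]
  rfl

omit [Finite S] [Fact p.Prime] in
theorem NP.conj_iff {g : Ω} (hg : g ∈ S) (x : Ω) : g * x * g⁻¹ ∈ U ↔ x ∈ U := by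
  have hn : ∀ {T : Subgroup Ω}, F.StronglyClosed T → g ∈ Subgroup.normalizer (T : Set Ω) :=
    fun hT => sc_le_normalizer hT hg
  have hle : g ∈ Subgroup.normalizer (U : Set Ω) := by
    have h₁ := hn h.nor₁.1.2.2.2.1
    have h₂ := hn h.nor₂.1.2.2.2.1
    rw [← h.cp.sup]
    refine Subgroup.mem_normalizer_iff.2 fun y => ⟨fun hy => ?_, fun hy => ?_⟩
    · obtain ⟨a, ha, b, hb, rfl⟩ := exists_mul_of_mem_sup h.cp.comm hy
      rw [show g * (a * b) * g⁻¹ = (g * a * g⁻¹) * (g * b * g⁻¹) by group]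
      exact Subgroup.mul_mem _ (Subgroup.mem_sup_left ((Subgroup.mem_normalizer_iff.1 h₁ a).1 ha))
        (Subgroup.mem_sup_right ((Subgroup.mem_normalizer_iff.1 h₂ b).1 hb))
    · obtain ⟨a, ha, b, hb, he⟩ := exists_mul_of_mem_sup h.cp.comm hy
      rw [show y = (g⁻¹ * a * g) * (g⁻¹ * b * g) by
        rw [show (g⁻¹ * a * g) * (g⁻¹ * b * g) = g⁻¹ * (a * b) * g by group, ← he]; group]
      refine Subgroup.mul_mem _ (Subgroup.mem_sup_left ?_) (Subgroup.mem_sup_right ?_)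
      · exact (Subgroup.mem_normalizer_iff.1 h₁ _).2 (by simpa [mul_assoc] using ha)
      · exact (Subgroup.mem_normalizer_iff.1 h₂ _).2 (by simpa [mul_assoc] using hb)
  exact ((Subgroup.mem_normalizer_iff.1 hle) x).symm

/-- A map preserving `U` and decomposing there. -/
def NP.Good (_h : NP p F E₁ E₂ D) (P : Subgroup Ω) (φ : P →* Ω) : Prop :=
  (∀ x : P, φ x ∈ U ↔ (x : Ω) ∈ U) ∧
    Decomp F D (P ⊓ U) (fun x => φ (Subgroup.inclusion inf_le_left x))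

omit [Finite S] [Fact p.Prime] in
theorem NP.good_conj {P : Subgroup Ω} {g : Ω} (hg : g ∈ S) :
    h.Good P (conjHom P g) := by
  have hN : g ∈ Subgroup.normalizer (U : Set Ω) :=
    Subgroup.mem_normalizer_iff.2 fun x => (h.conj_iff hg x).symm
  refine ⟨fun x => h.conj_iff hg x, U.normalizerMonoidHom ⟨g, hN⟩,
    autInducedBy_le_autGroup F h.le (mem_autInducedBy.2 ⟨g, hg, fun _ => rfl⟩), _,
    subtype_mem D inf_le_right, fun x => ?_⟩
  show _ = autExt _ (x : Ω)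
  rw [autExt_of_mem _ x.2.2]
  rfl

omit [Finite S] [Fact p.Prime] in
theorem NP.good_comp {P Q : Subgroup Ω} {φ : P →* Ω} {ψ : Q →* Ω} (hφ : h.Good P φ)
    (hψ : h.Good Q ψ) (hv : ∀ x : P, φ x ∈ Q) : h.Good P (ψ.comp (φ.codRestrict Q hv)) := by
  refine ⟨fun x => (hψ.1 ⟨φ x, hv x⟩).trans (hφ.1 x), ?_⟩
  exact decomp_restrict (decomp_comp h.invT hφ.2 hψ.2
    fun x => ⟨hv _, (hφ.1 _).2 x.2.2⟩) le_rfl fun x => rfl

omit [Finite S] [Fact p.Prime] in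
theorem NP.good_inv {P : Subgroup Ω} {φ : P →* Ω} (hφ : φ ∈ F.Hom P) (hg : h.Good P φ)
    (ψ : φ.range →* Ω) (hψ : ∀ x : P, ψ ⟨φ x, ⟨x, rfl⟩⟩ = (x : Ω)) : h.Good φ.range ψ := by
  refine ⟨?_, ?_⟩
  · rintro ⟨_, x, rfl⟩
    rw [hψ x]
    exact (hg.1 x).symm
  have hr' := restr_mem F (inf_le_left : P ⊓ U ≤ P) hφ
  have hr : (restr (inf_le_left : P ⊓ U ≤ P) φ).range = φ.range ⊓ U := by
    refine le_antisymm ?_ ?_
    · rintro _ ⟨x, rfl⟩
      exact ⟨⟨_, rfl⟩, (hg.1 _).2 x.2.2⟩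
    · rintro _ ⟨⟨x, rfl⟩, hx⟩
      exact ⟨⟨x, x.2, (hg.1 x).1 hx⟩, rfl⟩
  have hd := decomp_symm h.invT (toIso F hr' hr) (decomp_restrict hg.2 le_rfl fun x => rfl)
  refine decomp_restrict hd le_rfl fun y => ?_
  obtain ⟨x, hx⟩ := (toIso F hr' hr).surjective y
  subst hx
  rw [Subtype.coe_eta, MulEquiv.symm_apply_apply]
  exact hψ _

/-- Every map preserves `U` and decomposes on it. -/
theorem NP.good_all {P : Subgroup Ω} {φ : P →* Ω} (hφ : φ ∈ F.Hom P) : h.Good P φ := by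
  have hS := h.pgrp
  have hF := h.sat
  let G : FusionSystem S := subSystem F h.Good (fun {P g} _ hg => h.good_conj hg)
    (fun _ _ h1 h2 hv => h.good_comp h1 h2 hv) (fun hφ hg ψ _ hψ => h.good_inv hφ hg ψ hψ)
  refine ((hom_subset_of_step hS hF G fun P hP ih => ?_) P hφ).2
  clear hφ φ
  have hPS := hP.1
  have : Finite P := finite_of_le ‹_› hPS
  have hT₁ := h.nor₁.1.2.2.2.1
  have hT₂ := h.nor₂.1.2.2.2.1
  intro α hα
  have hαh := autGroup_mem_hom F hPS hα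
  by_cases hs : Split T₁ T₂ (P ⊓ U)
  · have hαi := autGroup_mem_hom F hPS ((F.autGroup P).inv_mem hα)
    have hpres : ∀ {f : P →* Ω}, f ∈ F.Hom P → ∀ x : P, (x : Ω) ∈ U → f x ∈ U := by
      intro f hf x hx
      obtain ⟨a, ha, b, hb, he⟩ := h.split_mul hs ⟨x.2, hx⟩
      rw [show x = ⟨a, ha.1.1⟩ * ⟨b, hb.1.1⟩ from Subtype.ext he, map_mul]
      exact U.mul_mem (h.cp.le₁ (sc_map_mem hT₁ hf (x := ⟨a, ha.1.1⟩) ha.2))
        (h.cp.le₂ (sc_map_mem hT₂ hf (x := ⟨b, hb.1.1⟩) hb.2))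
    refine (mem_autGroup_iff_hom G hPS).2 ⟨hαh, fun x => ⟨fun hx => ?_, fun hx => hpres hαh x hx⟩,
      decomp_restrict (h.decomp_split inf_le_right hs _ (restr_mem F inf_le_left hαh)) le_rfl
        fun x => rfl⟩
    have := hpres hαi (α x) hx
    rwa [show (P.subtype.comp (α⁻¹).toMonoidHom) (α x) = (x : Ω) from
      congrArg Subtype.val (α.symm_apply_apply x)] at this
  -- an element of `T₁` moving `P` only inside `T₁`
  set P₁ := (P ⊓ U ⊔ T₂) ⊓ T₁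
  have hex : ∃ t ∈ P₁, t ∈ Subgroup.normalizer (P : Set Ω) ∧ t ∉ P := by
    have hP₁S : P₁ ≤ S := inf_le_right.trans hT₁.1
    have hnot : ¬ P₁ ≤ P := fun hle => hs fun x hx => by
      obtain ⟨a, ha, b, hb, rfl⟩ := exists_mul_of_mem_sup h.cp.comm (h.cp.sup.ge hx.2)
      have ha' : a ∈ P₁ := ⟨by
        have := (P ⊓ U ⊔ T₂).mul_mem (Subgroup.mem_sup_left hx)
          (Subgroup.mem_sup_right (T₂.inv_mem hb))
        rwa [mul_inv_cancel_right] at this, ha⟩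
      have haP : a ∈ P ⊓ U := ⟨hle ha', h.cp.le₁ ha⟩
      refine Subgroup.mul_mem _ (Subgroup.mem_sup_left ⟨haP, ha⟩) (Subgroup.mem_sup_right ⟨?_, hb⟩)
      have := (P ⊓ U).mul_mem ((P ⊓ U).inv_mem haP) hx
      rwa [inv_mul_cancel_left] at this
    have hPn : P ≤ Subgroup.normalizer (P₁ : Set Ω) := by
      have key : ∀ y ∈ P, ∀ t ∈ P₁, y * t * y⁻¹ ∈ P₁ := by
        intro y hy t ht
        refine ⟨?_, sc_conj_mem hT₁ (hPS hy) ht.2⟩
        have hle : P ⊓ U ⊔ T₂ ≤ (P ⊓ U ⊔ T₂).comap (MulAut.conj y).toMonoidHom := sup_le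
          (fun z hz => Subgroup.mem_sup_left ⟨P.mul_mem (P.mul_mem hy hz.1) (P.inv_mem hy),
            (h.conj_iff (hPS hy) z).2 hz.2⟩)
          fun z hz => Subgroup.mem_sup_right (sc_conj_mem hT₂ (hPS hy) hz)
        exact hle ht.1
      intro y hy
      refine Subgroup.mem_normalizer_iff.2 fun t => ⟨key y hy t, fun ht => ?_⟩
      have := key y⁻¹ (P.inv_mem hy) _ ht
      simpa [mul_assoc] using this
    have hlt : P < P ⊔ P₁ := lt_of_le_of_ne le_sup_left fun e => hnot (e ▸ le_sup_right)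
    have hXS : P ⊔ P₁ ≤ S := sup_le hPS hP₁S
    have : Finite ↥(P ⊔ P₁) := finite_of_le ‹_› hXS
    obtain ⟨g, hgX, hgN, hgP⟩ := exists_normalizer_mem_not_mem (hS.to_le hXS) hlt
    have hmul : ((P ⊔ P₁ : Subgroup Ω) : Set Ω) = (P : Set Ω) * (P₁ : Set Ω) :=
      Subgroup.coe_mul_of_left_le_normalizer_right P P₁ hPn
    rw [← SetLike.mem_coe, hmul] at hgX
    obtain ⟨y, hy, t, ht, rfl⟩ := Set.mem_mul.1 hgX
    refine ⟨t, ht, ?_, fun htP => hgP (P.mul_mem hy htP)⟩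
    have := (Subgroup.normalizer (P : Set Ω)).mul_mem
      ((Subgroup.normalizer (P : Set Ω)).inv_mem (Subgroup.le_normalizer hy)) hgN
    rwa [inv_mul_cancel_left] at this
  obtain ⟨t, ht, htN, htP⟩ := hex
  obtain ⟨q, hq, htq⟩ : ∃ q ∈ P, ∀ y ∈ T₁, t * y * t⁻¹ = q * y * q⁻¹ := by
    have hn : P ⊓ U ≤ Subgroup.normalizer (T₂ : Set Ω) :=
      inf_le_left.trans (hPS.trans (sc_le_normalizer hT₂))
    have hmem : t ∈ ((P ⊓ U ⊔ T₂ : Subgroup Ω) : Set Ω) := ht.1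
    rw [Subgroup.coe_mul_of_left_le_normalizer_right _ _ hn] at hmem
    obtain ⟨q, hq, v, hv, rfl⟩ := Set.mem_mul.1 hmem
    refine ⟨q, hq.1, fun y hy => ?_⟩
    rw [show q * v * y * (q * v)⁻¹ = q * (v * y) * v⁻¹ * q⁻¹ by group, ← h.cp.comm y hy v hv]
    group
  set P' := P ⊓ T₁
  let K : Subgroup (MulAut P) :=
    { carrier := {a | a ∈ F.autGroup P ∧ (∀ y : P, (y : Ω)⁻¹ * (a y : Ω) ∈ T₁) ∧
        ∃ q : P, ∀ y : P, (y : Ω) ∈ T₁ → a y = q * y * q⁻¹}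
      one_mem' := ⟨one_mem _, fun y => by simp, 1, fun y _ => by simp⟩
      mul_mem' := by
        rintro a b ⟨ha, ha1, qa, ha2⟩ ⟨hb, hb1, qb, hb2⟩
        refine ⟨mul_mem ha hb, fun y => ?_, a qb * qa, fun y hy => ?_⟩
        · have := T₁.mul_mem (hb1 y) (ha1 (b y))
          simpa [mul_assoc] using this
        · rw [MulAut.mul_apply, hb2 y hy, map_mul, map_mul, ha2 y hy, map_inv, mul_inv_rev]
          simp only [mul_assoc]
      inv_mem' := by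
        rintro a ⟨ha, ha1, qa, ha2⟩
        refine ⟨(F.autGroup P).inv_mem ha, fun y => ?_, qa⁻¹, fun y hy => ?_⟩
        · have := T₁.inv_mem (ha1 (a.symm y))
          simpa using this
        · have hy' : (a.symm y : Ω) ∈ T₁ := by
            have := T₁.mul_mem hy (T₁.inv_mem (ha1 (a.symm y)))
            simpa using this
          have h1 := ha2 _ hy'
          rw [MulEquiv.apply_symm_apply] at h1
          rw [MulAut.inv_def, inv_inv]
          calc a.symm y = qa⁻¹ * (qa * a.symm y * qa⁻¹) * qa := by group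
            _ = qa⁻¹ * y * qa := by rw [← h1] }
  have hKp : IsPGroup p K := by
    rintro ⟨a, ha, ha1, qa, ha2⟩
    have hstep : ∀ (n : ℕ) (y : P), (y : Ω) ∈ T₁ → (a ^ n) y = qa ^ n * y * (qa ^ n)⁻¹ := by
      intro n
      induction n with
      | zero => intro y _; simp
      | succ n ihn =>
        intro y hy
        rw [pow_succ, MulAut.mul_apply, ihn (a y) (by
          have := T₁.mul_mem hy (ha1 y)
          simpa using this), ha2 y hy, pow_succ]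
        group
    have hd : ∀ (n : ℕ) (y : P), (y : Ω)⁻¹ * ((a ^ n) y : Ω) ∈ T₁ := by
      intro n
      induction n with
      | zero => intro y; simp
      | succ n ihn =>
        intro y
        have := T₁.mul_mem (ihn y) (ha1 ((a ^ n) y))
        rw [pow_succ', MulAut.mul_apply]
        simpa [mul_assoc] using this
    obtain ⟨i, hi⟩ := (hS.to_le hPS) qa
    obtain ⟨k, hk⟩ := ((hS.to_le hPS).to_subgroup (P'.subgroupOf P)).exists_card_eq
    refine ⟨i + k, Subtype.ext ?_⟩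
    show a ^ p ^ (i + k) = 1
    rw [pow_add, pow_mul, ← hk]
    refine Meet.pow_card_eq_one_of_stab _ (B := P'.subgroupOf P) (fun y hy => ?_) fun y => ?_
    · rw [hstep _ y (Subgroup.mem_subgroupOf.1 hy).2, hi]
      simp
    · rw [Subgroup.mem_subgroupOf]
      exact ⟨P.mul_mem (P.inv_mem y.2) (Subtype.mem _), hd _ y⟩
  haveI hKn : (K.subgroupOf (F.autGroup P)).Normal := by
    refine ⟨fun a ha b => ?_⟩
    rw [Subgroup.mem_subgroupOf] at ha ⊢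
    obtain ⟨ha, ha1, qa, ha2⟩ := ha
    have hb := autGroup_mem_hom F hPS b.2
    refine ⟨mul_mem (mul_mem b.2 ha) ((F.autGroup P).inv_mem b.2), fun y => ?_, (b : MulAut P) qa,
      fun y hy => ?_⟩ <;> obtain ⟨z, rfl⟩ := (b : MulAut P).surjective y
    · show ((b : MulAut P) z : Ω)⁻¹ *
        ((b : MulAut P) ((a : MulAut P) ((b : MulAut P).symm ((b : MulAut P) z))) : Ω) ∈ T₁
      rw [MulEquiv.symm_apply_apply, ← Subgroup.coe_inv, ← Subgroup.coe_mul, ← map_inv, ← map_mul]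
      exact sc_map_mem hT₁ hb (x := z⁻¹ * (a : MulAut P) z) (ha1 z)
    · show (b : MulAut P) ((a : MulAut P) ((b : MulAut P).symm ((b : MulAut P) z))) = _
      rw [MulEquiv.symm_apply_apply, ha2 z ((sc_map_mem_iff hT₁ hb z).1 hy), map_mul, map_mul,
        map_inv]
  obtain ⟨hh, k, N, N', en, hPN, hak, hk, hen, -, hNn, hag, hext⟩ :=
    Cfsg.Agent.FusionAux.exists_frattini_extend hS hF hP (K.subgroupOf (F.autGroup P)) ⟨α, hα⟩
  have hct : P.normalizerMonoidHom ⟨t, htN⟩ ∈ K := by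
    refine ⟨autInducedBy_le_autGroup F hPS (mem_autInducedBy.2 ⟨t, hT₁.1 ht.2, fun _ => rfl⟩),
      fun y => ?_, ⟨q, hq⟩, fun y hy => Subtype.ext (htq y hy)⟩
    show (y : Ω)⁻¹ * (t * y * t⁻¹) ∈ T₁
    have := T₁.mul_mem (sc_conj_mem hT₁ (hPS (P.inv_mem y.2)) ht.2) (T₁.inv_mem ht.2)
    simpa [mul_assoc] using this
  have htNN : t ∈ N := hext t ⟨hT₁.1 ht.2, htN⟩ ⟨⟨_, hct.1⟩, hct, fun _ => rfl⟩
  have hPlt : P < N := lt_of_le_of_ne hPN fun e => htP (e ▸ htNN)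
  have hNS : N ≤ S := hNn.trans (normalizerIn_le P)
  have hhG : (hh : MulAut P) ∈ G.autGroup P := by
    have h1 := ih N hNS (card_lt_of_lt hNS hPlt) hen
    exact (mem_autGroup_iff_hom G hPS).2
      (mem_hom_congr G (restr_mem G hPN h1) fun x => (hag x).symm)
  have hkG : (k : MulAut P) ∈ G.autGroup P := by
    obtain ⟨-, Sy, hSy⟩ := (saturated_fullyNormalized hS hF hP).2
    have hp : IsPGroup p (K.subgroupOf (F.autGroup P)) :=
      hKp.of_equiv (Subgroup.subgroupOfEquivOfLe (fun a ha => ha.1 : K ≤ F.autGroup P)).symm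
    have hmem : k ∈ (Sy : Subgroup (F.autGroup P)) := hp.le_sylow_of_normal Sy hk
    rw [hSy] at hmem
    exact autInducedBy_le_autGroup G hPS hmem
  rw [show α = (hh : MulAut P) * (k : MulAut P) from congrArg Subtype.val hak]
  exact mul_mem hhG hkG

theorem NP.strongly_closed : F.StronglyClosed U :=
  sc_of_elements h.le fun _ _ hφ x hx => ((h.good_all hφ).1 x).2 hx

omit [Finite S] in
theorem NP.good_ext_one {a : MulAut U} (ha : a ∈ D.autGroup U)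
    (ho : Nat.Coprime (orderOf a) p) (hfix : ∀ y : U, (y : Ω) ∈ T₂ → a y = y) :
    a ∈ extGroup F h.le := by
  have := h.fin
  have := h.cp.fin₁
  have := h.cp.finU
  have hT₁ := h.nor₁.1.2.2.2.1
  have hT₂ := h.nor₂.1.2.2.2.1
  have hQC : T₂ ≤ centralizerIn S T₁ := fun v hv => ⟨hT₂.1 hv,
    Subgroup.mem_centralizer_iff.2 fun t ht => h.cp.comm t ht v hv⟩
  have hah := autGroup_mem_hom D le_rfl ha
  have heT := h.cp.mem_left (restr_mem D h.cp.le₁ hah) le_rfl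
  have her : (restr h.cp.le₁ (U.subtype.comp a.toMonoidHom)).range = T₁ :=
    range_eq_of_image_le (E₁.injective_of_mem heT) (range_le_S E₁ heT) le_rfl
  set eA : MulAut T₁ := toIso E₁ heT her
  have heA : eA ∈ E₁.autGroup T₁ := toIso_mem_autGroup E₁ heT her
  have haT : ∀ t : T₁, (a (Subgroup.inclusion h.cp.le₁ t) : Ω) = eA t := fun t => rfl
  have heo : Nat.Coprime (orderOf eA) p := by
    refine Nat.Coprime.coprime_dvd_left (orderOf_dvd_of_pow_eq_one ?_) ho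
    refine MulEquiv.ext fun t => Subtype.ext ?_
    have := pow_ext_apply h.cp.le₁ haT (orderOf a) t
    rw [pow_orderOf_eq_one] at this
    simpa using this.symm
  set W := T₁ ⊔ centralizerIn S T₁
  obtain ⟨β, hβ, hβT, hβc⟩ := h.nor₁.2 eA heA
  have hWS : W ≤ S := sup_le hT₁.1 (centralizerIn_le T₁)
  have : Finite W := finite_of_le ‹_› hWS
  have hR0S : T₁ ⊓ T₂ ≤ S := inf_le_left.trans hT₁.1
  have : Finite ↥(T₁ ⊓ T₂) := finite_of_le ‹_› hR0S
  obtain ⟨m, hm⟩ := (h.pgrp.to_le hR0S).exists_card_eq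
  obtain ⟨k, hk1, hk2⟩ := Nat.chineseRemainder (heo.pow_right m) 1 0
  set Ψ := β ^ k
  have hΨT : ∀ t : T₁, (Ψ (Subgroup.inclusion le_sup_left t) : Ω) = eA t := fun t => by
    refine (pow_ext_apply le_sup_left hβT k t).trans ?_
    have : eA ^ k = eA := by
      conv_rhs => rw [← pow_one eA]
      exact pow_eq_pow_iff_modEq.2 hk1
    rw [this]
  have hΨc : ∀ (n : ℕ) (c : W), (c : Ω) ∈ centralizerIn S T₁ →
      (c : Ω)⁻¹ * ((β ^ n) c : Ω) ∈ T₁ ⊓ Subgroup.centralizer (T₁ : Set Ω) := by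
    intro n
    induction n with
    | zero => intro c _; simp
    | succ n ih =>
      intro c hc
      have hz := ih c hc
      have e1 : (β ^ n) c = c * Subgroup.inclusion le_sup_left ⟨_, hz.1⟩ :=
        Subtype.ext (mul_inv_cancel_left (c : Ω) ((β ^ n) c : Ω)).symm
      have h1 : (eA ⟨_, hz.1⟩ : Ω) ∈ T₁ ⊓ Subgroup.centralizer (T₁ : Set Ω) := by
        refine ⟨(eA _).2, Subgroup.mem_centralizer_iff.2 fun t ht => ?_⟩
        obtain ⟨w, hw⟩ := eA.surjective ⟨t, ht⟩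
        have e2 : w * ⟨_, hz.1⟩ = ⟨_, hz.1⟩ * w :=
          Subtype.ext (Subgroup.mem_centralizer_iff.1 hz.2 _ w.2)
        have e3 := congrArg (fun s => (eA s : Ω)) e2
        simp only [map_mul, Subgroup.coe_mul, hw] at e3
        exact e3
      rw [pow_succ', MulAut.mul_apply, e1, map_mul, Subgroup.coe_mul, hβT, ← mul_assoc]
      exact (T₁ ⊓ Subgroup.centralizer (T₁ : Set Ω)).mul_mem (hβc c hc) h1
  have hΨQ : ∀ q : W, (q : Ω) ∈ T₂ → Ψ q = q := by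
    intro q hq
    set z := q⁻¹ * β q
    have hz : (z : Ω) ∈ T₁ ⊓ T₂ := ⟨(hβc q (hQC hq)).1,
      T₂.mul_mem (T₂.inv_mem hq)
        (sc_map_mem hT₂ (autGroup_mem_hom F hWS hβ) (x := q) hq)⟩
    have hfixz : β z = z := by
      refine Subtype.ext ((hβT ⟨_, hz.1⟩).trans ?_)
      rw [← haT]
      exact congrArg Subtype.val (hfix _ hz.2)
    have hn : ∀ n : ℕ, (β ^ n) q = q * z ^ n := by
      intro n
      induction n with
      | zero => simp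
      | succ n ih =>
        rw [pow_succ', MulAut.mul_apply, ih, map_mul, map_pow, hfixz, pow_succ', ← mul_assoc,
          ← mul_assoc, mul_inv_cancel, one_mul]
    set z' : ↥(T₁ ⊓ T₂) := ⟨_, hz⟩
    have h1 : z' ^ k = 1 := orderOf_dvd_iff_pow_eq_one.1
      ((hm ▸ orderOf_dvd_natCard z' : orderOf z' ∣ p ^ m).trans (Nat.modEq_zero_iff_dvd.1 hk2))
    have h2 : z ^ k = 1 := Subtype.ext ((SubmonoidClass.coe_pow z k).trans
      (congrArg Subtype.val h1))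
    rw [show Ψ q = (β ^ k) q from rfl, hn k, h2, mul_one]
  set W' := U ⊔ centralizerIn S U
  have hUW : U ≤ W := fun x hx => by
    obtain ⟨v, hv, u, hu, rfl⟩ := exists_mul_of_mem_sup h.cp.comm (h.cp.sup.ge hx)
    exact W.mul_mem (Subgroup.mem_sup_left hv) (Subgroup.mem_sup_right (hQC hu))
  have hCU : centralizerIn S U ≤ centralizerIn S T₁ := centralizerIn_antitone h.cp.le₁
  have hW'W : W' ≤ W := sup_le hUW (hCU.trans le_sup_right)
  have hW'S : W' ≤ S := hW'W.trans hWS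
  have hΨh := restr_mem F hW'W (autGroup_mem_hom F hWS ((F.autGroup W).pow_mem hβ k))
  have hΨU : ∀ x (hx : x ∈ U), (Ψ ⟨x, hUW hx⟩ : Ω) = a ⟨x, hx⟩ := fun x hx => by
    obtain ⟨v, hv, u, hu, rfl⟩ := exists_mul_of_mem_sup h.cp.comm (h.cp.sup.ge hx)
    have huW : u ∈ W := Subgroup.mem_sup_right (hQC hu)
    have e1 : (⟨v * u, hUW hx⟩ : W) = Subgroup.inclusion le_sup_left ⟨v, hv⟩ * ⟨u, huW⟩ := rfl
    have e2 : (⟨v * u, hx⟩ : U) = Subgroup.inclusion h.cp.le₁ ⟨v, hv⟩ * ⟨u, h.cp.le₂ hu⟩ := rfl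
    rw [e1, map_mul, hΨQ ⟨u, huW⟩ hu, Subgroup.coe_mul, hΨT, e2, map_mul,
      hfix ⟨u, h.cp.le₂ hu⟩ hu, Subgroup.coe_mul, haT]
  have : Finite W' := finite_of_le ‹_› hW'S
  have hr : (restr hW'W (W.subtype.comp Ψ.toMonoidHom)).range = W' :=
    range_eq_of_image_le (F.injective_of_mem hΨh) (range_le_sup_of_le _
      (fun x hx => Subgroup.mem_sup_left (by
        show (Ψ ⟨(x : Ω), _⟩ : Ω) ∈ U
        rw [hΨU x hx]
        exact (a _).2))
      (fun x hx => by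
        show (Ψ ⟨(x : Ω), _⟩ : Ω) ∈ W'
        have hz := hΨc k ⟨x, hW'W (Subgroup.mem_sup_right hx)⟩ (hCU hx)
        have := W'.mul_mem (Subgroup.mem_sup_right hx)
          (Subgroup.mem_sup_left (h.cp.le₁ hz.1))
        rwa [mul_inv_cancel_left] at this)) le_rfl
  refine ⟨toIso F hΨh hr, toIso_mem_autGroup F hΨh hr, fun x => hΨU x x.2, fun c hc => ?_⟩
  have hz := hΨc k (Subgroup.inclusion hW'W c) (hCU hc)
  refine ⟨h.cp.le₁ hz.1, Subgroup.mem_centralizer_iff.2 fun x hx => ?_⟩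
  obtain ⟨v, hv, u, hu, rfl⟩ := exists_mul_of_mem_sup h.cp.comm (h.cp.sup.ge hx)
  exact (Commute.mul_left (show Commute v _ from Subgroup.mem_centralizer_iff.1 hz.2 v hv)
    (show Commute u _ from (h.cp.comm _ hz.1 u hu).symm)).eq

omit [Finite S] [Fact p.Prime] in
theorem NP.swap : NP p F E₂ E₁ D :=
  ⟨h.fin, h.pgrp, h.sat, h.nor₂, h.nor₁, h.cp.symm, h.fix₂, h.fix₁⟩

omit [Finite S] in
/-- A `p'`-automorphism of the product has a good extension. -/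
theorem NP.good_ext {a : MulAut U} (ha : a ∈ D.autGroup U) (ho : Nat.Coprime (orderOf a) p) :
    a ∈ extGroup F h.le := by
  have := h.cp.finU
  have hah := autGroup_mem_hom D le_rfl ha
  have heT := h.cp.mem_left (restr_mem D h.cp.le₁ hah) le_rfl
  obtain ⟨ψ, hψ, hψ1, hψ2⟩ := h.cp.pair heT (subtype_mem E₂ le_rfl)
  have hψU := restr_mem D h.cp.sup.ge hψ
  have hr : (restr h.cp.sup.ge ψ).range = U :=
    range_eq_of_image_le (D.injective_of_mem hψU) (range_le_S D hψU) le_rfl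
  set a₁ : MulAut U := toIso D hψU hr
  have ha₁ : a₁ ∈ D.autGroup U := toIso_mem_autGroup D hψU hr
  have h11 : ∀ y : U, (y : Ω) ∈ T₁ → a₁ y = a y := fun y hy =>
    Subtype.ext (hψ1 ⟨y, hy⟩)
  have h12 : ∀ y : U, (y : Ω) ∈ T₂ → a₁ y = y := fun y hy => Subtype.ext (hψ2 ⟨y, hy⟩)
  have hpres : ∀ (n : ℕ) (y : U), (y : Ω) ∈ T₁ → ((a ^ n) y : Ω) ∈ T₁ := fun n y hy =>
    h.cp.mem_map (autGroup_mem_hom D le_rfl ((D.autGroup U).pow_mem ha n)) hy
  have h1pow : ∀ (n : ℕ) (y : U), ((y : Ω) ∈ T₁ → (a₁ ^ n) y = (a ^ n) y) ∧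
      ((y : Ω) ∈ T₂ → (a₁ ^ n) y = y) := by
    intro n
    induction n with
    | zero => intro y; exact ⟨fun _ => rfl, fun _ => rfl⟩
    | succ n ih =>
      intro y
      refine ⟨fun hy => ?_, fun hy => ?_⟩
      · rw [pow_succ', MulAut.mul_apply, (ih y).1 hy, h11 _ (hpres n y hy), pow_succ',
          MulAut.mul_apply]
      · rw [pow_succ', MulAut.mul_apply, (ih y).2 hy, h12 y hy]
  have ho₁ : Nat.Coprime (orderOf a₁) p := by
    refine Nat.Coprime.coprime_dvd_left (orderOf_dvd_of_pow_eq_one ?_) ho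
    refine MulEquiv.ext fun y => ?_
    obtain ⟨v, hv, u, hu, he⟩ := exists_mul_of_mem_sup h.cp.comm (h.cp.sup.ge y.2)
    have e : y = ⟨v, h.cp.le₁ hv⟩ * ⟨u, h.cp.le₂ hu⟩ := Subtype.ext he
    rw [e, map_mul, map_mul, ((h1pow _ _).1 hv), ((h1pow _ _).2 hu), pow_orderOf_eq_one]
    simp
  set a₂ := a₁⁻¹ * a
  have h2 : ∀ y : U, (y : Ω) ∈ T₁ → a₂ y = y := fun y hy => by
    rw [MulAut.mul_apply, MulAut.inv_def, MulEquiv.symm_apply_eq]
    exact (h11 y hy).symm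
  have hcomm : Commute a₁⁻¹ a := by
    refine Commute.inv_left ?_
    refine MulEquiv.ext fun y => ?_
    obtain ⟨v, hv, u, hu, he⟩ := exists_mul_of_mem_sup h.cp.comm (h.cp.sup.ge y.2)
    have e : y = ⟨v, h.cp.le₁ hv⟩ * ⟨u, h.cp.le₂ hu⟩ := Subtype.ext he
    have hau : (a ⟨u, h.cp.le₂ hu⟩ : Ω) ∈ T₂ :=
      h.cp.symm.mem_map hah (x := ⟨u, h.cp.le₂ hu⟩) hu
    have hav : (a ⟨v, h.cp.le₁ hv⟩ : Ω) ∈ T₁ := h.cp.mem_map hah (x := ⟨v, h.cp.le₁ hv⟩) hv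
    rw [e, map_mul, map_mul, MulAut.mul_apply, MulAut.mul_apply, MulAut.mul_apply,
      MulAut.mul_apply, h11 _ hav, h12 _ hau, h11 _ hv, h12 _ hu]
  have ho₂ : Nat.Coprime (orderOf a₂) p :=
    Nat.Coprime.coprime_dvd_left hcomm.orderOf_mul_dvd_mul_orderOf
      ((orderOf_inv a₁).symm ▸ ho₁.mul_left ho)
  have hm2 := h.swap.good_ext_one (mul_mem ((D.autGroup U).inv_mem ha₁) ha) ho₂ h2
  have hm1 := h.good_ext_one ha₁ ho₁ h12
  have := mul_mem hm1 hm2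
  rwa [mul_inv_cancel_left] at this

/-- The central product of two normal subsystems is normal. -/
theorem NP.normal : D.IsNormalIn F p := by
  have hUS := h.le
  have hU := h.strongly_closed
  have : Finite U := h.cp.finU
  refine ⟨⟨h.cp.sat, h.sat, invariant_of h.sub hU h.invT fun P hP φ hφ => ?_⟩, fun a ha => ?_⟩
  · exact decomp_restrict (h.good_all hφ).2 (le_inf le_rfl hP) fun x => rfl
  · have hDn : D.IsFullyNormalized U :=
      fullyNormalized_top ⟨le_rfl, fun R _ φ hφ => map_mem_S D hφ⟩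
    obtain ⟨-, P₀, hP₀⟩ := (saturated_fullyNormalized (h.pgrp.to_le hUS) h.cp.sat hDn).2
    have hsyl : SylIn p (autInducedBy U U) (D.autGroup U) :=
      ⟨autInducedBy_le_autGroup D le_rfl, P₀, hP₀⟩
    have hle : D.autGroup U ≤ extGroup F hUS := by
      refine le_of_sylow_pprime hsyl (fun b hb => ?_) fun b hb ho => h.good_ext hb ho
      obtain ⟨u, hu, hub⟩ := mem_autInducedBy.1 hb
      have hN : u ∈ Subgroup.normalizer ((U ⊔ centralizerIn S U : Subgroup Ω) : Set Ω) :=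
        Subgroup.le_normalizer (Subgroup.mem_sup_left hu)
      refine ⟨(U ⊔ centralizerIn S U).normalizerMonoidHom ⟨u, hN⟩,
        autInducedBy_le_autGroup F (sup_le hUS (centralizerIn_le U))
          (mem_autInducedBy.2 ⟨u, hUS hu, fun _ => rfl⟩), fun x => (hub x).symm, fun c hc => ?_⟩
      show (c : Ω)⁻¹ * (u * (c : Ω) * u⁻¹) ∈ _
      rw [Subgroup.mem_centralizer_iff.1 hc.2 u hu, mul_inv_cancel_right, inv_mul_cancel]
      exact Subgroup.one_mem _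
    exact hle ha

omit h

/-- Normality of the product of two normal subsystems with commuting groups. -/
theorem exists_normal_product (hS : IsPGroup p S) (hF : F.IsSaturated p)
    (hE₁ : E₁.IsNormalIn F p) (hE₂ : E₂.IsNormalIn F p)
    (hc : ∀ a ∈ T₁, ∀ b ∈ T₂, a * b = b * a) (hR₁ : E₁.IsCentral (T₁ ⊓ T₂))
    (hR₂ : E₂.IsCentral (T₁ ⊓ T₂)) :
    ∃ D : FusionSystem (T₁ ⊔ T₂), D.IsNormalIn F p ∧ CP p E₁ E₂ D ∧
      IsCentralProductOf E₁ E₂ D := by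
  have h₁S := hE₁.1.2.2.2.1.1
  have h₂S := hE₂.1.2.2.2.1.1
  have : Finite T₁ := finite_of_le ‹_› h₁S
  have : Finite T₂ := finite_of_le ‹_› h₂S
  obtain ⟨D, hD⟩ := exists_of_central (hS.to_le h₁S) (hS.to_le h₂S) hc hR₁ hR₂
  have hcp := of_isCentralProductOf (hS.to_le h₁S) (hS.to_le h₂S) hE₁.1.1 hE₂.1.1 hD
  exact ⟨D, (NP.of_cp hS hF hE₁ hE₂ hcp).normal, hcp, hD⟩

end Cfsg.Agent.Tech.CProd
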