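import Cfsg.Agent.Tech.ComponentBasics
import Cfsg.Agent.Tech.QuasisimpleNormal
import Cfsg.Agent.Tech.ProductNormal
import Cfsg.Agent.S5155

/-!
Components commute with semisimple normal subsystems not containing them, and are normal in
semisimple systems.
-/

set_option autoImplicit false

open Cfsg Cfsg.FusionSystem
open Cfsg.Agent.FusionSys Cfsg.Agent.FusionAlperin
open Cfsg.Agent.Tech.Commuting

namespace Cfsg.Agent.Tech.Meet

universe u

variable {Ω : Type u} [Group Ω] {S : Subgroup Ω} {p : ℕ}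

theorem eq_top_aux {U S : Subgroup Ω} {C : FusionSystem U} {F : FusionSystem S}
    (h : C.IsSubnormalIn F p) :
    (∀ (V : Subgroup Ω) (D : FusionSystem V), D.IsNormalIn F p → U ≤ V →
      V = S ∧ ∀ P, F.Hom P ⊆ D.Hom P) →
    U = S ∧ ∀ P, F.Hom P ⊆ C.Hom P := by
  induction h with
  | refl F p => exact fun _ => ⟨rfl, fun P => subset_rfl⟩
  | @step V S C D F p hCD hD ih =>
    intro hall
    obtain ⟨hV, hsub⟩ := hall _ D hD (subnormal_le hCD)
    subst hV
    obtain rfl : D = F := fusionSystem_antisymm hD.1.2.2.1 hsub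
    exact ih hall

/-- The intersection with a subnormal subsystem of a normal subgroup is normal. -/
theorem inf_isNormal_of_subnormal {U S : Subgroup Ω} {C : FusionSystem U} {F : FusionSystem S}
    (h : C.IsSubnormalIn F p) : ∀ [Fact p.Prime], IsPGroup p S → Finite S →
      ∀ Q, F.IsNormal Q → C.IsNormal (U ⊓ Q) := by
  induction h with
  | refl F p =>
    intro hp hS hfin Q hQ
    rwa [inf_eq_right.2 hQ.1]
  | @step V S C D F p hCD hD ih =>
    intro hp hS hfin Q hQ
    have hVS : V ≤ S := hD.1.2.2.2.1.1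
    have h' := ih (hS.to_le hVS) (finite_of_le hfin hVS) _
      (inf_isNormal_of_weaklyNormal hS hD.1 hQ)
    rwa [← inf_assoc, inf_eq_left.2 (subnormal_le hCD)] at h'

variable [Finite S] [Fact p.Prime] {F : FusionSystem S}

/-- A quasisimple system is not over a group of class two modulo its centre. -/
theorem quasisimple_not_class_two (hS : IsPGroup p S) (hq : F.Quasisimple p)
    (h : ∀ a ∈ S, ∀ b ∈ S, a * b * a⁻¹ * b⁻¹ ∈ F.center) : False := by
  obtain ⟨hF, hhyp, hsimple⟩ := hq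
  set θ := QuotientGroup.mk' ((F.center).subgroupOf S)
  have hZ := isNormal_stronglyClosed (isCentral_isNormal (isCentral_center F))
  have hker : ∀ s : S, θ s = 1 ↔ (s : Ω) ∈ F.center := fun s => QuotientGroup.eq_one_iff s
  have hfac := factorSystem_isFactorSystem F hZ θ hker (QuotientGroup.range_mk' _)
  have hE := hsimple _ hfac
  have hmor := (isSurjectiveMorphism_factor hS hF hZ hfac).1
  have habq : ∀ a ∈ (⊤ : Subgroup (S ⧸ (F.center).subgroupOf S)),
      ∀ b ∈ (⊤ : Subgroup (S ⧸ (F.center).subgroupOf S)), a * b = b * a := by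
    intro a _ b _
    obtain ⟨x, rfl⟩ := QuotientGroup.mk'_surjective _ a
    obtain ⟨y, rfl⟩ := QuotientGroup.mk'_surjective _ b
    have h1 : θ (x * y * x⁻¹ * y⁻¹) = 1 := (hker _).2 (h x x.2 y y.2)
    rw [map_mul, map_mul, map_mul, map_inv, map_inv, mul_inv_eq_one, mul_inv_eq_iff_eq_mul] at h1
    exact h1
  have hpq : IsPGroup p (⊤ : Subgroup (S ⧸ (F.center).subgroupOf S)) :=
    (hS.to_quotient _).to_subgroup ⊤
  have hle : F.hyperfocalSubgroup p ≤ F.center := by
    refine (Subgroup.closure_le _).2 ?_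
    rintro _ ⟨P, α, x, hP, -, rfl⟩
    obtain ⟨φ', hφ', h1, h2, h3, he⟩ := hmor.2 _ _ (autGroup_mem_hom F hP α.2)
    have h4 := Cfsg.Agent.S5148.hom_trivial_of_simple hpq habq hE hφ' ⟨_, h3 x⟩
    have h5 : θ ⟨(((α : MulAut P) x : P) : Ω), h2 x⟩ = θ ⟨x, h1 x.2⟩ := (he x).symm.trans h4
    exact (hker (⟨x, h1 x.2⟩⁻¹ * ⟨((α : MulAut P) x : P), h2 x⟩)).1 (by
      rw [map_mul, map_inv, h5, inv_mul_cancel])
  refine hE.2.1 (eq_bot_iff.2 fun q _ => ?_)
  obtain ⟨x, rfl⟩ := QuotientGroup.mk'_surjective _ q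
  exact Subgroup.mem_bot.2 ((hker x).2 (hle (hhyp.symm ▸ x.2)))

omit [Finite S] [Fact p.Prime] in
theorem centralizes_up {T V U : Subgroup Ω} {L : FusionSystem T} {E : FusionSystem V}
    (hL : L.IsSubsystemOf F) (hTS : T ≤ S) (h : Centralizes L E U) : Centralizes F E U := by
  intro P φ hφ
  obtain ⟨h1, h2, h3, ψ, hψ, h4, h5⟩ := h P hφ
  exact ⟨hL P h1, h2.trans (inf_le_inf_right _ hTS), fun x => ⟨hTS (h3 x).1, (h3 x).2⟩, ψ,
    hL _ hψ, h4, h5⟩

/-- A semisimple normal subsystem centralizes every normal subgroup. -/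
theorem semisimple_centralizes (hS : IsPGroup p S) (hF : F.IsSaturated p) {W : Subgroup Ω}
    {M : FusionSystem W} (hM : M.IsNormalIn F p) (hMl : M.IsLayerOf M p) {Q : Subgroup Ω}
    (hQ : F.IsNormal Q) : Centralizes F M Q := by
  have hWS := hM.1.2.2.2.1.1
  have : Finite W := finite_of_le ‹_› hWS
  have hC := centSys_normal hS hF hQ
  obtain ⟨N, ⟨-, hNM, hNC⟩, -⟩ := Cfsg.Agent.S5129.result p hS F hF M _ hM hC
  have hsub := hMl.2.2 _ N hNM fun U C hc => component_le_of_le (hS.to_le hWS) hM.1.1 hc hNM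
    (le_inf (subnormal_le hc.1) (le_of_sub (C := C) (E := centSys F Q hQ.1)
      (component_centralizes hS hF (component_up hM hc) hQ)))
  exact fun P φ hφ => hNC.1.2.2.1 P (hsub P hφ)

/-- The closure of a component meets a normal subsystem not containing it inside the core. -/
theorem meet_core (hS : IsPGroup p S) (hF : F.IsSaturated p) {U : Subgroup Ω}
    {T : Subgroup Ω} {L : FusionSystem T}
    (hL : L.IsNormalIn F p) (hUT : U ≤ T) (hLl : L.IsLayerOf L p)
    (hmin : ∀ (R : Subgroup Ω) (M : FusionSystem R), M.IsNormalIn F p → U ≤ R → L.IsSubsystemOf M)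
    {W : Subgroup Ω} {M : FusionSystem W} (hM : M.IsNormalIn F p) (hUW : ¬ U ≤ W)
    (hsub : ∀ (T₃ : Subgroup Ω) (E₃ : FusionSystem T₃), E₃.IsNormalIn L p → E₃.IsLayerOf E₃ p →
      ¬ U ≤ T₃ → (∀ a ∈ U, ∀ b ∈ T₃, a * b = b * a) ∧ Centralizes L E₃ U) :
    T ⊓ W ≤ F.core ∧ Centralizes F L F.core := by
  have hTS := hL.1.2.2.2.1.1
  have hcore := semisimple_centralizes hS hF hL hLl (isNormal_core F)
  refine ⟨?_, hcore⟩
  have : Finite T := finite_of_le ‹_› hTS
  obtain ⟨N, ⟨hN, hNL, -⟩, -⟩ := Cfsg.Agent.S5129.result p hS F hF L M hL hM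
  have hRS : T ⊓ W ≤ S := inf_le_left.trans hTS
  have : Finite ↥(T ⊓ W) := finite_of_le ‹_› hRS
  have hRp := hS.to_le hRS
  obtain ⟨T₃, E₃, hE₃⟩ := exists_layer hRp hN.1.1
  have hE₃L := layer_normal (hS.to_le hTS) hL.1.1 hNL hE₃
  have hE₃F := layer_normal hS hF hN hE₃
  have hT₃ : T₃ ≤ T ⊓ W := hE₃.1.1.2.2.2.1.1
  have hnU : ¬ U ≤ T₃ := fun h => hUW (h.trans (hT₃.trans inf_le_right))
  obtain ⟨hcomm, hcen⟩ := hsub T₃ E₃ hE₃L (layer_self hRp hN.1.1 hE₃) hnU
  have hUY : U ≤ centE F E₃ := mem_centE_of_centralizes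
    (fun u hu => ⟨hTS (hUT hu), Subgroup.mem_centralizer_iff.2 fun b hb => (hcomm u hu b hb).symm⟩)
    (centralizes_up hL.1.2.2.1 hTS hcen)
  obtain ⟨K, hK, -⟩ := Cfsg.Agent.S5155.result p hS F hF E₃ hE₃F (centE F E₃) (centE_le F E₃)
    (centralizes_centE hS hF hE₃F) fun Y hY h => mem_centE_of_centralizes hY h
  have hTC : T ≤ centralizerIn S T₃ :=
    (le_of_sub (hmin _ K hK hUY)).trans (centE_le F E₃)
  have hab : ∀ a ∈ T₃, ∀ b ∈ T₃, a * b = b * a := fun a ha b hb =>
    Subgroup.mem_centralizer_iff.1 (hTC (hT₃ hb).1).2 a ha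
  rcases constrained_or_component hRp hN.1.1 with ⟨-, Q, hQn, hQc⟩ | ⟨V, X, hX⟩
  · intro x hx
    have hQcore : Q ≤ F.core :=
      (le_sSup (s := {Q | N.IsNormal Q}) hQn).trans (core_le_core hS hN.1)
    have hxC : x ∈ centralizerIn (T ⊓ W) Q := ⟨hx, Subgroup.mem_centralizer_iff.2 fun q hq =>
      Subgroup.mem_centralizer_iff.1 ((hcore T (subtype_mem L le_rfl)).2.1 hx.1).2 q (hQcore hq)⟩
    exact hQcore (hQc.2 Q (isConj_refl _ hQn.1) hxC)
  · exfalso
    have hV : V ≤ T₃ := le_of_sub (hE₃.2.1 V X hX)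
    exact component_not_comm hRp hX fun a ha b hb => hab a (hV ha) b (hV hb)

/-- The conclusion: commuting and centralizing. -/
def Apart (F : FusionSystem S) (U : Subgroup Ω) {W : Subgroup Ω} (M : FusionSystem W) : Prop :=
  (∀ a ∈ U, ∀ b ∈ W, a * b = b * a) ∧ Centralizes F M U

theorem apart_step (hS : IsPGroup p S) (hF : F.IsSaturated p) {U : Subgroup Ω}
    {T : Subgroup Ω} {L : FusionSystem T}
    (hL : L.IsNormalIn F p) (hUT : U ≤ T) (hhyp : L.hyperfocalSubgroup p = T)
    (hLl : L.IsLayerOf L p)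
    (hmin : ∀ (R : Subgroup Ω) (M : FusionSystem R), M.IsNormalIn F p → U ≤ R → L.IsSubsystemOf M)
    {W : Subgroup Ω} {M : FusionSystem W} (hM : M.IsNormalIn F p) (hMl : M.IsLayerOf M p)
    (hUW : ¬ U ≤ W)
    (hsub : ∀ (T₃ : Subgroup Ω) (E₃ : FusionSystem T₃), E₃.IsNormalIn L p → E₃.IsLayerOf E₃ p →
      ¬ U ≤ T₃ → Apart L U E₃) :
    Apart F U M := by
  obtain ⟨hR, hLc⟩ := meet_core hS hF hL hUT hLl hmin hM hUW hsub
  have hMc := semisimple_centralizes hS hF hM hMl (isNormal_core F)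
  have hT := hL.1.2.2.2.1
  have hW := hM.1.2.2.2.1
  have hLR : L.IsCentral (T ⊓ W) := isCentral_mono
    (isCentral_of_centralizes hS hL.1 (isNormal_core F) hLc) (le_inf inf_le_left hR)
  have hMR : M.IsCentral (W ⊓ T) := isCentral_mono
    (isCentral_of_centralizes hS hM.1 (isNormal_core F) hMc)
    (le_inf inf_le_left ((inf_comm W T).le.trans hR))
  have hWR : ∀ w ∈ W, ∀ r ∈ T ⊓ W, w * r = r * w := fun w hw r hr =>
    (Subgroup.mem_centralizer_iff.1 ((hMc W (subtype_mem M le_rfl)).2.1 hw).2 r (hR hr)).symm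
  have hcomm : ∀ t ∈ T, ∀ w ∈ W, t * w = w * t := fun t ht =>
    hyperfocal_comm hS hF hL hW hWR hLR t (hhyp.symm ▸ ht)
  exact ⟨fun a ha => hcomm a (hUT ha), centralizes_mono
    (centralizes_of_central hS hF hM hT (fun w hw t ht => (hcomm t ht w hw).symm) hMR) hUT⟩

theorem apart_quasisimple (hS : IsPGroup p S) (hF : F.Quasisimple p) {U : Subgroup Ω}
    (hUS : U ≤ S) {W : Subgroup Ω} {M : FusionSystem W} (hM : M.IsNormalIn F p)
    (hMl : M.IsLayerOf M p) (hUW : ¬ U ≤ W) : Apart F U M := by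
  have hWS := hM.1.2.2.2.1.1
  rcases quasisimple_normal hS hF hM with rfl | hWZ
  · exact absurd hUS hUW
  have : Finite W := finite_of_le ‹_› hWS
  have hW : W = ⊥ := semisimple_trivial (hS.to_le hWS) le_rfl hMl fun ⟨V, X, hX⟩ =>
    component_not_comm (hS.to_le hWS) hX fun a ha b hb =>
      (Subgroup.mem_centralizer_iff.1 (F.center_le_centralizer (hWZ (subnormal_le hX.1 ha)))
        b (hWS (subnormal_le hX.1 hb))).symm
  subst hW
  refine ⟨fun a _ b hb => by rw [Subgroup.mem_bot.1 hb, mul_one, one_mul], fun P φ hφ => ?_⟩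
  have h1 : ∀ x : P, (x : Ω) = 1 := fun x => Subgroup.mem_bot.1 (le_S M hφ x.2)
  exact mem_centralizerHom (fun x hx => (show x = 1 from h1 ⟨x, hx⟩) ▸ Subgroup.one_mem _)
    (hM.1.2.2.1 P hφ) (subtype_mem F (sup_le ((le_S M hφ).trans hWS) hUS))
    (fun x => (h1 x).trans (Subgroup.mem_bot.1 (map_mem_S M hφ x)).symm) fun x => rfl

/-- A component is apart from every semisimple normal subsystem not containing it. -/
theorem apart : ∀ (n : ℕ) {S : Subgroup Ω} [Finite S] (F : FusionSystem S), Nat.card S = n →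
    IsPGroup p S → F.IsSaturated p → ∀ {U : Subgroup Ω} (C : FusionSystem U),
      C.IsComponentIn F p → ∀ {W : Subgroup Ω} (M : FusionSystem W), M.IsNormalIn F p →
        M.IsLayerOf M p → ¬ U ≤ W → Apart F U M := by
  intro n
  induction n using Nat.strong_induction_on with
  | _ n ih =>
    intro S _ F hn hS hF U C hC W M hM hMl hUW
    obtain ⟨T, L, hL, hUT, hhyp, hLl, hmin⟩ := exists_closure hS hF hC
    refine apart_step hS hF hL hUT hhyp hLl hmin hM hMl hUW
      fun T₃ E₃ hE₃ hE₃l hU₃ => ?_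
    have hTS := hL.1.2.2.2.1.1
    have hCL := component_of_le hS hF hC hL hUT
    have : Finite T := finite_of_le ‹_› hTS
    rcases hTS.eq_or_lt with rfl | hlt
    swap
    · exact ih _ (hn ▸ card_lt_of_lt le_rfl hlt) L rfl (hS.to_le hTS) hL.1.1 C hCL E₃ hE₃ hE₃l hU₃
    -- now `L` lies over the whole group
    obtain ⟨T', L', hL', hUT', hhyp', hLl', hmin'⟩ := exists_closure hS hL.1.1 hCL
    have hT'S := hL'.1.2.2.2.1.1
    have : Finite T' := finite_of_le ‹_› hT'S
    rcases hT'S.eq_or_lt with rfl | hlt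
    swap
    · exact apart_step hS hL.1.1 hL' hUT' hhyp' hLl' hmin' hE₃ hE₃l hU₃
        fun T₄ E₄ hE₄ hE₄l hU₄ => ih _ (hn ▸ card_lt_of_lt le_rfl hlt) L' rfl (hS.to_le hT'S)
          hL'.1.1 C (component_of_le hS hL.1.1 hCL hL' hUT') E₄ hE₄ hE₄l hU₄
    have hres : (residualSystem L p).IsNormalIn F p :=
      Cfsg.Agent.S5141.result p hS F hF L hL.1 _ (residual_isPPrimeResidual hS hL.1.1)
    obtain ⟨rfl, hCeq⟩ := eq_top_aux hCL.1 fun V D hD hV => by
      obtain rfl : V = T' := le_antisymm hD.1.2.2.2.1.1 (le_of_sub (hmin' V D hD hV))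
      exact ⟨rfl, fun P φ hφ => residual_le_of_invariant hS hL.1.1 (FusionQd.invariant_self L)
        hL.1.1 hD.1.2.2 hD.1.1 P (hmin _ _ hres hUT P hφ)⟩
    have hLq : L.Quasisimple p := fusionSystem_antisymm hCeq
      (component_le_of_le hS hL.1.1 hCL (normal_self hL.1.1) le_rfl) ▸ hCL.2
    exact apart_quasisimple hS hLq le_rfl hE₃ hE₃l hU₃

/-- A component of a semisimple system is normal. -/
theorem normal_in_layer : ∀ (n : ℕ) {S : Subgroup Ω} [Finite S] (F : FusionSystem S),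
    Nat.card S = n → IsPGroup p S → F.IsSaturated p → F.IsLayerOf F p →
      ∀ {U : Subgroup Ω} (C : FusionSystem U), C.IsComponentIn F p → C.IsNormalIn F p := by
  intro n
  induction n using Nat.strong_induction_on with
  | _ n ih =>
    intro S _ F hn hS hF hFl U C hC
    obtain ⟨T, L, hL, hUT, hhyp, hLl, hmin⟩ := exists_closure hS hF hC
    have hTS := hL.1.2.2.2.1.1
    have : Finite T := finite_of_le ‹_› hTS
    rcases hTS.eq_or_lt with rfl | hlt
    · have hFL : F.IsSubsystemOf L := hFl.2.2 _ L hL fun V X hX =>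
        component_le_of_le hS hF hX hL (subnormal_le hX.1)
      obtain ⟨rfl, hCeq⟩ := eq_top_aux hC.1 fun V D hD hV => by
        obtain rfl : V = T := le_antisymm hD.1.2.2.2.1.1 (le_of_sub (hmin V D hD hV))
        exact ⟨rfl, fun P φ hφ => hmin V D hD hV P (hFL P hφ)⟩
      rw [show C = F from fusionSystem_antisymm
        (component_le_of_le hS hF hC (normal_self hF) le_rfl) hCeq]
      exact normal_self hF
    have hCL := ih _ (hn ▸ card_lt_of_lt le_rfl hlt) L rfl (hS.to_le hTS) hL.1.1 hLl C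
      (component_of_le hS hF hC hL hUT)
    set Y := centE F L
    have hYc := centralizes_centE hS hF hL
    obtain ⟨K, hK, hKT⟩ := Cfsg.Agent.S5155.result p hS F hF L hL Y (centE_le F L) hYc
      fun Y hY h => mem_centE_of_centralizes hY h
    have hcomm : ∀ a ∈ T, ∀ b ∈ Y, a * b = b * a := fun a ha b hb =>
      Subgroup.mem_centralizer_iff.1 (centE_le F L hb).2 a ha
    have hR : F.IsNormal (T ⊓ Y) := sc_comm_normal hS hF
      (sc_inf hL.1.2.2.2.1 hK.1.2.2.2.1) fun a ha b hb => hcomm a ha.1 b hb.2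
    have hR₁ : L.IsCentral (T ⊓ Y) := isCentral_mono
      (isCentral_of_centralizes hS hL.1 hR (centralizes_mono hYc inf_le_right))
      (le_inf inf_le_left le_rfl)
    have hR₂ : K.IsCentral (T ⊓ Y) := isCentral_mono
      (isCentral_of_centralizes hS hK.1 hR (centralizes_mono (fun P => hKT P) inf_le_left))
      (le_inf inf_le_right le_rfl)
    obtain ⟨D, hD, hcp, -⟩ := CProd.exists_normal_product hS hF hL hK hcomm hR₁ hR₂
    have hFD : F.IsSubsystemOf D := hFl.2.2 _ D hD fun V X hX =>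
      component_le_of_le hS hF hX hD (by
        by_cases hV : V ≤ T
        · exact hV.trans le_sup_left
        · obtain ⟨hc, hce⟩ := apart _ F rfl hS hF X hX L hL hLl hV
          exact le_trans (mem_centE_of_centralizes (fun u hu => ⟨subnormal_le hX.1 hu,
            Subgroup.mem_centralizer_iff.2 fun b hb => (hc u hu b hb).symm⟩) hce) le_sup_right)
    have gen : ∀ X : Subgroup Ω, X = S → ∀ D : FusionSystem X, D.IsSubsystemOf F →
        F.IsSubsystemOf D → C.IsNormalIn D p → C.IsNormalIn F p := by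
      rintro _ rfl D h1 h2 h
      rwa [fusionSystem_antisymm h2 h1]
    exact gen _ (le_antisymm (sup_le hTS ((centE_le F L).trans (centralizerIn_le T)))
      (le_of_sub hFD)) D hD.1.2.2.1 hFD (hcp.normal_of_left hCL)

end Cfsg.Agent.Tech.Meet
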