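import Cfsg.Agent.Tech.Layer
import Cfsg.Agent.Tech.NormalMeet
import Cfsg.Agent.FusionAlperin.FittingSelfCentralizing
import Cfsg.Agent.S5136
import Cfsg.Agent.S5137

/-!
Generalized Fitting subsystems: existence and normality.
-/

set_option autoImplicit false

open Cfsg Cfsg.FusionSystem
open Cfsg.Agent.FusionSys Cfsg.Agent.FusionAlperin
open Cfsg.Agent.S5119 (InvT Decomp)

namespace Cfsg.Agent.Tech.Meet

universe u

variable {Ω : Type u} [Group Ω] {S T U : Subgroup Ω} {p : ℕ} {F : FusionSystem S}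
  {E : FusionSystem T} {D : FusionSystem U}

theorem isCentral_mono {Q R : Subgroup Ω} (hQ : F.IsCentral Q) (hRQ : R ≤ Q) : F.IsCentral R := by
  refine ⟨hRQ.trans hQ.1, fun P φ hφ => ?_⟩
  obtain ⟨ψ, hψ, h1, h2⟩ := hQ.2 P φ hφ
  exact ⟨restr (sup_le_sup_left hRQ P) ψ, restr_mem F _ hψ, fun x => h1 x,
    fun x => h2 ⟨x, hRQ x.2⟩⟩

theorem finite_prod {A B : Subgroup Ω} [Finite A] [Finite B] : Finite ↥(A.prod B) :=
  Finite.of_equiv _ (Subgroup.prodEquiv A B).symm.toEquiv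

theorem isPGroup_prod {A B : Subgroup Ω} (hA : IsPGroup p A) (hB : IsPGroup p B) :
    IsPGroup p ↥(A.prod B) := by
  intro x
  obtain ⟨a, ha⟩ := hA ⟨(x : Ω × Ω).1, x.2.1⟩
  obtain ⟨b, hb⟩ := hB ⟨(x : Ω × Ω).2, x.2.2⟩
  refine ⟨a + b, Subtype.ext (Prod.ext ?_ ?_)⟩
  · have := congrArg Subtype.val (congrArg (· ^ p ^ b) ha)
    simpa [pow_add, pow_mul] using this
  · have := congrArg Subtype.val (congrArg (· ^ p ^ a) hb)
    simpa [Nat.add_comm a b, pow_add, pow_mul] using this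

variable [Finite S] [Fact p.Prime]

theorem layer_comm (hS : IsPGroup p S) (hF : F.IsSaturated p) (hE : E.IsLayerOf F p) {q t : Ω}
    (hq : q ∈ F.core) (ht : t ∈ T) : q * t = t * q := by
  have h := Cfsg.Agent.S5150.result p hS F hF E hE T (subtype_mem E le_rfl)
  exact Subgroup.mem_centralizer_iff.1 (h.2.1 ht).2 q hq

theorem layer_inf_central (hS : IsPGroup p S) (hF : F.IsSaturated p) (hE : E.IsLayerOf F p) :
    E.IsCentral (T ⊓ F.core) := by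
  refine ⟨inf_le_left, fun P φ hφ => ?_⟩
  obtain ⟨ψ, hψ, h1, -⟩ := (inf_isNormal_of_weaklyNormal hS hE.1.1 (isNormal_core F)).2 P φ hφ
  refine ⟨ψ, hψ, h1, fun x => ?_⟩
  obtain ⟨-, -, -, χ, -, hχ1, hχ2⟩ := Cfsg.Agent.S5150.result p hS F hF E hE _ hψ
  rw [← hχ1]
  exact Eq.trans (congrArg χ (Subtype.ext rfl)) (hχ2 ⟨x, x.2.2⟩)

/-- The data of a generalized Fitting subsystem. -/
structure GFData (p : ℕ) (F : FusionSystem S) (E : FusionSystem T) (D : FusionSystem U) : Prop where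
  pgroup : IsPGroup p S
  sat : F.IsSaturated p
  layer : E.IsLayerOf F p
  prod : IsCentralProductOf (innerFusionSystem F.core) E D

theorem GFData.le_core (h : GFData p F E D) : F.core ≤ U := by
  obtain ⟨D₀, -, Z, θ, -, -, -, h₁, -, -, -, hr, -⟩ := h.prod
  exact fun x hx => hr.le ⟨⟨(x, 1), hx, one_mem _⟩, h₁ x _⟩

theorem GFData.le_layer (h : GFData p F E D) : T ≤ U := by
  obtain ⟨D₀, -, Z, θ, -, -, -, -, h₂, -, -, hr, -⟩ := h.prod
  exact fun y hy => hr.le ⟨⟨(1, y), one_mem _, hy⟩, h₂ y _⟩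

theorem GFData.exists_mul (h : GFData p F E D) {x : Ω} (hx : x ∈ U) :
    ∃ v ∈ F.core, ∃ u ∈ T, x = v * u := by
  obtain ⟨D₀, -, Z, θ, -, -, -, h₁, h₂, -, -, hr, -⟩ := h.prod
  obtain ⟨s, rfl⟩ := hr.ge hx
  exact ⟨_, s.2.1, _, s.2.2, centralProduct_apply h₁ h₂ s⟩

theorem GFData.le_ambient (h : GFData p F E D) : U ≤ S := fun x hx => by
  obtain ⟨v, hv, u, hu, rfl⟩ := h.exists_mul hx
  exact S.mul_mem ((isNormal_core F).1 hv) (h.layer.1.1.2.2.2.1.1 hu)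

theorem GFData.comm (h : GFData p F E D) : ∀ a ∈ T, ∀ b ∈ F.core, a * b = b * a :=
  fun _ ha _ hb => (layer_comm h.pgroup h.sat h.layer hb ha).symm

theorem GFData.strongly_closed (h : GFData p F E D) : F.StronglyClosed U := by
  refine sc_of_elements h.le_ambient fun P φ hφ x hx => ?_
  obtain ⟨ψ, hψ, h1, h2⟩ := (isNormal_core F).2 P φ hφ
  obtain ⟨v, hv, u, hu, he⟩ := h.exists_mul hx
  have hu' : u ∈ P ⊔ F.core := by
    rw [eq_inv_mul_of_mul_eq he.symm]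
    exact Subgroup.mul_mem _ (Subgroup.inv_mem _ (Subgroup.mem_sup_right hv))
      (Subgroup.mem_sup_left x.2)
  have e : Subgroup.inclusion (le_sup_left : P ≤ P ⊔ F.core) x =
      ⟨v, Subgroup.mem_sup_right hv⟩ * ⟨u, hu'⟩ := Subtype.ext he
  rw [← h1 x, e, map_mul]
  exact U.mul_mem
    (h.le_core (sc_map_mem (isNormal_stronglyClosed (isNormal_core F)) hψ
      (x := ⟨v, Subgroup.mem_sup_right hv⟩) hv))
    (h.le_layer (sc_map_mem h.layer.1.1.2.2.2.1 hψ (x := ⟨u, hu'⟩) hu))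

theorem GFData.saturated_factor (h : GFData p F E D) :
    D.IsSaturated p := by
  obtain ⟨D₀, hD₀, Z, θ, hZ, -, -, -, -, hfac⟩ := h.prod
  have hQS := (isNormal_core F).1
  have hTS : T ≤ S := h.layer.1.1.2.2.2.1.1
  have : Finite F.core := finite_of_le ‹_› hQS
  have : Finite T := finite_of_le ‹_› hTS
  have := finite_prod (A := F.core) (B := T)
  have hp := isPGroup_prod (h.pgroup.to_le hQS) (h.pgroup.to_le hTS)
  have hD₀s := Cfsg.Agent.S5137.result p (h.pgroup.to_le hQS) (h.pgroup.to_le hTS) _ E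
    (Cfsg.Agent.FusionBatch.inner_saturated h.pgroup hQS) h.layer.1.1.1 D₀ hD₀
  have hZsc := isNormal_stronglyClosed (isCentral_isNormal (isCentral_mono (isCentral_center D₀) hZ))
  exact saturated_of_surjective hp hD₀s (isSurjectiveMorphism_factor hp hD₀s hZsc hfac)

theorem GFData.decomp (h : GFData p F E D) {P : Subgroup Ω} {φ : P →* Ω} (hφ : φ ∈ D.Hom P) :
    ∃ g ∈ F.core, ∃ (R₂ : Subgroup Ω) (e : R₂ →* Ω) (ψ : ↥(R₂ ⊔ F.core) →* Ω),
      e ∈ E.Hom R₂ ∧ T ⊓ F.core ≤ R₂ ∧ ψ ∈ F.Hom (R₂ ⊔ F.core) ∧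
      (∀ x : R₂, ψ ⟨x, Subgroup.mem_sup_left x.2⟩ = e x) ∧
      (∀ v : F.core, ψ ⟨v, Subgroup.mem_sup_right v.2⟩ = v) ∧
      ∃ hle : P ≤ R₂ ⊔ F.core, ∀ y : P, φ y = g * ψ ⟨y, hle y.2⟩ * g⁻¹ := by
  have hcomm := h.comm
  obtain ⟨D₀, hD₀, Z, θ, -, -, -, h₁, h₂, -, -, hr, hD⟩ := h.prod
  set R₀ := (preimageAlong θ P).map (MonoidHom.snd Ω Ω)
  obtain ⟨hPU, φ₀, hφ₀, hR, hv, hval, hind⟩ := (hD P φ).1 hφ
  obtain ⟨-, φ₁, ⟨-, g, hg, hg₁⟩, φ₂, hφ₂, hφe⟩ := (hD₀ _ φ₀).1 hφ₀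
  obtain ⟨e, he, he1, -⟩ := (layer_inf_central h.pgroup h.sat h.layer).2 R₀ φ₂ hφ₂
  obtain ⟨-, -, -, ψ, hψ, hψ1, hψ2⟩ := Cfsg.Agent.S5150.result p h.pgroup F h.sat E h.layer _ he
  have hmul := centralProduct_apply h₁ h₂
  have hdec : ∀ y : P, ∃ x : preimageAlong θ P, θ ⟨x, hR x.2⟩ = y := fun y => by
    obtain ⟨s, hs⟩ := hr.ge (hPU y.2)
    exact ⟨⟨s, s, show θ s ∈ P by rw [hs]; exact y.2, rfl⟩, hs⟩
  have hle : P ≤ (R₀ ⊔ T ⊓ F.core) ⊔ F.core := fun y hy => by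
    obtain ⟨x, hx⟩ := hdec ⟨y, hy⟩
    have hx' : θ ⟨x, hR x.2⟩ = y := hx
    rw [← hx', hmul]
    exact Subgroup.mul_mem _ (Subgroup.mem_sup_right (hR x.2).1)
      (Subgroup.mem_sup_left (Subgroup.mem_sup_left ⟨x, x.2, rfl⟩))
  refine ⟨g, hg, _, e, ψ, he, le_sup_right, hψ, fun x => hψ1 x, fun v => hψ2 v, hle, fun y => ?_⟩
  obtain ⟨x, hx⟩ := hdec y
  let a : ↥((R₀ ⊔ T ⊓ F.core) ⊔ F.core) :=
    ⟨(x : Ω × Ω).1, Subgroup.mem_sup_right (hR x.2).1⟩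
  let b : ↥((R₀ ⊔ T ⊓ F.core) ⊔ F.core) :=
    ⟨(x : Ω × Ω).2, Subgroup.mem_sup_left (Subgroup.mem_sup_left ⟨x, x.2, rfl⟩)⟩
  have ha : ψ a = (x : Ω × Ω).1 := hψ2 ⟨_, (hR x.2).1⟩
  have hb : ψ b = φ₂ ⟨(x : Ω × Ω).2, x, x.2, rfl⟩ :=
    (hψ1 ⟨_, Subgroup.mem_sup_left ⟨x, x.2, rfl⟩⟩).trans (he1 ⟨_, x, x.2, rfl⟩)
  have hy : (⟨(y : Ω), hle y.2⟩ : ↥((R₀ ⊔ T ⊓ F.core) ⊔ F.core)) = a * b :=
    Subtype.ext (hx.symm.trans (hmul _))
  have hi : φ y = θ ⟨φ₀ x, hv x⟩ := by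
    rw [← hind x]
    exact congrArg φ (Subtype.ext hx.symm)
  rw [hy, map_mul, ha, hb, hi, hmul]
  show (φ₀ x).1 * (φ₀ x).2 = _
  rw [hφe x ⟨x, x.2, rfl⟩ ⟨x, x.2, rfl⟩, hg₁]
  have hc : φ₂ ⟨(x : Ω × Ω).2, x, x.2, rfl⟩ * g⁻¹ = g⁻¹ * φ₂ ⟨(x : Ω × Ω).2, x, x.2, rfl⟩ :=
    hcomm _ (map_mem_S E hφ₂ _) g⁻¹ (inv_mem hg)
  simp only [mul_assoc, hc]

theorem GFData.sub (h : GFData p F E D) : D.IsSubsystemOf F := by
  intro P φ hφ
  obtain ⟨g, hg, R₂, e, ψ, -, -, hψ, -, -, hle, hy⟩ := h.decomp hφ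
  have hm := restr_mem F hle hψ
  exact comp_mem' F hm (F.conj_mem le_rfl ((isNormal_core F).1 hg)) (map_mem_S F hm) hy

theorem GFData.inter_le (h : GFData p F E D) {R₂ : Subgroup Ω} (hR : R₂ ≤ T)
    (hI : T ⊓ F.core ≤ R₂) : (R₂ ⊔ F.core) ⊓ T ≤ R₂ := by
  rintro x ⟨hx, hxT⟩
  obtain ⟨u, hu, v, hv, rfl⟩ := exists_mul_of_mem_sup (fun a ha b hb => h.comm a (hR ha) b hb) hx
  refine R₂.mul_mem hu (hI ⟨?_, hv⟩)
  have := T.mul_mem (T.inv_mem (hR hu)) hxT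
  rwa [inv_mul_cancel_left] at this

/-- The extension of a map of the layer fixing the core is a map of `D`. -/
theorem GFData.ext_mem (h : GFData p F E D) {R₂ : Subgroup Ω} {e : R₂ →* Ω} (he : e ∈ E.Hom R₂)
    {ψ : ↥(R₂ ⊔ F.core) →* Ω} (hψ1 : ∀ x : R₂, ψ ⟨x, Subgroup.mem_sup_left x.2⟩ = e x)
    (hψ2 : ∀ v : F.core, ψ ⟨v, Subgroup.mem_sup_right v.2⟩ = v) :
    ψ ∈ D.Hom (R₂ ⊔ F.core) := by
  have hQS := (isNormal_core F).1
  have hTS : T ≤ S := h.layer.1.1.2.2.2.1.1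
  have : Finite F.core := finite_of_le ‹_› hQS
  have : Finite T := finite_of_le ‹_› hTS
  have := finite_prod (A := F.core) (B := T)
  have hp := isPGroup_prod (h.pgroup.to_le hQS) (h.pgroup.to_le hTS)
  have hcomm := h.comm
  obtain ⟨D₀, hD₀, Z, θ, hZ, -, -, h₁, h₂, hfac⟩ := h.prod
  have hD₀s := Cfsg.Agent.S5137.result p (h.pgroup.to_le hQS) (h.pgroup.to_le hTS) _ E
    (Cfsg.Agent.FusionBatch.inner_saturated h.pgroup hQS) h.layer.1.1.1 D₀ hD₀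
  have hZsc := isNormal_stronglyClosed (isCentral_isNormal (isCentral_mono (isCentral_center D₀) hZ))
  have hR := le_S E he
  set R₀ := F.core.prod R₂
  have hR₀ : R₀ ≤ F.core.prod T := fun r hr => ⟨hr.1, hR hr.2⟩
  let χ : R₀ →* Ω × Ω := MonoidHom.prod ((MonoidHom.fst Ω Ω).comp R₀.subtype)
    (e.comp (((MonoidHom.snd Ω Ω).comp R₀.subtype).codRestrict R₂ fun r => r.2.2))
  have hsnd : R₀.map (MonoidHom.snd Ω Ω) ≤ R₂ := by
    rintro _ ⟨r, hr, rfl⟩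
    exact hr.2
  have hfst : R₀.map (MonoidHom.fst Ω Ω) ≤ F.core := by
    rintro _ ⟨r, hr, rfl⟩
    exact hr.1
  have hχ : χ ∈ D₀.Hom R₀ := (hD₀ R₀ χ).2
    ⟨hR₀, _, subtype_mem _ hfst, _, restr_mem E hsnd he, fun x _ _ => rfl⟩
  obtain ⟨φ', hφ', hR0, hv, hm, hind⟩ :=
    (isSurjectiveMorphism_factor hp hD₀s hZsc hfac).1.2 R₀ χ hχ
  have hmul := centralProduct_apply h₁ h₂
  have hdec : ∀ x ∈ R₂ ⊔ F.core, ∃ r : R₀, (r : Ω × Ω).1 * (r : Ω × Ω).2 = x := fun x hx => by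
    obtain ⟨u, hu, v, hv, rfl⟩ := exists_mul_of_mem_sup (fun a ha b hb => hcomm a (hR ha) b hb) hx
    exact ⟨⟨(v, u), hv, hu⟩, (hcomm u (hR hu) v hv).symm⟩
  have hle : R₂ ⊔ F.core ≤ imageAlong θ R₀ := fun x hx => by
    obtain ⟨r, hr⟩ := hdec x hx
    have := theta_mem_imageAlong (θ := θ) hR₀ r
    rwa [hmul, hr] at this
  refine mem_hom_congr D (restr_mem D hle hφ') fun x => ?_
  obtain ⟨r, hr⟩ := hdec x x.2
  have e1 : (⟨(x : Ω), hle x.2⟩ : imageAlong θ R₀) = ⟨θ ⟨r, hR0 r.2⟩, hm r⟩ :=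
    Subtype.ext (hr.symm.trans (hmul ⟨r, hR0 r.2⟩).symm)
  have e2 : x = ⟨_, Subgroup.mem_sup_right r.2.1⟩ * ⟨_, Subgroup.mem_sup_left r.2.2⟩ :=
    Subtype.ext hr.symm
  show ψ x = φ' ⟨(x : Ω), hle x.2⟩
  rw [e1, hind r, hmul, e2, map_mul, hψ1 ⟨_, r.2.2⟩, hψ2 ⟨_, r.2.1⟩]
  rfl

theorem GFData.mem_of (h : GFData p F E D) {g : Ω} (hg : g ∈ F.core) {R₂ : Subgroup Ω}
    {e : R₂ →* Ω} (he : e ∈ E.Hom R₂) {ψ : ↥(R₂ ⊔ F.core) →* Ω}
    (hψ1 : ∀ x : R₂, ψ ⟨x, Subgroup.mem_sup_left x.2⟩ = e x)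
    (hψ2 : ∀ v : F.core, ψ ⟨v, Subgroup.mem_sup_right v.2⟩ = v) {P : Subgroup Ω}
    (hle : P ≤ R₂ ⊔ F.core) {φ : P →* Ω} (hy : ∀ y : P, φ y = g * ψ ⟨y, hle y.2⟩ * g⁻¹) :
    φ ∈ D.Hom P := by
  have hm := restr_mem D hle (h.ext_mem he hψ1 hψ2)
  exact comp_mem' D hm (D.conj_mem le_rfl (h.le_core hg)) (map_mem_S D hm) hy

theorem GFData.invT (h : GFData p F E D) : InvT F D := by
  intro β hβ P φ hφ
  have hUS := h.le_ambient
  have hQ := isNormal_core F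
  have hT : F.StronglyClosed T := h.layer.1.1.2.2.2.1
  obtain ⟨g, hg, R₂, e, ψ, he, hI, -, hψ1, hψ2, hle, hy⟩ := h.decomp hφ
  have hβh := autGroup_mem_hom F hUS hβ
  have hTf : Finite T := finite_of_le ‹_› hT.1
  have hr : (restr h.le_layer (U.subtype.comp β.toMonoidHom)).range = T :=
    range_eq_of_image_le (F.injective_of_mem (restr_mem F h.le_layer hβh))
      (by rintro _ ⟨x, rfl⟩; exact sc_map_mem hT hβh (x := Subgroup.inclusion h.le_layer x) x.2)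
      le_rfl
  set βT : MulAut T := toIso F (restr_mem F h.le_layer hβh) hr
  have hβT : βT ∈ F.autGroup T := toIso_mem_autGroup F _ hr
  obtain ⟨χ, hχ, hχe⟩ :=
    Cfsg.Agent.S5141.invT_of_invariant h.layer.1.1.2.2 βT hβT R₂ e he
  obtain ⟨-, -, -, ψ', hψ', hψ'1, hψ'2⟩ :=
    Cfsg.Agent.S5150.result p h.pgroup F h.sat E h.layer _ hχ
  have hR := le_S E he
  have hPU : P ≤ U := le_S D hφ
  have hT' : ∀ u (hu : u ∈ T), autExt β u = autExt βT u := fun u hu => by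
    rw [autExt_of_mem β (h.le_layer hu), autExt_of_mem βT hu]
    rfl
  have hQm : ∀ v ∈ F.core, autExt β v ∈ F.core := fun v hv => by
    rw [autExt_of_mem β (h.le_core hv)]
    exact sc_map_mem (isNormal_stronglyClosed hQ) hβh (x := ⟨v, h.le_core hv⟩) hv
  have hadd : ∀ a ∈ U, ∀ b ∈ U, autExt β (a * b) = autExt β a * autExt β b := fun a ha b hb => by
    rw [autExt_of_mem β ha, autExt_of_mem β hb, autExt_of_mem β (U.mul_mem ha hb),
      ← Subgroup.coe_mul, ← map_mul]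
    rfl
  have hval : ∀ x ∈ R₂ ⊔ F.core, ∀ hx : x ∈ R₂ ⊔ F.core, ∃ hm : autExt β x ∈ autImage βT R₂ ⊔ F.core,
      ψ' ⟨autExt β x, hm⟩ = autExt β (ψ ⟨x, hx⟩) := by
    intro x hx hx'
    obtain ⟨u, hu, v, hv, rfl⟩ := exists_mul_of_mem_sup (fun a ha b hb => h.comm a (hR ha) b hb) hx
    have hm1 : autExt β u ∈ autImage βT R₂ := by
      rw [hT' u (hR hu)]
      exact autExt_mem_autImage βT hR hu
    have hsum := hadd u (h.le_layer (hR hu)) v (h.le_core hv)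
    have hm : autExt β (u * v) ∈ autImage βT R₂ ⊔ F.core := hsum ▸
      Subgroup.mul_mem _ (Subgroup.mem_sup_left hm1) (Subgroup.mem_sup_right (hQm v hv))
    refine ⟨hm, ?_⟩
    have e1 : (⟨autExt β (u * v), hm⟩ : ↥(autImage βT R₂ ⊔ F.core)) =
        ⟨_, Subgroup.mem_sup_left hm1⟩ * ⟨_, Subgroup.mem_sup_right (hQm v hv)⟩ :=
      Subtype.ext hsum
    have e2 : (⟨u * v, hx'⟩ : ↥(R₂ ⊔ F.core)) =
        ⟨u, Subgroup.mem_sup_left hu⟩ * ⟨v, Subgroup.mem_sup_right hv⟩ := rfl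
    rw [e1, map_mul, e2, map_mul, hψ1 ⟨u, hu⟩, hψ2 ⟨v, hv⟩,
      hadd _ (h.le_layer (map_mem_S E he _)) _ (h.le_core hv), hT' _ (map_mem_S E he _)]
    refine congrArg₂ (· * ·) ((hψ'1 ⟨_, hm1⟩).trans ?_) (hψ'2 ⟨_, hQm v hv⟩)
    refine Eq.trans (congrArg χ
      (Subtype.ext (a2 := ⟨autExt βT u, autExt_mem_autImage βT hR hu⟩) (hT' u (hR hu)))) ?_
    exact hχe ⟨u, hu⟩ (autExt_mem_autImage βT hR hu)
  have hle' : autImage β P ≤ autImage βT R₂ ⊔ F.core := fun z hz => by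
    obtain ⟨x, hx, -, hxz⟩ := exists_autExt_eq β (⟨z, hz⟩ : autImage β P)
    obtain ⟨hm, -⟩ := hval x (hle hx) (hle hx)
    have hxz' : autExt β x = z := hxz
    exact hxz' ▸ hm
  let χP : autImage β P →* Ω := (MulAut.conj (autExt β g)).toMonoidHom.comp (restr hle' ψ')
  have hgU := h.le_core hg
  have hgi : autExt β g⁻¹ = (autExt β g)⁻¹ := by
    rw [autExt_of_mem β hgU, autExt_of_mem β (U.inv_mem hgU), ← Subgroup.coe_inv, ← map_inv]
    rfl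
  refine ⟨χP, h.mem_of (hQm g hg) hχ hψ'1 hψ'2 hle' fun y => rfl, fun x hm => ?_⟩
  obtain ⟨hm', he'⟩ := hval x (hle x.2) (hle x.2)
  have hψU : ψ ⟨x, hle x.2⟩ ∈ U := map_mem_S D (h.ext_mem he hψ1 hψ2) _
  show autExt β g * ψ' ⟨autExt β (x : Ω), _⟩ * (autExt β g)⁻¹ = autExt β (φ x)
  rw [he', hy, hadd _ (U.mul_mem hgU hψU) _ (U.inv_mem hgU), hadd _ hgU _ hψU, hgi]

theorem GFData.autConj (h : GFData p F E D) {R : Subgroup Ω} (hRU : R ≤ U) {b a : MulAut R}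
    (hb : b ∈ F.autGroup R) (ha : a ∈ D.autGroup R) : b * a * b⁻¹ ∈ D.autGroup R := by
  have hQ := isNormal_core F
  have hQsc := isNormal_stronglyClosed hQ
  have hQS := hQ.1
  have hT : F.StronglyClosed T := h.layer.1.1.2.2.2.1
  have hUS := h.le_ambient
  have hRS := hRU.trans hUS
  obtain ⟨g, hg, R₂, e, ψ, he, hI, hψ, hψ1, hψ2, hle, hy⟩ :=
    h.decomp (autGroup_mem_hom D hRU ha)
  have hR₂ := le_S E he
  have hWS : R ⊔ F.core ≤ S := sup_le hRS hQS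
  have : Finite ↥(R ⊔ F.core) := finite_of_le ‹_› hWS
  have hWle : R ⊔ F.core ≤ R₂ ⊔ F.core := sup_le hle le_sup_right
  obtain ⟨ψb, hψb, hb1, hb2⟩ := hQ.2 R _ (autGroup_mem_hom F hRS hb)
  have hb1' : ∀ x : R, ψb ⟨x, Subgroup.mem_sup_left x.2⟩ = b x := fun x => hb1 x
  have hψbW : ∀ w, ψb w ∈ R ⊔ F.core := fun w => range_le_sup_of_le ψb
    (fun z hz => Subgroup.mem_sup_left ((hb1' ⟨z, hz⟩).symm ▸ (b ⟨z, hz⟩).2))
    (fun z hz => Subgroup.mem_sup_right (sc_map_mem hQsc hψb (x := ⟨z, _⟩) hz)) ⟨w, rfl⟩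
  -- `ψ` stabilizes `R F.core`
  have hψW : ∀ (w : Ω) (hw : w ∈ R ⊔ F.core), ψ ⟨w, hWle hw⟩ ∈ R ⊔ F.core := fun w hw =>
    range_le_sup_of_le (restr hWle ψ)
      (fun z hz => by
        have h1 : ((a ⟨z, hz⟩ : R) : Ω) = g * ψ ⟨z, hle hz⟩ * g⁻¹ := hy ⟨z, hz⟩
        have h2 : ψ ⟨(z : Ω), hle hz⟩ = g⁻¹ * (a ⟨z, hz⟩ : Ω) * g := by rw [h1]; group
        show ψ ⟨(z : Ω), _⟩ ∈ _
        rw [h2]
        exact Subgroup.mul_mem _ (Subgroup.mul_mem _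
          (Subgroup.inv_mem _ (Subgroup.mem_sup_right hg)) (Subgroup.mem_sup_left (a _).2))
          (Subgroup.mem_sup_right hg))
      (fun z hz => by
        show ψ ⟨(z : Ω), _⟩ ∈ _
        rw [hψ2 ⟨z, hz⟩]
        exact Subgroup.mem_sup_right hz)
      ⟨⟨w, hw⟩, rfl⟩
  set V := (R ⊔ F.core) ⊓ T
  have hVW : V ≤ R ⊔ F.core := inf_le_left
  have hVT : V ≤ T := inf_le_right
  have hVR₂ : V ≤ R₂ := (inf_le_inf_right T hWle).trans (h.inter_le hR₂ hI)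
  have : Finite V := finite_of_le ‹_› (hVT.trans hT.1)
  have heV := restr_mem E hVR₂ he
  have her : (restr hVR₂ e).range = V := range_eq_of_image_le (E.injective_of_mem heV) (by
    rintro _ ⟨v, rfl⟩
    refine ⟨?_, map_mem_S E heV v⟩
    have h2 := hψW v (hVW v.2)
    rwa [hψ1 ⟨v, hVR₂ v.2⟩] at h2) le_rfl
  set eT := toIso E heV her
  have heT : eT ∈ E.autGroup V := toIso_mem_autGroup E heV her
  have hbV := restr_mem F hVW hψb
  have hbr : (restr hVW ψb).range = V := range_eq_of_image_le (F.injective_of_mem hbV) (by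
    rintro _ ⟨v, rfl⟩
    exact ⟨hψbW _, sc_map_mem hT hψb (x := Subgroup.inclusion hVW v) v.2.2⟩) le_rfl
  set bV := toIso F hbV hbr
  have h' := autCongr_mem_of_invariant h.pgroup h.sat h.layer.1.1.2.2 hVT (toIso_isIso F hbV hbr) heT
  obtain ⟨-, -, -, ψ', -, hψ'1, hψ'2⟩ :=
    Cfsg.Agent.S5150.result p h.pgroup F h.sat E h.layer _ (autGroup_mem_hom E hVT h')
  have hdec : ∀ x ∈ R ⊔ F.core, ∃ v ∈ F.core, ∃ u ∈ V, x = v * u := fun x hx => by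
    obtain ⟨v, hv, u, hu, rfl⟩ := h.exists_mul (sup_le hRU h.le_core hx)
    refine ⟨v, hv, u, ⟨?_, hu⟩, rfl⟩
    have := Subgroup.mul_mem _ ((R ⊔ F.core).inv_mem (Subgroup.mem_sup_right hv)) hx
    rwa [inv_mul_cancel_left] at this
  have hgW : g ∈ R ⊔ F.core := Subgroup.mem_sup_right hg
  have hg' : ψb ⟨g, hgW⟩ ∈ F.core := sc_map_mem hQsc hψb (x := ⟨g, hgW⟩) hg
  have hR' : R ≤ V ⊔ F.core := fun x hx => by
    obtain ⟨v, hv, u, hu, rfl⟩ := hdec x (Subgroup.mem_sup_left hx)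
    exact Subgroup.mul_mem _ (Subgroup.mem_sup_right hv) (Subgroup.mem_sup_left hu)
  refine (mem_autGroup_iff_hom D hRU).2 (h.mem_of hg' (autGroup_mem_hom E hVT h') hψ'1 hψ'2 hR'
    fun y => ?_)
  obtain ⟨x, rfl⟩ := b.surjective y
  show ((b (a (b.symm (b x))) : R) : Ω) = _
  rw [MulEquiv.symm_apply_apply]
  obtain ⟨v, hv, u, hu, hxe⟩ := hdec x (Subgroup.mem_sup_left x.2)
  have hbv : ψb ⟨v, Subgroup.mem_sup_right hv⟩ ∈ F.core :=
    sc_map_mem hQsc hψb (x := ⟨v, Subgroup.mem_sup_right hv⟩) hv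
  have eb : (⟨(b x : Ω), hR' (b x).2⟩ : ↥(V ⊔ F.core)) =
      ⟨_, Subgroup.mem_sup_right hbv⟩ * ⟨_, Subgroup.mem_sup_left (bV ⟨u, hu⟩).2⟩ := by
    refine Subtype.ext ?_
    show (b x : Ω) = ψb ⟨v, _⟩ * ψb ⟨u, _⟩
    rw [← hb1' x, ← map_mul]
    exact congrArg ψb (Subtype.ext hxe)
  have e5 : ψ' ⟨_, Subgroup.mem_sup_right hbv⟩ = ψb ⟨v, Subgroup.mem_sup_right hv⟩ :=
    hψ'2 ⟨_, hbv⟩
  rw [eb, map_mul, e5]
  have e3 : ψ' ⟨(bV ⟨u, hu⟩ : Ω), Subgroup.mem_sup_left (bV ⟨u, hu⟩).2⟩ =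
      ψb ⟨e ⟨u, hVR₂ hu⟩, hVW (eT ⟨u, hu⟩).2⟩ := by
    refine (hψ'1 (bV ⟨u, hu⟩)).trans ?_
    show ((MulAut.congr bV eT (bV ⟨u, hu⟩) : V) : Ω) = _
    rw [autCongr_apply, MulEquiv.symm_apply_apply]
    rfl
  rw [e3, ← hb1' (a x)]
  show ψb _ = ψb ⟨g, hgW⟩ * (ψb ⟨v, _⟩ * ψb ⟨e ⟨u, hVR₂ hu⟩, _⟩) * (ψb ⟨g, hgW⟩)⁻¹
  rw [← map_mul, ← map_mul, ← map_inv, ← map_mul]
  refine congrArg ψb (Subtype.ext ?_)
  show ((a x : R) : Ω) = g * (v * e ⟨u, _⟩) * g⁻¹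
  have h3 : ((a x : R) : Ω) = g * ψ ⟨x, hle x.2⟩ * g⁻¹ := hy x
  have e4 : (⟨(x : Ω), hle x.2⟩ : ↥(R₂ ⊔ F.core)) =
      ⟨v, Subgroup.mem_sup_right hv⟩ * ⟨u, Subgroup.mem_sup_left (hVR₂ hu)⟩ := Subtype.ext hxe
  rw [h3, e4, map_mul, hψ1 ⟨u, hVR₂ hu⟩, hψ2 ⟨v, hv⟩]

theorem GFData.good_ext (h : GFData p F E D) {a : MulAut U} (ha : a ∈ D.autGroup U)
    (ho : Nat.Coprime (orderOf a) p) : a ∈ extGroup F h.le_ambient := by
  have hQ := isNormal_core F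
  have hQsc := isNormal_stronglyClosed hQ
  have hT : F.StronglyClosed T := h.layer.1.1.2.2.2.1
  have hUS := h.le_ambient
  have hQC : F.core ≤ centralizerIn S T := fun v hv => ⟨hQ.1 hv,
    Subgroup.mem_centralizer_iff.2 fun t ht => h.comm t ht v hv⟩
  have : Finite T := finite_of_le ‹_› hT.1
  obtain ⟨g, hg, R₂, e, ψ, he, hI, -, hψ1, hψ2, hle, hy⟩ := h.decomp (autGroup_mem_hom D le_rfl ha)
  have hy' : ∀ y : U, (a y : Ω) = g * ψ ⟨y, hle y.2⟩ * g⁻¹ := hy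
  have hR₂ := le_S E he
  have hTR : T ≤ R₂ := fun t ht => h.inter_le hR₂ hI ⟨hle (h.le_layer ht), ht⟩
  -- `a` fixes the core
  have hafix : ∀ v : U, (v : Ω) ∈ F.core → a v = v := by
    intro v hv
    obtain ⟨k, hk⟩ := h.pgroup ⟨g, hQ.1 hg⟩
    have hk' : g ^ p ^ k = 1 := congrArg Subtype.val hk
    have hn : ∀ (n : ℕ) (w : U), (w : Ω) ∈ F.core → ((a ^ n) w : Ω) = g ^ n * w * (g ^ n)⁻¹ := by
      intro n
      induction n with
      | zero => intro w _; simp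
      | succ n ih =>
        intro w hw
        have h1 : (a w : Ω) = g * w * g⁻¹ := by rw [hy', hψ2 ⟨w, hw⟩]
        rw [pow_succ, MulAut.mul_apply, ih _ (h1 ▸ F.core.mul_mem (F.core.mul_mem hg hw)
          (F.core.inv_mem hg)), h1, pow_succ]
        group
    obtain ⟨l, hl⟩ := exists_pow_eq_self_of_coprime (n := p ^ k) (x := a)
      (Nat.Coprime.pow_left k ho.symm)
    rw [← hl]
    have hfix : (a ^ p ^ k) v = v := Subtype.ext (by rw [hn _ v hv, hk']; simp)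
    clear hl
    induction l with
    | zero => simp
    | succ l ihl => rw [pow_succ', MulAut.mul_apply, ihl, hfix]
  -- the restriction to `T`
  have heT := restr_mem E hTR he
  have her : (restr hTR e).range = T :=
    range_eq_of_image_le (E.injective_of_mem heT) (range_le_S E heT) le_rfl
  set eA : MulAut T := toIso E heT her
  have heA : eA ∈ E.autGroup T := toIso_mem_autGroup E heT her
  have haT : ∀ t : T, (a (Subgroup.inclusion h.le_layer t) : Ω) = eA t := fun t => by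
    rw [hy']
    show g * ψ ⟨(t : Ω), _⟩ * g⁻¹ = e ⟨t, hTR t.2⟩
    rw [hψ1 ⟨t, hTR t.2⟩, ← h.comm _ (map_mem_S E he _) g hg, mul_inv_cancel_right]
  have heo : Nat.Coprime (orderOf eA) p := by
    refine Nat.Coprime.coprime_dvd_left (orderOf_dvd_of_pow_eq_one ?_) ho
    refine MulEquiv.ext fun t => Subtype.ext ?_
    have := pow_ext_apply h.le_layer haT (orderOf a) t
    rw [pow_orderOf_eq_one] at this
    simpa using this.symm
  set W := T ⊔ centralizerIn S T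
  obtain ⟨β, hβ, hβT, hβc⟩ := h.layer.1.2 eA heA
  have hWS : W ≤ S := sup_le hT.1 (centralizerIn_le T)
  have : Finite W := finite_of_le ‹_› hWS
  obtain ⟨k, i, m, hbo, hmp, hik, hk1⟩ :=
    exists_exponent (o := orderOf β) (orderOf_pos β).ne' (Fact.out : p.Prime) heo
  set Ψ := β ^ k
  have hΨT : ∀ t : T, (Ψ (Subgroup.inclusion le_sup_left t) : Ω) = eA t := fun t => by
    refine (pow_ext_apply le_sup_left hβT k t).trans ?_
    have : eA ^ k = eA := by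
      conv_rhs => rw [← pow_one eA]
      exact pow_eq_pow_iff_modEq.2 hk1
    rw [this]
  have hΨc : ∀ (n : ℕ) (c : W), (c : Ω) ∈ centralizerIn S T →
      (c : Ω)⁻¹ * ((β ^ n) c : Ω) ∈ T ⊓ Subgroup.centralizer (T : Set Ω) := by
    intro n
    induction n with
    | zero => intro c _; simp
    | succ n ih =>
      intro c hc
      have hz := ih c hc
      have e1 : (β ^ n) c = c * Subgroup.inclusion le_sup_left ⟨_, hz.1⟩ :=
        Subtype.ext (mul_inv_cancel_left (c : Ω) ((β ^ n) c : Ω)).symm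
      have h1 : (eA ⟨_, hz.1⟩ : Ω) ∈ T ⊓ Subgroup.centralizer (T : Set Ω) := by
        refine ⟨(eA _).2, Subgroup.mem_centralizer_iff.2 fun t ht => ?_⟩
        obtain ⟨w, hw⟩ := eA.surjective ⟨t, ht⟩
        have e2 : w * ⟨_, hz.1⟩ = ⟨_, hz.1⟩ * w :=
          Subtype.ext (Subgroup.mem_centralizer_iff.1 hz.2 _ w.2)
        have e3 := congrArg (fun s => (eA s : Ω)) e2
        simp only [map_mul, Subgroup.coe_mul, hw] at e3
        exact e3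
      rw [pow_succ', MulAut.mul_apply, e1, map_mul, Subgroup.coe_mul, hβT, ← mul_assoc]
      exact (T ⊓ Subgroup.centralizer (T : Set Ω)).mul_mem (hβc c hc) h1
  have hΨQ : ∀ q : W, (q : Ω) ∈ F.core → Ψ q = q := by
    intro q hq
    set z := q⁻¹ * β q
    have hz : (z : Ω) ∈ T ⊓ F.core := ⟨(hβc q (hQC hq)).1,
      F.core.mul_mem (F.core.inv_mem hq)
        (sc_map_mem hQsc (autGroup_mem_hom F hWS hβ) (x := q) hq)⟩
    have hfix : β z = z := by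
      refine Subtype.ext ((hβT ⟨_, hz.1⟩).trans ?_)
      rw [← haT]
      exact congrArg Subtype.val (hafix _ hz.2)
    have hn : ∀ n : ℕ, (β ^ n) q = q * z ^ n := by
      intro n
      induction n with
      | zero => simp
      | succ n ih =>
        rw [pow_succ', MulAut.mul_apply, ih, map_mul, map_pow, hfix, pow_succ', ← mul_assoc,
          ← mul_assoc, mul_inv_cancel, one_mul]
    obtain ⟨l, hl⟩ := hik
    have h1 : (z ^ k) ^ m = 1 := by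
      have h2 := hn (k * m)
      rw [hl, show p ^ i * l * m = orderOf β * l by rw [hbo]; ring, pow_mul β, pow_orderOf_eq_one,
        one_pow, MulAut.one_apply, ← show p ^ i * l * m = orderOf β * l by rw [hbo]; ring,
        ← hl] at h2
      rw [← pow_mul]
      exact left_eq_mul.1 h2
    obtain ⟨j, hj⟩ := (h.pgroup.to_le hWS) (z ^ k)
    rw [show Ψ q = (β ^ k) q from rfl, hn k, coprime_trivial hmp h1 hj, mul_one]
  set W' := U ⊔ centralizerIn S U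
  have hUW : U ≤ W := fun x hx => by
    obtain ⟨v, hv, u, hu, rfl⟩ := h.exists_mul hx
    exact W.mul_mem (Subgroup.mem_sup_right (hQC hv)) (Subgroup.mem_sup_left hu)
  have hCU : centralizerIn S U ≤ centralizerIn S T := centralizerIn_antitone h.le_layer
  have hW'W : W' ≤ W := sup_le hUW (hCU.trans le_sup_right)
  have hW'S : W' ≤ S := hW'W.trans hWS
  have hΨh := restr_mem F hW'W (autGroup_mem_hom F hWS ((F.autGroup W).pow_mem hβ k))
  have hΨU : ∀ x (hx : x ∈ U), (Ψ ⟨x, hUW hx⟩ : Ω) = a ⟨x, hx⟩ := fun x hx => by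
    obtain ⟨v, hv, u, hu, rfl⟩ := h.exists_mul hx
    have hvW : v ∈ W := Subgroup.mem_sup_right (hQC hv)
    have e1 : (⟨v * u, hUW hx⟩ : W) = ⟨v, hvW⟩ * Subgroup.inclusion le_sup_left ⟨u, hu⟩ := rfl
    have e2 : (⟨v * u, hx⟩ : U) = ⟨v, h.le_core hv⟩ * Subgroup.inclusion h.le_layer ⟨u, hu⟩ := rfl
    rw [e1, map_mul, hΨQ ⟨v, hvW⟩ hv, Subgroup.coe_mul, hΨT, e2, map_mul, hafix _ hv,
      Subgroup.coe_mul, haT]
  have : Finite W' := finite_of_le ‹_› hW'S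
  have hr : (restr hW'W (W.subtype.comp Ψ.toMonoidHom)).range = W' :=
    range_eq_of_image_le (F.injective_of_mem hΨh) (range_le_sup_of_le _
      (fun x hx => Subgroup.mem_sup_left (by
        show (Ψ ⟨(x : Ω), _⟩ : Ω) ∈ U
        rw [hΨU x hx]
        exact (a _).2))
      (fun x hx => by
        show (Ψ ⟨(x : Ω), _⟩ : Ω) ∈ W'
        have hz := hΨc k ⟨x, hW'W (Subgroup.mem_sup_right hx)⟩ (hCU hx)
        have := W'.mul_mem (Subgroup.mem_sup_right hx)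
          (Subgroup.mem_sup_left (h.le_layer hz.1))
        rwa [mul_inv_cancel_left] at this)) le_rfl
  refine ⟨toIso F hΨh hr, toIso_mem_autGroup F hΨh hr, fun x => hΨU x x.2, fun c hc => ?_⟩
  have hz := hΨc k (Subgroup.inclusion hW'W c) (hCU hc)
  refine ⟨h.le_layer hz.1, Subgroup.mem_centralizer_iff.2 fun x hx => ?_⟩
  obtain ⟨v, hv, u, hu, rfl⟩ := h.exists_mul hx
  exact (Commute.mul_left (show Commute v _ from (h.comm _ hz.1 v hv).symm)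
    (show Commute u _ from Subgroup.mem_centralizer_iff.1 hz.2 u hu)).eq

theorem GFData.normal (h : GFData p F E D) : D.IsNormalIn F p := by
  have hUS := h.le_ambient
  have hU := h.strongly_closed
  have : Finite U := finite_of_le ‹_› hUS
  have hI := h.invT
  refine ⟨⟨h.saturated_factor, h.sat, invariant_of h.sub hU hI fun P hP =>
    Cfsg.Agent.S5119.decomp_of_invariance h.pgroup h.sat hU hI (fun R hR => ⟨fun a ha b => ?_⟩) hP⟩,
    fun a ha => ?_⟩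
  · rw [Subgroup.mem_subgroupOf] at ha ⊢
    exact h.autConj hR b.2 ha
  · have hDn : D.IsFullyNormalized U := fullyNormalized_top ⟨le_rfl, fun R _ φ hφ => map_mem_S D hφ⟩
    obtain ⟨-, P₀, hP₀⟩ :=
      (saturated_fullyNormalized (h.pgroup.to_le hUS) h.saturated_factor hDn).2
    have hsyl : SylIn p (autInducedBy U U) (D.autGroup U) :=
      ⟨autInducedBy_le_autGroup D le_rfl, P₀, hP₀⟩
    have hle : D.autGroup U ≤ extGroup F hUS := by
      refine le_of_sylow_pprime hsyl (fun b hb => ?_) fun b hb ho => h.good_ext hb ho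
      obtain ⟨u, hu, hub⟩ := mem_autInducedBy.1 hb
      have hN : u ∈ Subgroup.normalizer ((U ⊔ centralizerIn S U : Subgroup Ω) : Set Ω) :=
        Subgroup.le_normalizer (Subgroup.mem_sup_left hu)
      refine ⟨(U ⊔ centralizerIn S U).normalizerMonoidHom ⟨u, hN⟩,
        autInducedBy_le_autGroup F (sup_le hUS (centralizerIn_le U))
          (mem_autInducedBy.2 ⟨u, hUS hu, fun _ => rfl⟩), fun x => (hub x).symm, fun c hc => ?_⟩
      show (c : Ω)⁻¹ * (u * (c : Ω) * u⁻¹) ∈ _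
      rw [Subgroup.mem_centralizer_iff.1 hc.2 u hu, mul_inv_cancel_right, inv_mul_cancel]
      exact Subgroup.one_mem _
    exact hle ha

/-- The generalized Fitting subsystem exists. -/
theorem exists_fitting (hS : IsPGroup p S) (hF : F.IsSaturated p) :
    ∃ (U : Subgroup Ω) (D : FusionSystem U), D.IsGeneralizedFittingOf F p := by
  obtain ⟨T, E, hE⟩ := exists_layer hS hF
  have hQS := (isNormal_core F).1
  have hTS : T ≤ S := hE.1.1.2.2.2.1.1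
  have : Finite F.core := finite_of_le ‹_› hQS
  have : Finite T := finite_of_le ‹_› hTS
  have := finite_prod (A := F.core) (B := T)
  obtain ⟨D₀, hD₀⟩ := Cfsg.Agent.S5136.result p (hS.to_le hQS) (hS.to_le hTS)
    (innerFusionSystem F.core) E
  have hc : ∀ q ∈ F.core, ∀ t ∈ T, q * t = t * q := fun q hq t ht => layer_comm hS hF hE hq ht
  let θ : ↥(F.core.prod T) →* Ω :=
    MonoidHom.mk' (fun s => (s : Ω × Ω).1 * (s : Ω × Ω).2) fun a b => by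
      show (a : Ω × Ω).1 * (b : Ω × Ω).1 * ((a : Ω × Ω).2 * (b : Ω × Ω).2) = _
      simp only [mul_assoc]
      rw [← mul_assoc (b : Ω × Ω).1, hc _ b.2.1 _ a.2.2]
      simp [mul_assoc]
  set Z := θ.ker.map (F.core.prod T).subtype
  have hker : ∀ s, θ s = 1 ↔ (s : Ω × Ω) ∈ Z := fun s =>
    ⟨fun h => ⟨s, h, rfl⟩, fun ⟨t, ht, e⟩ => (Subtype.ext e : t = s) ▸ ht⟩
  have hZv : ∀ z ∈ Z, z.1 * z.2 = 1 ∧ z.1 ∈ F.core ∧ z.2 ∈ T := by
    rintro _ ⟨s, hs, rfl⟩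
    exact ⟨hs, s.2.1, s.2.2⟩
  have hcen : D₀.IsCentral Z := by
    refine ⟨Subgroup.map_subtype_le _, fun P φ hφ => ?_⟩
    obtain ⟨hP, φ₁, ⟨-, g, hg, hg₁⟩, φ₂, hφ₂, hφe⟩ := (hD₀ P φ).1 hφ
    obtain ⟨e, he, he1, he2⟩ := (layer_inf_central hS hF hE).2 _ φ₂ hφ₂
    have hR : P ⊔ Z ≤ F.core.prod T := sup_le hP (Subgroup.map_subtype_le _)
    have hsnd : (P ⊔ Z).map (MonoidHom.snd Ω Ω) ≤ P.map (MonoidHom.snd Ω Ω) ⊔ T ⊓ F.core := by
      rw [Subgroup.map_sup]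
      refine sup_le_sup_left ?_ _
      rintro _ ⟨z, hz, rfl⟩
      obtain ⟨h1, h2, h3⟩ := hZv z hz
      refine ⟨h3, ?_⟩
      show z.2 ∈ F.core
      rw [eq_inv_of_mul_eq_one_right h1]
      exact F.core.inv_mem h2
    let fst' : ↥(P ⊔ Z) →* (P ⊔ Z).map (MonoidHom.fst Ω Ω) :=
      ((MonoidHom.fst Ω Ω).comp (P ⊔ Z).subtype).codRestrict _ fun r => ⟨r, r.2, rfl⟩
    let snd' : ↥(P ⊔ Z) →* (P ⊔ Z).map (MonoidHom.snd Ω Ω) :=
      ((MonoidHom.snd Ω Ω).comp (P ⊔ Z).subtype).codRestrict _ fun r => ⟨r, r.2, rfl⟩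
    refine ⟨MonoidHom.prod ((Cfsg.conjHom ((P ⊔ Z).map (MonoidHom.fst Ω Ω)) g).comp fst')
      ((restr hsnd e).comp snd'), (hD₀ _ _).2 ⟨hR, Cfsg.conjHom _ g, ⟨?_, g, hg, fun _ => rfl⟩, _,
      restr_mem E hsnd he, fun x _ _ => rfl⟩, fun x => ?_, fun z => ?_⟩
    · rintro _ ⟨r, hr, rfl⟩
      exact (hR hr).1
    · rw [hφe x ⟨x, x.2, rfl⟩ ⟨x, x.2, rfl⟩]
      refine Prod.ext (Eq.trans ?_ (hg₁ ⟨_, x, x.2, rfl⟩).symm) ?_
      · rfl
      exact Eq.trans (congrArg e (Subtype.ext rfl)) (he1 ⟨_, x, x.2, rfl⟩)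
    · obtain ⟨h1, h2, h3⟩ := hZv z z.2
      have hz2 : (z : Ω × Ω).2 ∈ F.core := by
        rw [eq_inv_of_mul_eq_one_right h1]
        exact F.core.inv_mem h2
      have hz1 : (z : Ω × Ω).1 ∈ T := by
        rw [eq_inv_of_mul_eq_one_left h1]
        exact T.inv_mem h3
      refine Prod.ext ?_ ?_
      · show g * (z : Ω × Ω).1 * g⁻¹ = (z : Ω × Ω).1
        rw [hc g hg _ hz1, mul_inv_cancel_right]
      · exact Eq.trans (congrArg e (Subtype.ext rfl)) (he2 ⟨_, h3, hz2⟩)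
  have hZsc := isNormal_stronglyClosed (isCentral_isNormal hcen)
  have h₁ : ∀ (x : Ω) (hx : ((x, 1) : Ω × Ω) ∈ F.core.prod T), θ ⟨(x, 1), hx⟩ = x :=
    fun x _ => mul_one x
  have h₂ : ∀ (y : Ω) (hy : ((1, y) : Ω × Ω) ∈ F.core.prod T), θ ⟨(1, y), hy⟩ = y :=
    fun y _ => one_mul y
  refine ⟨θ.range, factorSystem D₀ hZsc θ hker rfl, T, E, hE, D₀, hD₀, Z, θ,
    le_sSup (s := {X | D₀.IsCentral X}) hcen, ?_, ?_, h₁, h₂,
    factorSystem_isFactorSystem D₀ hZsc θ hker rfl⟩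
  · rw [eq_bot_iff]
    rintro z ⟨hz, -, hz2⟩
    obtain ⟨h1, -⟩ := hZv z hz
    have hz2' : z.2 = 1 := Subgroup.mem_bot.1 hz2
    rw [hz2', mul_one] at h1
    exact Subgroup.mem_bot.2 (Prod.ext h1 hz2')
  · rw [eq_bot_iff]
    rintro z ⟨hz, hz1, -⟩
    obtain ⟨h1, -⟩ := hZv z hz
    have hz1' : z.1 = 1 := Subgroup.mem_bot.1 hz1
    rw [hz1', one_mul] at h1
    exact Subgroup.mem_bot.2 (Prod.ext hz1' h1)

theorem fitting_normal (hS : IsPGroup p S) (hF : F.IsSaturated p)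
    (hD : D.IsGeneralizedFittingOf F p) : D.IsNormalIn F p := by
  obtain ⟨_, _, hE, hprod⟩ := hD
  exact GFData.normal ⟨hS, hF, hE, hprod⟩

end Cfsg.Agent.Tech.Meet
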