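import Cfsg.Agent.FusionAlperin.FittingSelfCentralizing
import Cfsg.Agent.Tech.FittingNormal
import Cfsg.Agent.S5136
import Cfsg.Agent.S5137

/-!
Central products of saturated fusion systems: the form in which they are used, and normality of
subsystems normal in a factor.
-/

set_option autoImplicit false

open Cfsg Cfsg.FusionSystem
open Cfsg.Agent.FusionSys Cfsg.Agent.FusionAlperin

namespace Cfsg.Agent.Tech.CProd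

open Cfsg.Agent.Tech.Meet (isCentral_mono finite_prod isPGroup_prod)

universe u

variable {Ω : Type u} [Group Ω] {T₁ T₂ U A B P : Subgroup Ω} {p : ℕ}

/-- Two homomorphisms agreeing on `A` and on `B` agree on `A ⊔ B`. -/
theorem hom_eq_sup (f g : ↥(A ⊔ B) →* Ω)
    (hA : ∀ x : A, f ⟨x, Subgroup.mem_sup_left x.2⟩ = g ⟨x, Subgroup.mem_sup_left x.2⟩)
    (hB : ∀ x : B, f ⟨x, Subgroup.mem_sup_right x.2⟩ = g ⟨x, Subgroup.mem_sup_right x.2⟩)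
    (x : ↥(A ⊔ B)) : f x = g x := by
  have h : A ⊔ B ≤ (MonoidHom.eqLocus f g).map (A ⊔ B).subtype :=
    sup_le (fun a ha => ⟨_, hA ⟨a, ha⟩, rfl⟩) fun b hb => ⟨_, hB ⟨b, hb⟩, rfl⟩
  obtain ⟨y, hy, hyx⟩ := h x.2
  obtain rfl : y = x := Subtype.ext hyx
  exact hy

/-- The data of a central product of saturated systems. -/
structure CP (p : ℕ) {T₁ T₂ U : Subgroup Ω} (E₁ : FusionSystem T₁) (E₂ : FusionSystem T₂)
    (D : FusionSystem U) : Prop where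
  fin₁ : Finite T₁
  fin₂ : Finite T₂
  finU : Finite U
  pgrp₁ : IsPGroup p T₁
  pgrp₂ : IsPGroup p T₂
  sat₁ : E₁.IsSaturated p
  sat₂ : E₂.IsSaturated p
  sat : D.IsSaturated p
  comm : ∀ a ∈ T₁, ∀ b ∈ T₂, a * b = b * a
  sup : T₁ ⊔ T₂ = U
  cen₁ : E₁.IsCentral (T₁ ⊓ T₂)
  cen₂ : E₂.IsCentral (T₁ ⊓ T₂)
  pair : ∀ {A B : Subgroup Ω} {e₁ : A →* Ω} {e₂ : B →* Ω}, e₁ ∈ E₁.Hom A → e₂ ∈ E₂.Hom B →
    ∃ ψ ∈ D.Hom (A ⊔ B), (∀ x : A, ψ ⟨x, Subgroup.mem_sup_left x.2⟩ = e₁ x) ∧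
      ∀ x : B, ψ ⟨x, Subgroup.mem_sup_right x.2⟩ = e₂ x
  decomp : ∀ {P : Subgroup Ω} {φ : P →* Ω}, φ ∈ D.Hom P →
    ∃ (A B : Subgroup Ω) (e₁ : A →* Ω) (e₂ : B →* Ω) (ψ : ↥(A ⊔ B) →* Ω), e₁ ∈ E₁.Hom A ∧
      e₂ ∈ E₂.Hom B ∧ ψ ∈ D.Hom (A ⊔ B) ∧ (∀ x : A, ψ ⟨x, Subgroup.mem_sup_left x.2⟩ = e₁ x) ∧
      (∀ x : B, ψ ⟨x, Subgroup.mem_sup_right x.2⟩ = e₂ x) ∧
      ∃ hle : P ≤ A ⊔ B, ∀ y : P, φ y = ψ ⟨y, hle y.2⟩

variable {E₁ : FusionSystem T₁} {E₂ : FusionSystem T₂} {D : FusionSystem U}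

theorem CP.le₁ (h : CP p E₁ E₂ D) : T₁ ≤ U := le_sup_left.trans h.sup.le

theorem CP.le₂ (h : CP p E₁ E₂ D) : T₂ ≤ U := le_sup_right.trans h.sup.le

theorem CP.symm (h : CP p E₁ E₂ D) : CP p E₂ E₁ D where
  fin₁ := h.fin₂
  fin₂ := h.fin₁
  finU := h.finU
  pgrp₁ := h.pgrp₂
  pgrp₂ := h.pgrp₁
  sat₁ := h.sat₂
  sat₂ := h.sat₁
  sat := h.sat
  comm := fun a ha b hb => (h.comm b hb a ha).symm
  sup := (sup_comm T₂ T₁).trans h.sup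
  cen₁ := inf_comm T₁ T₂ ▸ h.cen₂
  cen₂ := inf_comm T₁ T₂ ▸ h.cen₁
  pair := fun {A B} e₁ e₂ he₁ he₂ => by
    obtain ⟨ψ, hψ, h1, h2⟩ := h.pair he₂ he₁
    exact ⟨restr (sup_comm A B).le ψ, restr_mem D _ hψ, fun x => h2 x, fun x => h1 x⟩
  decomp := fun {P φ} hφ => by
    obtain ⟨A, B, e₁, e₂, ψ, he₁, he₂, hψ, h1, h2, hle, hy⟩ := h.decomp hφ
    exact ⟨B, A, e₂, e₁, restr (sup_comm B A).le ψ, he₂, he₁, restr_mem D _ hψ, fun x => h2 x,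
      fun x => h1 x, hle.trans (sup_comm A B).le, fun y => hy y⟩

/-- The sources of a decomposition may contain `T₁ ⊓ T₂`, which is fixed. -/
theorem CP.decomp_fix (h : CP p E₁ E₂ D) {φ : P →* Ω} (hφ : φ ∈ D.Hom P) :
    ∃ (A B : Subgroup Ω) (e₁ : A →* Ω) (e₂ : B →* Ω) (ψ : ↥(A ⊔ B) →* Ω), e₁ ∈ E₁.Hom A ∧
      e₂ ∈ E₂.Hom B ∧ ψ ∈ D.Hom (A ⊔ B) ∧ (∀ x : A, ψ ⟨x, Subgroup.mem_sup_left x.2⟩ = e₁ x) ∧
      (∀ x : B, ψ ⟨x, Subgroup.mem_sup_right x.2⟩ = e₂ x) ∧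
      T₁ ⊓ T₂ ≤ A ∧ T₁ ⊓ T₂ ≤ B ∧ (∀ x : A, (x : Ω) ∈ T₁ ⊓ T₂ → e₁ x = x) ∧
      (∀ x : B, (x : Ω) ∈ T₁ ⊓ T₂ → e₂ x = x) ∧
      ∃ hle : P ≤ A ⊔ B, ∀ y : P, φ y = ψ ⟨y, hle y.2⟩ := by
  obtain ⟨A, B, e₁, e₂, ψ, he₁, he₂, -, h1, h2, hle, hy⟩ := h.decomp hφ
  obtain ⟨f₁, hf₁, hf₁A, hf₁R⟩ := h.cen₁.2 A e₁ he₁
  obtain ⟨f₂, hf₂, hf₂B, hf₂R⟩ := h.cen₂.2 B e₂ he₂
  obtain ⟨χ, hχ, hχ1, hχ2⟩ := h.pair hf₁ hf₂
  have hle' : A ⊔ B ≤ (A ⊔ T₁ ⊓ T₂) ⊔ (B ⊔ T₁ ⊓ T₂) := sup_le_sup le_sup_left le_sup_left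
  refine ⟨_, _, f₁, f₂, χ, hf₁, hf₂, hχ, hχ1, hχ2, le_sup_right, le_sup_right,
    fun x hx => hf₁R ⟨x, hx⟩, fun x hx => hf₂R ⟨x, hx⟩, hle.trans hle', fun y => ?_⟩
  rw [hy]
  refine hom_eq_sup ψ (restr hle' χ) (fun x => ?_) (fun x => ?_) ⟨y, hle y.2⟩
  · exact ((hf₁A x).trans (h1 x).symm).symm.trans
      (hχ1 ⟨x, Subgroup.mem_sup_left x.2⟩).symm
  · exact ((hf₂B x).trans (h2 x).symm).symm.trans
      (hχ2 ⟨x, Subgroup.mem_sup_left x.2⟩).symm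

theorem CP.inter_le (h : CP p E₁ E₂ D) (hA : A ≤ T₁) (hB : B ≤ T₂) (hR : T₁ ⊓ T₂ ≤ A) :
    (A ⊔ B) ⊓ T₁ ≤ A := by
  rintro x ⟨hx, hxT⟩
  obtain ⟨a, ha, b, hb, rfl⟩ := exists_mul_of_mem_sup
    (fun a ha b hb => h.comm a (hA ha) b (hB hb)) hx
  refine A.mul_mem ha (hR ⟨?_, hB hb⟩)
  have := T₁.mul_mem (T₁.inv_mem (hA ha)) hxT
  rwa [inv_mul_cancel_left] at this

/-- A map of the product on a subgroup of a factor is a map of the factor. -/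
theorem CP.mem_left (h : CP p E₁ E₂ D) {φ : P →* Ω} (hφ : φ ∈ D.Hom P) (hP : P ≤ T₁) :
    φ ∈ E₁.Hom P := by
  obtain ⟨A, B, e₁, e₂, ψ, he₁, he₂, -, h1, -, hRA, -, -, -, hle, hy⟩ := h.decomp_fix hφ
  have hPA : P ≤ A := (le_inf hle hP).trans (h.inter_le (le_S E₁ he₁) (le_S E₂ he₂) hRA)
  exact mem_hom_congr E₁ (restr_mem E₁ hPA he₁) fun y => (hy y).trans (h1 ⟨y, hPA y.2⟩)

theorem CP.sub_left (h : CP p E₁ E₂ D) : E₁.IsSubsystemOf D := by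
  intro P φ hφ
  obtain ⟨ψ, hψ, h1, -⟩ := h.pair hφ (subtype_mem E₂ (bot_le : (⊥ : Subgroup Ω) ≤ T₂))
  exact mem_hom_congr D (restr_mem D le_sup_left hψ) fun y => (h1 y).symm

theorem CP.sub_right (h : CP p E₁ E₂ D) : E₂.IsSubsystemOf D := h.symm.sub_left

theorem CP.mem_map (h : CP p E₁ E₂ D) {φ : P →* Ω} (hφ : φ ∈ D.Hom P) {x : P}
    (hx : (x : Ω) ∈ T₁) : φ x ∈ T₁ :=
  map_mem_S E₁ (h.mem_left (restr_mem D inf_le_left hφ) (inf_le_right : P ⊓ T₁ ≤ T₁))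
    ⟨x, x.2, hx⟩

theorem CP.sc_left (h : CP p E₁ E₂ D) : D.StronglyClosed T₁ :=
  sc_of_elements h.le₁ fun _ _ hφ _ hx => h.mem_map hφ hx

/-- A normal subsystem of a factor is normal in the product. -/
theorem CP.normal_of_left (h : CP p E₁ E₂ D) {V : Subgroup Ω} {C : FusionSystem V}
    (hC : C.IsNormalIn E₁ p) : C.IsNormalIn D p := by
  obtain ⟨⟨hCs, -, hsub, hV, hinv, hdec⟩, hext⟩ := hC
  have hVT := hV.1
  have hVU := hVT.trans h.le₁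
  have haut : ∀ {a : MulAut V}, a ∈ D.autGroup V → a ∈ E₁.autGroup V := fun ha =>
    (mem_autGroup_iff_hom E₁ hVT).2 (h.mem_left (autGroup_mem_hom D hVU ha) hVT)
  refine ⟨⟨hCs, h.sat, fun P φ hφ => h.sub_left P (hsub P hφ),
    sc_of_elements hVU fun P φ hφ x hx => ?_, fun P hP φ hφ α hα => hinv P hP φ hφ α (haut hα),
    fun P hP φ hφ => ?_⟩, fun α hα => ?_⟩
  · exact sc_map_mem hV (h.mem_left (restr_mem D inf_le_left hφ) (inf_le_right : P ⊓ T₁ ≤ T₁))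
      (x := ⟨x, x.2, hVT hx⟩) hx
  · obtain ⟨α, hα, e, he, hφe⟩ := hdec P hP φ (h.mem_left hφ (hP.trans hVT))
    exact ⟨α, (mem_autGroup_iff_hom D hVU).2 (h.sub_left V (autGroup_mem_hom E₁ hVT hα)), e, he,
      hφe⟩
  obtain ⟨β, hβ, hβV, hβc⟩ := hext α hα
  have hWT : V ⊔ centralizerIn T₁ V ≤ T₁ := sup_le hVT (centralizerIn_le V)
  obtain ⟨ψ, hψ, hψ1, hψ2⟩ := h.pair (autGroup_mem_hom E₁ hWT hβ) (subtype_mem E₂ le_rfl)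
  have hmul : ∀ x ∈ centralizerIn U V, ∃ a ∈ centralizerIn T₁ V, ∃ b ∈ T₂, x = a * b := by
    rintro x ⟨hxU, hxV⟩
    obtain ⟨a, ha, b, hb, rfl⟩ := exists_mul_of_mem_sup h.comm (h.sup.ge hxU)
    refine ⟨a, ⟨ha, Subgroup.mem_centralizer_iff.2 fun v hv => ?_⟩, b, hb, rfl⟩
    have h1 := Subgroup.mem_centralizer_iff.1 hxV v hv
    have h2 := h.comm v (hVT hv) b hb
    calc v * a = v * (a * b) * b⁻¹ := by group
      _ = a * (b * v) * b⁻¹ := by rw [h1]; group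
      _ = a * v := by rw [← h2]; group
  have hle : V ⊔ centralizerIn U V ≤ (V ⊔ centralizerIn T₁ V) ⊔ T₂ :=
    sup_le (le_sup_left.trans le_sup_left) fun x hx => by
      obtain ⟨a, ha, b, hb, rfl⟩ := hmul x hx
      exact Subgroup.mul_mem _ (Subgroup.mem_sup_left (Subgroup.mem_sup_right ha))
        (Subgroup.mem_sup_right hb)
  have hWU : V ⊔ centralizerIn U V ≤ U := sup_le hVU (centralizerIn_le V)
  have := h.fin₁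
  have := h.fin₂
  have hψv : ∀ v (hv : v ∈ V), ψ ⟨v, hle (Subgroup.mem_sup_left hv)⟩ = α ⟨v, hv⟩ := fun v hv =>
    (hψ1 ⟨v, Subgroup.mem_sup_left hv⟩).trans (hβV ⟨v, hv⟩)
  have hψc : ∀ x (hx : x ∈ centralizerIn U V), x⁻¹ * ψ ⟨x, hle (Subgroup.mem_sup_right hx)⟩ ∈
      V ⊓ Subgroup.centralizer (V : Set Ω) := fun x hx => by
    obtain ⟨a, ha, b, hb, rfl⟩ := hmul x hx
    have e : (⟨a * b, hle (Subgroup.mem_sup_right hx)⟩ : ↥((V ⊔ centralizerIn T₁ V) ⊔ T₂)) =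
        ⟨a, Subgroup.mem_sup_left (Subgroup.mem_sup_right ha)⟩ * ⟨b, Subgroup.mem_sup_right hb⟩ :=
      rfl
    rw [e, map_mul, hψ1 ⟨a, Subgroup.mem_sup_right ha⟩, hψ2 ⟨b, hb⟩]
    have hz := hβc ⟨a, Subgroup.mem_sup_right ha⟩ ha
    set z := a⁻¹ * (β ⟨a, Subgroup.mem_sup_right ha⟩ : Ω)
    show (a * b)⁻¹ * ((β ⟨a, Subgroup.mem_sup_right ha⟩ : Ω) * b) ∈ _
    rw [show (a * b)⁻¹ * ((β ⟨a, Subgroup.mem_sup_right ha⟩ : Ω) * b) = b⁻¹ * (z * b) by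
      simp only [z]; group, h.comm z (hVT hz.1) b hb, inv_mul_cancel_left]
    exact hz
  have hψW := restr_mem D hle hψ
  have := h.finU
  have : Finite ↥(V ⊔ centralizerIn U V) := finite_of_le ‹_› hWU
  have hr : (restr hle ψ).range = V ⊔ centralizerIn U V :=
    range_eq_of_image_le (D.injective_of_mem hψW) (range_le_sup_of_le _
      (fun v hv => Subgroup.mem_sup_left (by
        show ψ ⟨(v : Ω), _⟩ ∈ V
        rw [hψv v hv]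
        exact (α _).2))
      (fun x hx => by
        show ψ ⟨(x : Ω), _⟩ ∈ _
        have := (V ⊔ centralizerIn U V).mul_mem (Subgroup.mem_sup_right hx)
          (Subgroup.mem_sup_left (hψc x hx).1)
        rwa [mul_inv_cancel_left] at this)) le_rfl
  exact ⟨toIso D hψW hr, toIso_mem_autGroup D hψW hr, fun x => hψv x x.2, fun c hc => hψc c hc⟩

theorem CP.normal_left (h : CP p E₁ E₂ D) : E₁.IsNormalIn D p :=
  have := h.fin₁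
  h.normal_of_left (Meet.normal_self h.sat₁)

theorem CP.normal_of_right (h : CP p E₁ E₂ D) {V : Subgroup Ω} {C : FusionSystem V}
    (hC : C.IsNormalIn E₂ p) : C.IsNormalIn D p := h.symm.normal_of_left hC

theorem CP.normal_right (h : CP p E₁ E₂ D) : E₂.IsNormalIn D p := h.symm.normal_left

/-- A central product of saturated systems over finite `p`-groups. -/
theorem of_isCentralProductOf [Finite T₁] [Finite T₂] [Fact p.Prime] (hT₁ : IsPGroup p T₁)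
    (hT₂ : IsPGroup p T₂) (hE₁ : E₁.IsSaturated p) (hE₂ : E₂.IsSaturated p)
    (h : IsCentralProductOf E₁ E₂ D) : CP p E₁ E₂ D := by
  obtain ⟨D₀, hD₀, Z, θ, hZ, -, -, h₁, h₂, hfac⟩ := h
  have := finite_prod (A := T₁) (B := T₂)
  have hp := isPGroup_prod hT₁ hT₂
  have hD₀s := Cfsg.Agent.S5137.result p hT₁ hT₂ E₁ E₂ hE₁ hE₂ D₀ hD₀
  have hZc := isCentral_mono (isCentral_center D₀) hZ
  have hmor := isSurjectiveMorphism_factor hp hD₀s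
    (isNormal_stronglyClosed (isCentral_isNormal hZc)) hfac
  have hmul := centralProduct_apply h₁ h₂
  obtain ⟨-, hker, hr, hD⟩ := hfac
  have hcomm : ∀ a ∈ T₁, ∀ b ∈ T₂, a * b = b * a := fun a ha b hb => by
    have e : (⟨(a, 1), ha, one_mem _⟩ : ↥(T₁.prod T₂)) * ⟨(1, b), one_mem _, hb⟩ =
        ⟨(1, b), one_mem _, hb⟩ * ⟨(a, 1), ha, one_mem _⟩ :=
      Subtype.ext (Prod.ext ((mul_one a).trans (one_mul a).symm)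
        ((one_mul b).trans (mul_one b).symm))
    have h' := congrArg θ e
    rw [map_mul, map_mul] at h'
    exact (congrArg₂ (· * ·) (h₁ a ⟨ha, one_mem _⟩) (h₂ b ⟨one_mem _, hb⟩)).symm.trans
      (h'.trans (congrArg₂ (· * ·) (h₂ b ⟨one_mem _, hb⟩) (h₁ a ⟨ha, one_mem _⟩)))
  have hZmem : ∀ z ∈ T₁ ⊓ T₂, ((z, z⁻¹) : Ω × Ω) ∈ Z := fun z hz =>
    (hker ⟨(z, z⁻¹), hz.1, T₂.inv_mem hz.2⟩).1 ((hmul _).trans (mul_inv_cancel z))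
  have hZmem' : ∀ z ∈ T₁ ⊓ T₂, ((z⁻¹, z) : Ω × Ω) ∈ Z := fun z hz =>
    (hker ⟨(z⁻¹, z), T₁.inv_mem hz.1, hz.2⟩).1 ((hmul _).trans (inv_mul_cancel z))
  have hpair : ∀ {A B : Subgroup Ω} {e₁ : A →* Ω} {e₂ : B →* Ω}, e₁ ∈ E₁.Hom A → e₂ ∈ E₂.Hom B →
      ∃ ψ ∈ D.Hom (A ⊔ B), (∀ x : A, ψ ⟨x, Subgroup.mem_sup_left x.2⟩ = e₁ x) ∧
        ∀ x : B, ψ ⟨x, Subgroup.mem_sup_right x.2⟩ = e₂ x := by
    intro A B e₁ e₂ he₁ he₂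
    set R := A.prod B
    have hR : R ≤ T₁.prod T₂ := fun r hr => ⟨le_S E₁ he₁ hr.1, le_S E₂ he₂ hr.2⟩
    have hfst : R.map (MonoidHom.fst Ω Ω) ≤ A := by rintro _ ⟨r, hr, rfl⟩; exact hr.1
    have hsnd : R.map (MonoidHom.snd Ω Ω) ≤ B := by rintro _ ⟨r, hr, rfl⟩; exact hr.2
    let χ : R →* Ω × Ω := MonoidHom.prod
      (e₁.comp (((MonoidHom.fst Ω Ω).comp R.subtype).codRestrict A fun r => r.2.1))
      (e₂.comp (((MonoidHom.snd Ω Ω).comp R.subtype).codRestrict B fun r => r.2.2))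
    have hχ : χ ∈ D₀.Hom R := (hD₀ R χ).2
      ⟨hR, _, restr_mem E₁ hfst he₁, _, restr_mem E₂ hsnd he₂, fun x _ _ => rfl⟩
    obtain ⟨φ', hφ', hR0, hv, hm, hind⟩ := hmor.1.2 R χ hχ
    have ha : ∀ a : A, ((a : Ω), (1 : Ω)) ∈ R := fun a => ⟨a.2, one_mem _⟩
    have hb : ∀ b : B, ((1 : Ω), (b : Ω)) ∈ R := fun b => ⟨one_mem _, b.2⟩
    have hea : ∀ a : A, θ ⟨((a : Ω), 1), hR0 (ha a)⟩ = a := fun a => h₁ a _
    have heb : ∀ b : B, θ ⟨(1, (b : Ω)), hR0 (hb b)⟩ = b := fun b => h₂ b _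
    have hle : A ⊔ B ≤ imageAlong θ R := sup_le
      (fun a ha' => by
        have e : θ ⟨(a, 1), hR0 (ha ⟨a, ha'⟩)⟩ = a := hea ⟨a, ha'⟩
        exact e ▸ hm ⟨_, ha ⟨a, ha'⟩⟩)
      fun b hb' => by
        have e : θ ⟨(1, b), hR0 (hb ⟨b, hb'⟩)⟩ = b := heb ⟨b, hb'⟩
        exact e ▸ hm ⟨_, hb ⟨b, hb'⟩⟩
    refine ⟨restr hle φ', restr_mem D hle hφ', fun a => ?_, fun b => ?_⟩
    · refine Eq.trans (congrArg φ' (Subtype.ext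
        (a2 := ⟨_, hm ⟨_, ha a⟩⟩) (hea a).symm)) ((hind ⟨_, ha a⟩).trans ?_)
      rw [hmul]
      show e₁ ⟨a, _⟩ * e₂ ⟨1, _⟩ = e₁ a
      rw [show (⟨1, _⟩ : B) = 1 from rfl, map_one, mul_one]
    · refine Eq.trans (congrArg φ' (Subtype.ext
        (a2 := ⟨_, hm ⟨_, hb b⟩⟩) (heb b).symm)) ((hind ⟨_, hb b⟩).trans ?_)
      rw [hmul]
      show e₁ ⟨1, _⟩ * e₂ ⟨b, _⟩ = e₂ b
      rw [show (⟨1, _⟩ : A) = 1 from rfl, map_one, one_mul]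
  have hUfin : Finite U := hr ▸ Finite.of_surjective θ.rangeRestrict θ.rangeRestrict_surjective
  refine ⟨‹_›, ‹_›, hUfin, hT₁, hT₂, hE₁, hE₂, saturated_of_surjective hp hD₀s hmor, hcomm, ?_, ?_, ?_,
    hpair, ?_⟩
  · refine le_antisymm (sup_le (fun x hx => hr.le ⟨⟨(x, 1), hx, one_mem _⟩, h₁ x _⟩)
      fun y hy => hr.le ⟨⟨(1, y), one_mem _, hy⟩, h₂ y _⟩) fun x hx => ?_
    obtain ⟨s, rfl⟩ := hr.ge hx
    rw [hmul]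
    exact Subgroup.mul_mem _ (Subgroup.mem_sup_left s.2.1) (Subgroup.mem_sup_right s.2.2)
  · refine ⟨inf_le_left, fun P φ hφ => ?_⟩
    have hPP : P.prod ⊥ ≤ T₁.prod T₂ := fun x hx => ⟨le_S E₁ hφ hx.1, bot_le (a := T₂) hx.2⟩
    have hfst : (P.prod (⊥ : Subgroup Ω)).map (MonoidHom.fst Ω Ω) ≤ P := by
      rintro _ ⟨x, hx, rfl⟩; exact hx.1
    have hsnd : (P.prod (⊥ : Subgroup Ω)).map (MonoidHom.snd Ω Ω) ≤ T₂ := by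
      rintro _ ⟨x, hx, rfl⟩; exact (hPP hx).2
    let φ₀ : ↥(P.prod (⊥ : Subgroup Ω)) →* Ω × Ω :=
      MonoidHom.prod (φ.comp (((MonoidHom.fst Ω Ω).comp (P.prod ⊥).subtype).codRestrict P
        fun x => x.2.1)) ((MonoidHom.snd Ω Ω).comp (P.prod ⊥).subtype)
    have hφ₀ : φ₀ ∈ D₀.Hom (P.prod ⊥) := (hD₀ _ φ₀).2
      ⟨hPP, _, restr_mem E₁ hfst hφ, _, subtype_mem E₂ hsnd, fun x _ _ => rfl⟩
    obtain ⟨Ψ, hΨ, hΨP, hΨZ⟩ := hZc.2 _ φ₀ hφ₀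
    obtain ⟨-, f₁, hf₁, f₂, -, hf⟩ := (hD₀ _ Ψ).1 hΨ
    have hle : P ⊔ T₁ ⊓ T₂ ≤ (P.prod ⊥ ⊔ Z).map (MonoidHom.fst Ω Ω) :=
      sup_le (fun x hx => ⟨(x, 1), Subgroup.mem_sup_left ⟨hx, one_mem _⟩, rfl⟩)
        fun z hz => ⟨(z, z⁻¹), Subgroup.mem_sup_right (hZmem z hz), rfl⟩
    refine ⟨restr hle f₁, restr_mem E₁ hle hf₁, fun x => ?_, fun z => ?_⟩
    · have hx : (((x : Ω), 1) : Ω × Ω) ∈ P.prod (⊥ : Subgroup Ω) := ⟨x.2, one_mem _⟩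
      exact ((congrArg Prod.fst (hf ⟨_, Subgroup.mem_sup_left hx⟩
        ⟨_, Subgroup.mem_sup_left hx, rfl⟩ ⟨_, Subgroup.mem_sup_left hx, rfl⟩)).symm).trans
        (congrArg Prod.fst (hΨP ⟨_, hx⟩))
    · have hz := hZmem z z.2
      exact ((congrArg Prod.fst (hf ⟨_, Subgroup.mem_sup_right hz⟩
        ⟨_, Subgroup.mem_sup_right hz, rfl⟩ ⟨_, Subgroup.mem_sup_right hz, rfl⟩)).symm).trans
        (congrArg Prod.fst (hΨZ ⟨_, hz⟩))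
  · refine ⟨inf_le_right, fun P φ hφ => ?_⟩
    have hPP : (⊥ : Subgroup Ω).prod P ≤ T₁.prod T₂ := fun x hx =>
      ⟨bot_le (a := T₁) hx.1, le_S E₂ hφ hx.2⟩
    have hfst : ((⊥ : Subgroup Ω).prod P).map (MonoidHom.fst Ω Ω) ≤ T₁ := by
      rintro _ ⟨x, hx, rfl⟩; exact (hPP hx).1
    have hsnd : ((⊥ : Subgroup Ω).prod P).map (MonoidHom.snd Ω Ω) ≤ P := by
      rintro _ ⟨x, hx, rfl⟩; exact hx.2
    let φ₀ : ↥((⊥ : Subgroup Ω).prod P) →* Ω × Ω :=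
      MonoidHom.prod ((MonoidHom.fst Ω Ω).comp ((⊥ : Subgroup Ω).prod P).subtype)
        (φ.comp (((MonoidHom.snd Ω Ω).comp ((⊥ : Subgroup Ω).prod P).subtype).codRestrict P
        fun x => x.2.2))
    have hφ₀ : φ₀ ∈ D₀.Hom ((⊥ : Subgroup Ω).prod P) := (hD₀ _ φ₀).2
      ⟨hPP, _, subtype_mem E₁ hfst, _, restr_mem E₂ hsnd hφ, fun x _ _ => rfl⟩
    obtain ⟨Ψ, hΨ, hΨP, hΨZ⟩ := hZc.2 _ φ₀ hφ₀
    obtain ⟨-, f₁, -, f₂, hf₂, hf⟩ := (hD₀ _ Ψ).1 hΨ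
    have hle : P ⊔ T₁ ⊓ T₂ ≤ ((⊥ : Subgroup Ω).prod P ⊔ Z).map (MonoidHom.snd Ω Ω) :=
      sup_le (fun x hx => ⟨(1, x), Subgroup.mem_sup_left ⟨one_mem _, hx⟩, rfl⟩)
        fun z hz => ⟨(z⁻¹, z), Subgroup.mem_sup_right (hZmem' z hz), rfl⟩
    refine ⟨restr hle f₂, restr_mem E₂ hle hf₂, fun x => ?_, fun z => ?_⟩
    · have hx : ((1, (x : Ω)) : Ω × Ω) ∈ (⊥ : Subgroup Ω).prod P := ⟨one_mem _, x.2⟩
      exact ((congrArg Prod.snd (hf ⟨_, Subgroup.mem_sup_left hx⟩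
        ⟨_, Subgroup.mem_sup_left hx, rfl⟩ ⟨_, Subgroup.mem_sup_left hx, rfl⟩)).symm).trans
        (congrArg Prod.snd (hΨP ⟨_, hx⟩))
    · have hz := hZmem' z z.2
      exact ((congrArg Prod.snd (hf ⟨_, Subgroup.mem_sup_right hz⟩
        ⟨_, Subgroup.mem_sup_right hz, rfl⟩ ⟨_, Subgroup.mem_sup_right hz, rfl⟩)).symm).trans
        (congrArg Prod.snd (hΨZ ⟨_, hz⟩))
  · intro P φ hφ
    obtain ⟨hPU, φ₀, hφ₀, hR, hv, hm, hind⟩ := (hD P φ).1 hφ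
    obtain ⟨-, f₁, hf₁, f₂, hf₂, hf⟩ := (hD₀ _ φ₀).1 hφ₀
    have hdec : ∀ y : P, ∃ x : (preimageAlong θ P), θ ⟨x, hR x.2⟩ = y := fun y => by
      obtain ⟨s, hs⟩ := hr.ge (hPU y.2)
      exact ⟨⟨s, s, show θ s ∈ P by rw [hs]; exact y.2, rfl⟩, hs⟩
    have hle : P ≤ (preimageAlong θ P).map (MonoidHom.fst Ω Ω) ⊔ (preimageAlong θ P).map (MonoidHom.snd Ω Ω) := fun y hy => by
      obtain ⟨x, hx⟩ := hdec ⟨y, hy⟩
      rw [← show θ ⟨x, hR x.2⟩ = y from hx, hmul]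
      exact Subgroup.mul_mem _ (Subgroup.mem_sup_left ⟨x, x.2, rfl⟩)
        (Subgroup.mem_sup_right ⟨x, x.2, rfl⟩)
    obtain ⟨ψ, hψ, hψ1, hψ2⟩ := hpair hf₁ hf₂
    refine ⟨_, _, f₁, f₂, ψ, hf₁, hf₂, hψ, hψ1, hψ2, hle, fun y => ?_⟩
    obtain ⟨x, hx⟩ := hdec y
    have e : (⟨(y : Ω), hle y.2⟩ :
        ↥((preimageAlong θ P).map (MonoidHom.fst Ω Ω) ⊔ (preimageAlong θ P).map (MonoidHom.snd Ω Ω))) =
        ⟨_, Subgroup.mem_sup_left ⟨x, x.2, rfl⟩⟩ * ⟨_, Subgroup.mem_sup_right ⟨x, x.2, rfl⟩⟩ :=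
      Subtype.ext (hx.symm.trans (hmul _))
    rw [e, map_mul, hψ1 ⟨_, x, x.2, rfl⟩, hψ2 ⟨_, x, x.2, rfl⟩]
    refine (congrArg φ (Subtype.ext hx.symm)).trans ((hind x).trans ?_)
    rw [hmul]
    show (φ₀ x).1 * (φ₀ x).2 = _
    rw [hf x ⟨x, x.2, rfl⟩ ⟨x, x.2, rfl⟩]
    rfl

end Cfsg.Agent.Tech.CProd
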