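import Cfsg.Agent.FusionAlperin.CentralizerE

/-!
The focal subgroup of the centralizer system of `T` is centralized by a normal subsystem over `T`:
a `p'`-lift moving the elements only within `R` has displacement invariant under `C_F(R)`.
-/

set_option autoImplicit false

open Cfsg Cfsg.FusionSystem
open Cfsg.Agent.FusionSys Cfsg.Agent.FusionAlperin
open scoped Pointwise

namespace Cfsg.Agent.Tech.CentFocal

universe u

variable {Ω : Type u} [Group Ω] {S T : Subgroup Ω} {p : ℕ} [Finite S] [Fact p.Prime]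
  {F : FusionSystem S}

/-- The generators of the focal subgroup. -/
def focGens {U : Subgroup Ω} (D : FusionSystem U) : Set Ω :=
  {y : Ω | ∃ (P : Subgroup Ω) (φ : P →* Ω) (x : P), φ ∈ D.Hom P ∧ y = (x : Ω)⁻¹ * φ x}

omit [Finite S] [Fact p.Prime] in
theorem focal_le {U : Subgroup Ω} (D : FusionSystem U) : D.focalSubgroup ≤ U :=
  (Subgroup.closure_le _).2 fun _ ⟨_, _, x, hφ, e⟩ =>
    e ▸ U.mul_mem (U.inv_mem (le_S D hφ x.2)) (map_mem_S D hφ x)

/-- The lift fixes the image of a generator. -/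
theorem focGen_fixed (hS : IsPGroup p S) (hF : F.IsSaturated p) (hTS : T ≤ S)
    {P R : Subgroup Ω} (hPT : P ≤ T) (hR : F.IsFullyNormalized R)
    {χ : ↥(normalizerIn S P) →* Ω} (hχ : χ ∈ F.Hom (normalizerIn S P))
    (hχm : (P.subgroupOf (normalizerIn S P)).map χ = R)
    {A : MulAut ↥(R ⊔ centralizerIn S R)} (hA : A ∈ F.autGroup (R ⊔ centralizerIn S R))
    (hAm : ∀ y : ↥(R ⊔ centralizerIn S R), (y : Ω)⁻¹ * (A y : Ω) ∈ R)
    (hAo : Nat.Coprime (orderOf A) p)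
    {D : FusionSystem (centralizerIn S T)} (hD : F.IsCentralizerSystem T D)
    {X : Subgroup Ω} {φ : X →* Ω} (hφ : φ ∈ D.Hom X) (x : X)
    (hN : (x : Ω)⁻¹ * φ x ∈ normalizerIn S P) :
    autExt A (χ ⟨_, hN⟩) = χ ⟨_, hN⟩ := by
  have hPS : P ≤ S := hPT.trans hTS
  have hPN := le_normalizerIn (S := S) hPS
  rw [hD X] at hφ
  obtain ⟨hφF, hX, hφC, ψ, hψ, hψX, hψT⟩ := hφ
  have hCN : centralizerIn S T ≤ normalizerIn S P :=
    (centralizerIn_antitone hPT).trans (centralizerIn_le_normalizerIn P)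
  have hXN : X ≤ normalizerIn S P := hX.trans hCN
  have hW : X ⊔ P ≤ normalizerIn S P := sup_le hXN hPN
  have hψ' := restr_mem F (sup_le_sup_left hPT X) hψ
  -- the map transported along `χ`
  obtain ⟨e, he, hev⟩ : ∃ e : ↥(X ⊔ P) ≃* ↥(restr hW χ).range, IsIso F e ∧
      ∀ w : ↥(X ⊔ P), (e w : Ω) = χ (Subgroup.inclusion hW w) :=
    ⟨toIso F (restr_mem F hW hχ) rfl, toIso_isIso F _ rfl, fun _ => rfl⟩
  have hψv : ∀ y : ↥(X ⊔ P), restr (sup_le_sup_left hPT X) ψ y ∈ normalizerIn S P := fun y =>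
    range_le_sup_of_le (restr (sup_le_sup_left hPT X) ψ)
      (fun z hz => hCN ((hψX ⟨z, hz⟩).symm ▸ hφC _))
      (fun z hz => hPN ((hψT ⟨z, hPT hz⟩).symm ▸ hz)) ⟨y, rfl⟩
  have h1 := F.comp_mem hψ' hχ hψv
  set θ := χ.comp ((restr (sup_le_sup_left hPT X) ψ).codRestrict _ hψv) with hθ
  have h2 := F.comp_mem (show (X ⊔ P).subtype.comp e.symm.toMonoidHom ∈ F.Hom _ from he.symm)
    h1 fun z => (e.symm z).2
  obtain ⟨γ, hγ, hγe⟩ : ∃ γ ∈ F.Hom (restr hW χ).range, ∀ w : ↥(X ⊔ P), γ (e w) = θ w := by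
    refine ⟨_, h2, fun w => ?_⟩
    show θ ⟨((e.symm (e w) : ↥(X ⊔ P)) : Ω), _⟩ = θ w
    exact congrArg θ (Subtype.ext (congrArg Subtype.val (e.symm_apply_apply w)))
  have hθX : ∀ (z : X), θ ⟨z, Subgroup.mem_sup_left z.2⟩ = χ ⟨φ z, hCN (hφC z)⟩ := fun z =>
    congrArg χ (Subtype.ext (hψX z))
  have hθP : ∀ (z : P), θ ⟨z, Subgroup.mem_sup_right z.2⟩ = χ ⟨z, hPN z.2⟩ := fun z =>
    congrArg χ (Subtype.ext (hψT ⟨z, hPT z.2⟩))
  have himg : ∀ (c : Ω) (hc : c ∈ centralizerIn S T),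
      χ ⟨c, hCN hc⟩ ∈ centralizerIn S R := fun c hc => by
    refine ⟨map_mem_S F hχ _, Subgroup.mem_centralizer_iff.2 fun r hr => ?_⟩
    obtain ⟨w, hw, rfl⟩ := hχm.ge hr
    rw [← map_mul, ← map_mul]
    exact congrArg χ (Subtype.ext (Subgroup.mem_centralizer_iff.1 hc.2 _ (hPT hw)))
  obtain ⟨Z, hZdef⟩ : ∃ Z, Z = (restr hXN χ).range := ⟨_, rfl⟩
  have hZW : Z ≤ (restr hW χ).range := by
    rw [hZdef]
    rintro _ ⟨z, rfl⟩
    exact ⟨Subgroup.inclusion le_sup_left z, rfl⟩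
  have hRW : R ≤ (restr hW χ).range := fun r hr => by
    obtain ⟨w, hw, rfl⟩ := hχm.ge hr
    exact ⟨⟨w, Subgroup.mem_sup_right hw⟩, rfl⟩
  have hZC : Z ≤ centralizerIn S R := by
    rw [hZdef]
    rintro _ ⟨z, rfl⟩
    exact himg _ (hX z.2)
  have hmem : restr hZW γ ∈ F.centralizerHom R Z := by
    refine ⟨restr_mem F hZW hγ, hZC, fun z => ?_, restr (sup_le hZW hRW) γ,
      restr_mem F _ hγ, fun _ => rfl, fun r => ?_⟩
    · obtain ⟨zv, hzv⟩ := z
      obtain ⟨u, rfl⟩ : ∃ u : X, χ (Subgroup.inclusion hXN u) = zv := by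
        rw [hZdef] at hzv
        exact hzv
      have e1 : Subgroup.inclusion hZW ⟨χ (Subgroup.inclusion hXN u), hzv⟩ =
          e ⟨u, Subgroup.mem_sup_left u.2⟩ := Subtype.ext (hev ⟨u, Subgroup.mem_sup_left u.2⟩).symm
      rw [restr_apply, e1, hγe, hθX]
      exact himg _ (hφC u)
    · obtain ⟨rv, hrv⟩ := r
      obtain ⟨w, hw, rfl⟩ := hχm.ge hrv
      have e1 : Subgroup.inclusion (sup_le hZW hRW) (Subgroup.inclusion le_sup_right ⟨χ w, hrv⟩) =
          e ⟨w, Subgroup.mem_sup_right hw⟩ :=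
        Subtype.ext (hev ⟨w, Subgroup.mem_sup_right hw⟩).symm
      rw [restr_apply, e1, hγe, hθP ⟨w, hw⟩]
  have hxZ : χ (Subgroup.inclusion hXN x) ∈ Z := hZdef.symm ▸ ⟨x, rfl⟩
  have hd := disp_invariant hS hF (saturated_fullyNormalized hS hF hR).1 hA hAm hAo hmem
    ⟨_, hxZ⟩
  have e1 : Subgroup.inclusion hZW ⟨χ (Subgroup.inclusion hXN x), hxZ⟩ =
      e ⟨x, Subgroup.mem_sup_left x.2⟩ := Subtype.ext (hev ⟨x, Subgroup.mem_sup_left x.2⟩).symm
  rw [restr_apply, e1, hγe, hθX] at hd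
  change (χ ⟨φ x, hCN (hφC x)⟩)⁻¹ * autExt A (χ ⟨φ x, hCN (hφC x)⟩) =
    (χ (Subgroup.inclusion hXN x))⁻¹ * autExt A (χ (Subgroup.inclusion hXN x)) at hd
  set u := χ (Subgroup.inclusion hXN x)
  set v := χ ⟨φ x, hCN (hφC x)⟩
  have huC : u ∈ centralizerIn S R := himg _ (hX x.2)
  have hvC : v ∈ centralizerIn S R := himg _ (hφC x)
  have huU : u ∈ R ⊔ centralizerIn S R := Subgroup.mem_sup_right huC
  have hvU : v ∈ R ⊔ centralizerIn S R := Subgroup.mem_sup_right hvC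
  have hy : χ ⟨_, hN⟩ = u⁻¹ * v := by
    rw [← map_inv, ← map_mul]
    rfl
  have hmul : autExt A (u⁻¹ * v) = (autExt A u)⁻¹ * autExt A v := by
    rw [autExt_of_mem A huU, autExt_of_mem A hvU,
      autExt_of_mem A ((R ⊔ centralizerIn S R).mul_mem ((R ⊔ centralizerIn S R).inv_mem huU) hvU)]
    refine (?_ : _ = (((A ⟨u, huU⟩)⁻¹ * A ⟨v, hvU⟩ : ↥(R ⊔ centralizerIn S R)) : Ω))
    exact congrArg (fun z : ↥(R ⊔ centralizerIn S R) => (z : Ω))
      (((map_mul A ⟨u, huU⟩⁻¹ ⟨v, hvU⟩).trans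
        (congrArg (· * A ⟨v, hvU⟩) (map_inv A ⟨u, huU⟩))))
  have hr : u⁻¹ * autExt A u ∈ R := by
    rw [autExt_of_mem A huU]
    exact hAm ⟨u, huU⟩
  obtain ⟨d, hdv⟩ : ∃ d, d = u⁻¹ * autExt A u := ⟨_, rfl⟩
  rw [← hdv] at hd hr
  have hAu : autExt A u = u * d := by rw [hdv, mul_inv_cancel_left]
  have hAv : autExt A v = v * d := by rw [← hd, mul_inv_cancel_left]
  rw [hy, hmul, hAu, hAv]
  have hc : d * (u⁻¹ * v) = (u⁻¹ * v) * d := Subgroup.mem_centralizer_iff.1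
    ((centralizerIn S R).mul_mem ((centralizerIn S R).inv_mem huC) hvC).2 d hr
  calc (u * d)⁻¹ * (v * d) = d⁻¹ * ((u⁻¹ * v) * d) := by group
    _ = u⁻¹ * v := by rw [← hc, inv_mul_cancel_left]

/-- An automorphism with a good lift at a fully normalized conjugate centralizes the focal
subgroup of the centralizer system. -/
theorem mem_focalSys_of_lift (hS : IsPGroup p S) (hF : F.IsSaturated p) {E : FusionSystem T}
    {D : FusionSystem (centralizerIn S T)} (hD : F.IsCentralizerSystem T D)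
    (hE : E.IsInvariantIn F) {P R : Subgroup Ω} (hPT : P ≤ T) (hR : F.IsFullyNormalized R)
    {χ : ↥(normalizerIn S P) →* Ω} (hχ : χ ∈ F.Hom (normalizerIn S P))
    (hχm : (P.subgroupOf (normalizerIn S P)).map χ = R) {a : MulAut P} (ha : a ∈ E.autGroup P)
    (hord : Nat.Coprime (orderOf a) p)
    (hlift : ∀ f : P ≃* R, (∀ x : P, (f x : Ω) =
      χ ⟨x, le_normalizerIn (hPT.trans hE.2.1.1) x.2⟩) → MulAut.congr f a ∈ goodLift F R) :
    P.subtype.comp a.toMonoidHom ∈ F.centralizerHom D.focalSubgroup P := by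
  have hT' : T ≤ S := hE.2.1.1
  have hTS := hE.2.1.1
  have hPS : P ≤ S := hPT.trans hTS
  have hRS := hR.1
  set C := D.focalSubgroup with hCdef
  have hC : C ≤ centralizerIn S T := focal_le D
  have hPC : P ≤ centralizerIn S C := fun x hx =>
    ⟨hPS hx, Subgroup.mem_centralizer_iff.2 fun c hc =>
      (Subgroup.mem_centralizer_iff.1 (hC hc).2 x (hPT hx)).symm⟩
  have hCP : C ≤ centralizerIn S P := hC.trans (centralizerIn_antitone hPT)
  have hPN := le_normalizerIn (S := S) hPS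
  have hY : P ⊔ C ≤ normalizerIn S P := sup_le hPN (hCP.trans (centralizerIn_le_normalizerIn P))
  have hχP := restr_mem F hPN hχ
  have hrP : (restr hPN χ).range = R := by rw [range_restr, hχm]
  set f := toIso F hχP hrP
  set b := MulAut.congr f a with hbdef
  have hb := hlift f fun x => rfl
  have hUS : R ⊔ centralizerIn S R ≤ S := sup_le hRS (centralizerIn_le R)
  have hRfc := (saturated_fullyNormalized hS hF hR).1
  obtain ⟨A, hA, hAb, hAm, hAo⟩ := exists_coprime_lift (p := p) hb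
    (by rw [MulEquiv.orderOf_eq]; exact hord) hUS
  have hAh := autGroup_mem_hom F hUS hA
  -- images of elements centralizing `P`
  have himg : ∀ (c : Ω) (hc : c ∈ centralizerIn S P),
      χ ⟨c, centralizerIn_le_normalizerIn P hc⟩ ∈ centralizerIn S R := fun c hc => by
    refine ⟨map_mem_S F hχ _, Subgroup.mem_centralizer_iff.2 fun r hr => ?_⟩
    obtain ⟨x, hx, rfl⟩ := hχm.ge hr
    rw [← map_mul, ← map_mul]
    exact congrArg χ (Subtype.ext (Subgroup.mem_centralizer_iff.1 hc.2 _ hx))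
  -- the lift fixes the image of every generator
  have hfixgen : ∀ c (hc : c ∈ focGens D),
      autExt A (χ ⟨c, hY (Subgroup.mem_sup_right (Subgroup.subset_closure hc))⟩) =
        χ ⟨c, hY (Subgroup.mem_sup_right (Subgroup.subset_closure hc))⟩ := by
    rintro c ⟨X, φ, x, hφ, rfl⟩
    exact focGen_fixed hS hF hT' hPT hR hχ hχm hA hAm hAo hD hφ x _

  -- the lift fixes the whole image
  have hfix : ∀ y : ↥(normalizerIn S P), (y : Ω) ∈ C → autExt A (χ y) = χ y := by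
    rintro ⟨y, hyN⟩ hy
    have hy' : y ∈ C := hy
    induction hy' using Subgroup.closure_induction with
    | mem x hx => exact hfixgen x hx
    | one =>
      rw [show (⟨1, hyN⟩ : ↥(normalizerIn S P)) = 1 from rfl, map_one,
        autExt_of_mem A (Subgroup.one_mem _)]
      exact congrArg Subtype.val (map_one A)
    | mul u v hu hv ihu ihv =>
      have hu' : u ∈ C := hu
      have hv' : v ∈ C := hv
      have huN := hY (Subgroup.mem_sup_right hu')
      have hvN := hY (Subgroup.mem_sup_right hv')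
      have e : (⟨u * v, hyN⟩ : ↥(normalizerIn S P)) = ⟨u, huN⟩ * ⟨v, hvN⟩ := rfl
      have hu1 := ihu huN hu'
      have hv1 := ihv hvN hv'
      have hu2 : χ ⟨u, huN⟩ ∈ R ⊔ centralizerIn S R := Subgroup.mem_sup_right (himg u (hCP hu'))
      have hv2 : χ ⟨v, hvN⟩ ∈ R ⊔ centralizerIn S R := Subgroup.mem_sup_right (himg v (hCP hv'))
      rw [autExt_of_mem A hu2] at hu1
      rw [autExt_of_mem A hv2] at hv1
      rw [e, map_mul, autExt_of_mem A ((R ⊔ centralizerIn S R).mul_mem hu2 hv2)]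
      refine Eq.trans ?_ (congrArg₂ (· * ·) hu1 hv1)
      rw [← Subgroup.coe_mul, ← map_mul A]
      rfl
    | inv u hu ihu =>
      have hu' : u ∈ C := hu
      have huN := hY (Subgroup.mem_sup_right hu')
      have e : (⟨u⁻¹, hyN⟩ : ↥(normalizerIn S P)) = ⟨u, huN⟩⁻¹ := rfl
      have hu1 := ihu huN hu'
      have hu2 : χ ⟨u, huN⟩ ∈ R ⊔ centralizerIn S R := Subgroup.mem_sup_right (himg u (hCP hu'))
      rw [autExt_of_mem A hu2] at hu1
      rw [e, map_inv, autExt_of_mem A ((R ⊔ centralizerIn S R).inv_mem hu2)]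
      refine Eq.trans ?_ (congrArg (fun w => w⁻¹) hu1)
      rw [← Subgroup.coe_inv, ← map_inv A]
      rfl
  -- pull back
  have hχY := restr_mem F hY hχ
  have hYU : (restr hY χ).range ≤ R ⊔ centralizerIn S R := range_le_sup_of_le _
    (fun y hy => Subgroup.mem_sup_left (hχm.le ⟨⟨y, hY y.2⟩, hy, rfl⟩))
    (fun y hy => Subgroup.mem_sup_right (himg y (hCP hy)))
  have hAY := restr_mem F hYU hAh
  have : Finite ↥(P ⊔ C) := finite_of_le ‹_› (hY.trans (normalizerIn_le P))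
  have hv : ∀ y : ↥(P ⊔ C), restr hYU ((R ⊔ centralizerIn S R).subtype.comp A.toMonoidHom)
      ⟨restr hY χ y, y, rfl⟩ ∈ (restr hY χ).range := fun y => range_le_sup_of_le
    ((restr hYU ((R ⊔ centralizerIn S R).subtype.comp A.toMonoidHom)).comp
      ((restr hY χ).codRestrict _ fun y => ⟨y, rfl⟩))
    (fun y hy => by
      show (A ⟨χ ⟨y, _⟩, _⟩ : Ω) ∈ (restr hY χ).range
      have h1 : χ ⟨y, hY y.2⟩ ∈ R := hχm.le ⟨⟨y, hY y.2⟩, hy, rfl⟩
      obtain ⟨x, hx⟩ := f.surjective (b ⟨_, h1⟩)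
      exact ⟨⟨x, Subgroup.mem_sup_left x.2⟩,
        (congrArg Subtype.val hx).trans (hAb ⟨_, h1⟩).symm⟩)
    (fun y hy => by
      show (A ⟨χ ⟨y, _⟩, _⟩ : Ω) ∈ (restr hY χ).range
      exact ⟨y, ((autExt_of_mem A (hYU ⟨y, rfl⟩)).symm.trans (hfix ⟨y, hY y.2⟩ hy)).symm⟩) ⟨y, rfl⟩
  have hcomp := F.comp_mem (F.comp_mem hχY hAY fun y => ⟨y, rfl⟩)
    (toIso_isIso F hχY rfl).symm hv
  refine ⟨hE.1 P (autGroup_mem_hom E hPT ha), hPC, fun x => hPC (a x).2, _, hcomp, fun x => ?_,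
    fun c => ?_⟩
  · show (((toIso F hχY rfl).symm ⟨_, _⟩ : ↥(P ⊔ C)) : Ω) = a x
    have e : (toIso F hχY rfl).symm ⟨_, hv ⟨x, Subgroup.mem_sup_left x.2⟩⟩ =
        ⟨a x, Subgroup.mem_sup_left (a x).2⟩ := by
      rw [MulEquiv.symm_apply_eq]
      refine Subtype.ext ((hAb (f x)).trans ?_)
      rw [autCongr_apply, MulEquiv.symm_apply_apply]
      rfl
    exact congrArg Subtype.val e
  · show (((toIso F hχY rfl).symm ⟨_, _⟩ : ↥(P ⊔ C)) : Ω) = c
    have e : (toIso F hχY rfl).symm ⟨_, hv ⟨c, Subgroup.mem_sup_right c.2⟩⟩ =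
        ⟨c, Subgroup.mem_sup_right c.2⟩ := by
      rw [MulEquiv.symm_apply_eq]
      refine Subtype.ext ?_
      show (A ⟨χ ⟨c, _⟩, _⟩ : Ω) = χ ⟨c, _⟩
      exact (autExt_of_mem A (hYU ⟨⟨c, Subgroup.mem_sup_right c.2⟩, rfl⟩)).symm.trans
        (hfix ⟨c, hY (Subgroup.mem_sup_right c.2)⟩ c.2)
    exact congrArg Subtype.val e

/-- A normal subsystem lies in the centralizer system of that focal subgroup. -/
theorem centralizes_focal (hS : IsPGroup p S) (hF : F.IsSaturated p) {E : FusionSystem T}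
    {D : FusionSystem (centralizerIn S T)} (hD : F.IsCentralizerSystem T D)
    (hE : E.IsNormalIn F p) : Centralizes F E D.focalSubgroup := by
  obtain ⟨⟨hEs, -, hEi⟩, hext⟩ := hE
  have hT := hEi.2.1
  have hTS := hT.1
  have hTp := hS.to_le hTS
  have : Finite T := finite_of_le ‹_› hTS
  have hC := focal_le D
  have hTC : T ≤ centralizerIn S (D.focalSubgroup) := fun x hx =>
    ⟨hTS hx, Subgroup.mem_centralizer_iff.2 fun c hc =>
      (Subgroup.mem_centralizer_iff.1 (hC hc).2 x hx).symm⟩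
  set Cs := centSys F (D.focalSubgroup) (hC.trans (centralizerIn_le T))
  let U : FusionSystem T := subSystem E (fun P φ => φ ∈ Cs.Hom P)
    (fun hP hg => Cs.conj_mem (hP.trans hTC) (hTC hg))
    (fun _ _ a b h => Cs.comp_mem a b h)
    (fun {P φ} _ a ψ _ he => by
      obtain ⟨c, hc, hce⟩ := Cs.inv_mem a
      refine mem_hom_congr Cs hc ?_
      rintro ⟨_, x, rfl⟩
      rw [he, hce])
  suffices h : E ≤ U from fun P φ hφ => (h P hφ).2
  refine Cfsg.Agent.FusionBatch.le_of_centric_radical_step hTp hEs U fun P hPn hPc _ ih => ?_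
  have hPT := hPn.1
  have hPS := hPT.trans hTS
  have : Finite P := finite_of_le ‹_› hPS
  have hPtc := tCentric_of_centric hEi hPc
  have hEn := saturated_fullyNormalized hTp hEs hPn
  -- a fully normalized conjugate in `F`
  obtain ⟨R, hPR, hR⟩ := exists_fullyNormalized F hPS
  obtain ⟨χ, hχ, -, hχm⟩ := exists_normalizer_map_fullyNormalized hS hF hR hPR
  have hRc := tCentric_of_isConj hT hPtc hPR
  have hcop : ∀ a ∈ E.autGroup P, Nat.Coprime (orderOf a) p →
      (∀ f : P ≃* R, (∀ x : P, (f x : Ω) = χ ⟨x, le_normalizerIn hPS x.2⟩) →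
        MulAut.congr f a ∈ goodLift F R) → a ∈ U.autGroup P := fun a ha ho hl =>
    (mem_autGroup U hPT).2 ⟨autGroup_mem_hom E hPT ha,
      mem_focalSys_of_lift hS hF hD hEi hPT hR hχ hχm ha ho hl⟩
  have hTMU : autInducedBy T P ≤ U.autGroup P := autInducedBy_le_autGroup U hPT
  rcases hPT.eq_or_lt with hPeq | hlt
  · subst hPeq
    refine le_of_sylow_pprime (P := autInducedBy P P)
      ⟨autInducedBy_le_autGroup E le_rfl, hEn.2.2⟩ hTMU fun a ha ho => hcop a ha ho fun f hf => ?_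
    have hRP : R = P := by
      have : Finite P := ‹_›
      refine eq_of_le_of_card_le hRc.1 ?_
      rw [Nat.card_congr f.toEquiv]
    subst hRP
    have hfF : IsIso F f := mem_of_restricts F (le_normalizerIn hPS) hχ hf
    have hb := autCongr_mem_of_invariant hS hF hEi le_rfl hfF ha
    obtain ⟨β, hβ, hβT, hβC⟩ := hext _ hb
    refine ⟨β, hβ, hβT, fun y => ?_⟩
    obtain ⟨r, hr, c, hc, hy⟩ := exists_mul_of_mem_sup (T := R) (K := centralizerIn S R)
      (fun x hx b hb => Subgroup.mem_centralizer_iff.1 hb.2 x hx) y.2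
    have e : y = ⟨r, Subgroup.mem_sup_left hr⟩ * ⟨c, Subgroup.mem_sup_right hc⟩ := Subtype.ext hy
    have h1 : r⁻¹ * (β ⟨r, Subgroup.mem_sup_left hr⟩ : Ω) ∈ R :=
      R.mul_mem (R.inv_mem hr) ((hβT ⟨r, hr⟩).symm ▸ Subtype.mem _)
    have h2 := (hβC ⟨c, Subgroup.mem_sup_right hc⟩ hc).1
    rw [e, map_mul, Subgroup.coe_mul, Subgroup.coe_mul]
    have hcomm : c⁻¹ * (r⁻¹ * (β ⟨r, Subgroup.mem_sup_left hr⟩ : Ω)) =
        r⁻¹ * (β ⟨r, Subgroup.mem_sup_left hr⟩ : Ω) * c⁻¹ :=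
      (Subgroup.mem_centralizer_iff.1 ((Subgroup.centralizer _).inv_mem hc.2) _ h1).symm
    rw [show (r * c)⁻¹ * ((β ⟨r, Subgroup.mem_sup_left hr⟩ : Ω) *
      (β ⟨c, Subgroup.mem_sup_right hc⟩ : Ω)) = c⁻¹ * (r⁻¹ *
        (β ⟨r, Subgroup.mem_sup_left hr⟩ : Ω)) * (β ⟨c, Subgroup.mem_sup_right hc⟩ : Ω) by group,
      hcomm, mul_assoc]
    exact R.mul_mem h1 h2
  -- `O^{p'}` of the automizer
  set O := pElemGroup E p P
  have hnorm : ∀ g ∈ E.autGroup P, ∀ k ∈ O, g * k * g⁻¹ ∈ O := fun g hg k hk => by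
    have h := autCongr_mem_pElemGroup E ((mem_autGroup E hPT).1 hg) hk
    have e : MulAut.congr (g : P ≃* P) k = g * k * g⁻¹ := by
      ext x
      simp [MulAut.inv_def]
    rwa [e] at h
  have hle : autInducedBy T P ≤ O := fun c hc => by
    refine ⟨⟨c, autInducedBy_le_autGroup E hPT hc⟩, Subgroup.subset_closure ?_, rfl⟩
    obtain ⟨m, hm⟩ := isPGroup_autInducedBy hTp P ⟨c, hc⟩
    obtain ⟨j, -, hj⟩ :=
      (Nat.dvd_prime_pow (Fact.out : p.Prime)).1 (orderOf_dvd_of_pow_eq_one hm)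
    refine ⟨j, ?_⟩
    rw [Subgroup.orderOf_mk]
    rwa [Subgroup.orderOf_mk] at hj
  have hsyl : SylIn p (autInducedBy T P) O := by
    have h : SylIn p (autInducedBy T P) (E.autGroup P) :=
      ⟨autInducedBy_le_autGroup E hPT, hEn.2.2⟩
    have h2 := h.inf_normal (pElemGroup_le_autGroup E P) hnorm
    rwa [inf_eq_left.2 hle] at h2
  have hOU : O ≤ U.autGroup P := by
    refine le_of_sylow_pprime hsyl hTMU fun a ha ho =>
      hcop a (pElemGroup_le_autGroup E P ha) ho fun f hf => ?_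
    have hfF : IsIso F f := mem_of_restricts F (le_normalizerIn hPS) hχ hf
    refine pElem_le_goodLift hS hF hEi hEs hR hRc ?_
    have : pElemGroup E p P ≤ (pElemGroup E p R).comap (MulAut.congr f).toMonoidHom := by
      rw [pElemGroup, Subgroup.map_le_iff_le_comap, Subgroup.closure_le]
      rintro a ⟨k, hk⟩
      refine ⟨⟨_, autCongr_mem_of_invariant hS hF hEi hPT hfF a.2⟩,
        Subgroup.subset_closure ⟨k, ?_⟩, rfl⟩
      rw [Subgroup.orderOf_mk, ← hk, ← Subgroup.orderOf_coe a]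
      exact MulEquiv.orderOf_eq (MulAut.congr f) _
    exact this ha
  intro a ha
  obtain ⟨k, hk, hka⟩ := hsyl.frattini (hnorm a ha)
  have hN := normalizerIn_le (S := T) P
  obtain ⟨ψ, hψ, hψe⟩ := exists_ext_aut' (saturated_fullyCentralized hTp hEs hEn.1)
    (mul_mem (pElemGroup_le_autGroup E P hk) ha) (le_normalizerIn hPT) le_rfl
    fun g hg => ⟨⟨g, hg.2⟩, hka _ (mem_autInducedBy.2 ⟨g, hg.1, fun _ => rfl⟩), rfl⟩
  have hψU := ih _ hN (card_lt_of_lt hN (lt_normalizerIn hTp hlt)) hψ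
  have h1 : k * a ∈ U.autGroup P := (mem_autGroup U hPT).2
    (mem_of_restricts U (le_normalizerIn hPT) hψU fun x => (hψe x).symm)
  have := mul_mem ((U.autGroup P).inv_mem (hOU hk)) h1
  rwa [inv_mul_cancel_left] at this


end Cfsg.Agent.Tech.CentFocal
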