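import Cfsg.Agent.Tech.MeetLocal
import Cfsg.Agent.FusionAlperin.NormalMoves
import Cfsg.Agent.FusionAux.ModStronglyClosed

/-!
Maps of a normal subsystem `L` over `T` move a strongly closed subgroup `W` only inside `T ⊓ W`,
when `T ⊓ W` is central in `L` and in `W`.
-/

set_option autoImplicit false

open Cfsg Cfsg.FusionSystem
open Cfsg.Agent.FusionSys Cfsg.Agent.FusionAlperin

namespace Cfsg.Agent.Tech.Commuting

open Cfsg.Agent.Tech.Meet (pow_card_eq_one_of_stab pElem_fix_inner lift_receptive isPGroup_zpowers)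

universe u

variable {Ω : Type u} [Group Ω] {S : Subgroup Ω} {p : ℕ} [Finite S] [Fact p.Prime]
  {F : FusionSystem S}

/-- Automorphisms of `U ≥ R` trivial modulo `R`, trivial on `R₀` and on `R / R₀`. -/
def stabGroup (U R R₀ : Subgroup Ω) (F : FusionSystem S) : Subgroup (MulAut U) where
  carrier := {g | g ∈ F.autGroup U ∧ (∀ y : U, (y : Ω)⁻¹ * (g y : Ω) ∈ R) ∧
    (∀ y : U, (y : Ω) ∈ R₀ → g y = y) ∧
    ∀ y : U, (y : Ω) ∈ R → (y : Ω)⁻¹ * (g y : Ω) ∈ R₀}
  one_mem' := ⟨one_mem _, fun y => by simp, fun y _ => rfl, fun y _ => by simp⟩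
  mul_mem' := by
    rintro a b ⟨ha, ha1, ha2, ha3⟩ ⟨hb, hb1, hb2, hb3⟩
    have key : ∀ (A : Subgroup Ω) (y : U), (y : Ω)⁻¹ * (b y : Ω) ∈ A →
        (b y : Ω)⁻¹ * (a (b y) : Ω) ∈ A → (y : Ω)⁻¹ * ((a * b) y : Ω) ∈ A := by
      intro A y h1 h2
      have := A.mul_mem h1 h2
      simpa [mul_assoc] using this
    refine ⟨mul_mem ha hb, fun y => key R y (hb1 y) (ha1 _), fun y hy => ?_, fun y hy => ?_⟩
    · rw [MulAut.mul_apply, hb2 y hy, ha2 y hy]
    · refine key R₀ y (hb3 y hy) (ha3 _ ?_)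
      have := R.mul_mem hy (hb1 y)
      simpa using this
  inv_mem' := by
    rintro a ⟨ha, ha1, ha2, ha3⟩
    refine ⟨(F.autGroup U).inv_mem ha, fun y => ?_, fun y hy => ?_, fun y hy => ?_⟩
    · have h := R.inv_mem (ha1 (a.symm y))
      simpa using h
    · exact a.symm_apply_eq.2 (ha2 y hy).symm
    · have hsy : (a.symm y : Ω) ∈ R := by
        have h := R.mul_mem hy (R.inv_mem (ha1 (a.symm y)))
        simpa using h
      have h := R₀.inv_mem (ha3 (a.symm y) hsy)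
      simpa using h

theorem isPGroup_stabGroup (hS : IsPGroup p S) {U R R₀ : Subgroup Ω} (hUS : U ≤ S) (hRU : R ≤ U) :
    IsPGroup p (stabGroup U R R₀ F) := by
  have : Finite U := finite_of_le ‹_› hUS
  have hUp := hS.to_le hUS
  rintro ⟨g, hg, hg1, hg2, hg3⟩
  obtain ⟨k, hk⟩ := (hUp.to_subgroup (R.subgroupOf U)).exists_card_eq
  -- a power fixes `R`
  have hgR : ∀ y : U, (y : Ω) ∈ R → (g y : Ω) ∈ R := fun y hy => by
    have := R.mul_mem hy (hg1 y)
    simpa using this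
  obtain ⟨i, hi⟩ := (hUp.to_subgroup (R₀.subgroupOf U)).exists_card_eq
  have h1 : ∀ y : U, (y : Ω) ∈ R → (g ^ p ^ i) y = y := fun y hy => by
    rw [← hi]
    refine iterate_eq_of_stab g (B := R₀.subgroupOf U) (fun z hz => hg2 z hz) ?_
    rw [Subgroup.mem_subgroupOf]
    exact hg3 y hy
  have h2 : ∀ (n : ℕ) (y : U), (y : Ω)⁻¹ * ((g ^ n) y : Ω) ∈ R := by
    intro n
    induction n with
    | zero => intro y; simp
    | succ n ih =>
      intro y
      have := R.mul_mem (ih y) (hg1 ((g ^ n) y))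
      rw [pow_succ', MulAut.mul_apply]
      simpa [mul_assoc] using this
  refine ⟨i + k, Subtype.ext ?_⟩
  show g ^ p ^ (i + k) = 1
  rw [pow_add, pow_mul, ← hk]
  refine pow_card_eq_one_of_stab _ (B := R.subgroupOf U)
    (fun z hz => h1 z (Subgroup.mem_subgroupOf.1 hz)) fun y => ?_
  rw [Subgroup.mem_subgroupOf]
  exact h2 _ y

/-- For fully normalized `R` the stabilizing automorphisms of `R C_S(R)` are induced by `S`. -/
theorem stabGroup_le (hS : IsPGroup p S) (hF : F.IsSaturated p) {R R₀ : Subgroup Ω}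
    (hR : F.IsFullyNormalized R) (hsc : F.StronglyClosed R₀) :
    stabGroup (R ⊔ centralizerIn S R) R R₀ F ≤ autInducedBy S (R ⊔ centralizerIn S R) := by
  set C := centralizerIn S R
  set U := R ⊔ C
  have hUS : U ≤ S := sup_le hR.1 (centralizerIn_le R)
  have hRU : R ≤ U := le_sup_left
  have : Finite U := finite_of_le ‹_› hUS
  have : Finite R := finite_of_le ‹_› hR.1
  intro g hg
  obtain ⟨hgF, hg1, hg2, hg3⟩ := hg
  have hh := restr_mem F hRU (autGroup_mem_hom F hUS hgF)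
  have hr : (restr hRU (U.subtype.comp g.toMonoidHom)).range = R :=
    range_eq_of_image_le (F.injective_of_mem hh) (by
      rintro _ ⟨x, rfl⟩
      show (g (Subgroup.inclusion hRU x) : Ω) ∈ R
      have := R.mul_mem x.2 (hg1 (Subgroup.inclusion hRU x))
      simpa using this) le_rfl
  set gR : MulAut R := toIso F hh hr
  have hgR : gR ∈ stabGroup R R R₀ F :=
    ⟨toIso_mem_autGroup F hh hr, fun y => R.mul_mem (R.inv_mem y.2) (gR y).2,
      fun y hy => Subtype.ext (congrArg Subtype.val (hg2 (Subgroup.inclusion hRU y) hy) :),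
      fun y _ => hg3 (Subgroup.inclusion hRU y) y.2⟩
  have hn : ((stabGroup R R R₀ F).subgroupOf (F.autGroup R)).Normal := by
    refine ⟨fun a ha b => ?_⟩
    rw [Subgroup.mem_subgroupOf] at ha ⊢
    obtain ⟨ha1, -, ha3, ha4⟩ := ha
    have hb := autGroup_mem_hom F hR.1 b.2
    have hbi := autGroup_mem_hom F hR.1 ((F.autGroup R).inv_mem b.2)
    refine ⟨mul_mem (mul_mem b.2 ha1) ((F.autGroup R).inv_mem b.2),
      fun y => R.mul_mem (R.inv_mem y.2) (Subtype.mem _), fun y hy => ?_, fun y _ => ?_⟩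
    · have h2 := ha3 ((b : MulAut R).symm y) (sc_map_mem hsc hbi (x := y) hy)
      show (b : MulAut R) ((a : MulAut R) ((b : MulAut R).symm y)) = y
      rw [h2, MulEquiv.apply_symm_apply]
    · obtain ⟨z, rfl⟩ := (b : MulAut R).surjective y
      show ((b : MulAut R) z : Ω)⁻¹ *
        ((b : MulAut R) ((a : MulAut R) ((b : MulAut R).symm ((b : MulAut R) z))) : Ω) ∈ R₀
      rw [MulEquiv.symm_apply_apply, ← Subgroup.coe_inv, ← Subgroup.coe_mul, ← map_inv, ← map_mul]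
      exact sc_map_mem hsc hb (x := z⁻¹ * (a : MulAut R) z) (ha4 z z.2)
  have hp : IsPGroup p ((stabGroup R R R₀ F).subgroupOf (F.autGroup R)) :=
    (isPGroup_stabGroup hS hR.1 le_rfl).of_equiv
      (Subgroup.subgroupOfEquivOfLe (fun a ha => ha.1 : stabGroup R R R₀ F ≤ F.autGroup R)).symm
  obtain ⟨-, Q, hQ⟩ := (saturated_fullyNormalized hS hF hR).2
  have hmem : (⟨gR, hgR.1⟩ : F.autGroup R) ∈ (Q : Subgroup (F.autGroup R)) :=
    hp.le_sylow_of_normal Q hgR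
  rw [hQ] at hmem
  obtain ⟨s, hs, hse⟩ := mem_autInducedBy.1 hmem
  have hsN : s ∈ Subgroup.normalizer (R : Set Ω) := mem_normalizer_of_conj_eq _ hse
  have hsU : s ∈ Subgroup.normalizer (U : Set Ω) := by
    have key : ∀ s ∈ S, s ∈ Subgroup.normalizer (R : Set Ω) →
        U ≤ U.comap (MulAut.conj s).toMonoidHom := by
      intro s hs hsN
      refine sup_le (fun x hx => Subgroup.mem_sup_left ((Subgroup.mem_normalizer_iff.1 hsN x).1 hx))
        fun c hc => Subgroup.mem_sup_right ⟨S.mul_mem (S.mul_mem hs hc.1) (S.inv_mem hs),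
          Subgroup.mem_centralizer_iff.2 fun r hr => ?_⟩
      have h1 := (Subgroup.mem_normalizer_iff.1 ((Subgroup.normalizer _).inv_mem hsN) r).1 hr
      rw [inv_inv] at h1
      have h2 := Subgroup.mem_centralizer_iff.1 hc.2 _ h1
      show r * (s * c * s⁻¹) = s * c * s⁻¹ * r
      calc r * (s * c * s⁻¹) = s * ((s⁻¹ * r * s) * c) * s⁻¹ := by group
        _ = s * c * s⁻¹ * r := by rw [h2]; group
    refine Subgroup.mem_normalizer_iff.2 fun x => ⟨fun hx => key s hs hsN hx, fun hx => ?_⟩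
    have h := key s⁻¹ (S.inv_mem hs) ((Subgroup.normalizer _).inv_mem hsN) hx
    simpa [mul_assoc] using h
  set cs : MulAut U := U.normalizerMonoidHom ⟨s, hsU⟩
  have hcs : cs ∈ F.autGroup U :=
    autInducedBy_le_autGroup F hUS (mem_autInducedBy.2 ⟨s, hs, fun _ => rfl⟩)
  have hcsR : ∀ y : U, (y : Ω) ∈ R → cs y = g y := fun y hy =>
    Subtype.ext ((hse ⟨y, hy⟩).symm)
  have hN0 : ∀ a ∈ stabGroup U R R₀ F, ∀ b ∈ F.autGroup U, (∀ y : U, (y : Ω) ∈ R →
      (b y : Ω) ∈ R) → (∀ y : U, (y : Ω) ∈ R₀ → (b y : Ω) ∈ R₀) →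
      (∀ y : U, (b y : Ω) ∈ R → (y : Ω) ∈ R) → (∀ y : U, (b y : Ω) ∈ R₀ → (y : Ω) ∈ R₀) →
      b * a * b⁻¹ ∈ stabGroup U R R₀ F := by
    rintro a ⟨haF, ha1, ha2, ha3⟩ b hb hb1 hb2 hb1' hb2'
    refine ⟨mul_mem (mul_mem hb haF) ((F.autGroup U).inv_mem hb), fun y => ?_, fun y hy => ?_,
      fun y hy => ?_⟩ <;> obtain ⟨z, rfl⟩ := b.surjective y
    · show (b z : Ω)⁻¹ * (b (a (b.symm (b z))) : Ω) ∈ R
      rw [MulEquiv.symm_apply_apply, ← Subgroup.coe_inv, ← Subgroup.coe_mul, ← map_inv, ← map_mul]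
      exact hb1 _ (ha1 z)
    · show b (a (b.symm (b z))) = b z
      rw [MulEquiv.symm_apply_apply, ha2 z (hb2' z hy)]
    · show (b z : Ω)⁻¹ * (b (a (b.symm (b z))) : Ω) ∈ R₀
      rw [MulEquiv.symm_apply_apply, ← Subgroup.coe_inv, ← Subgroup.coe_mul, ← map_inv, ← map_mul]
      exact hb2 _ (ha3 z (hb1' z hy))
  have hnorm : Subgroup.zpowers cs ≤
      Subgroup.normalizer (stabGroup U R R₀ F : Set (MulAut U)) := by
    have hb : ∀ t ∈ S, ∀ ht : t ∈ Subgroup.normalizer (U : Set Ω),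
        t ∈ Subgroup.normalizer (R : Set Ω) → ∀ a ∈ stabGroup U R R₀ F,
        U.normalizerMonoidHom ⟨t, ht⟩ * a * (U.normalizerMonoidHom ⟨t, ht⟩)⁻¹ ∈
          stabGroup U R R₀ F := by
      intro t ht htU htR a ha
      exact hN0 a ha _
        (autInducedBy_le_autGroup F hUS (mem_autInducedBy.2 ⟨t, ht, fun _ => rfl⟩))
        (fun y hy => (Subgroup.mem_normalizer_iff.1 htR _).1 hy)
        (fun y hy => sc_conj_mem hsc ht hy)
        (fun y hy => (Subgroup.mem_normalizer_iff.1 htR _).2 hy)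
        (fun y hy => (Subgroup.mem_normalizer_iff.1 (sc_le_normalizer hsc ht) _).2 hy)
    rw [Subgroup.zpowers_le, Subgroup.mem_normalizer_iff]
    refine fun a => ⟨hb s hs hsU hsN a, fun ha => ?_⟩
    have h := hb s⁻¹ (S.inv_mem hs) ((Subgroup.normalizer _).inv_mem hsU)
      ((Subgroup.normalizer _).inv_mem hsN) _ ha
    have e : U.normalizerMonoidHom ⟨s⁻¹, (Subgroup.normalizer _).inv_mem hsU⟩ = cs⁻¹ := by
      rw [← map_inv]
      rfl
    rw [e] at h
    simpa [mul_assoc] using h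
  have hPi : IsPGroup p ↥(Subgroup.zpowers cs ⊔ stabGroup U R R₀ F) := by
    refine IsPGroup.to_sup_of_normal_right' ?_ (isPGroup_stabGroup hS hUS hRU) hnorm
    exact (isPGroup_autInducedBy hS U).to_le
      ((Subgroup.zpowers_le).2 (mem_autInducedBy.2 ⟨s, hs, fun _ => rfl⟩))
  have hd : cs⁻¹ * g ∈ Subgroup.zpowers cs ⊔ stabGroup U R R₀ F :=
    Subgroup.mul_mem _
      (Subgroup.mem_sup_left ((Subgroup.zpowers cs).inv_mem (Subgroup.mem_zpowers cs)))
      (Subgroup.mem_sup_right ⟨hgF, hg1, hg2, hg3⟩)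
  obtain ⟨k, hk⟩ := hPi ⟨_, hd⟩
  have hfix : ∀ x : U, (x : Ω) ∈ R → (cs⁻¹ * g) x = x := fun x hx => by
    rw [MulAut.mul_apply, MulAut.inv_def, MulEquiv.symm_apply_eq, hcsR x hx]
  obtain ⟨v, hv, hve⟩ := pElem_fix_inner hS hF (saturated_fullyNormalized hS hF hR).1
    (mul_mem ((F.autGroup U).inv_mem hcs) hgF) hfix (congrArg Subtype.val hk :)
  refine mem_autInducedBy.2 ⟨s * v, S.mul_mem hs hv.1, fun y => ?_⟩
  have h : (cs (((cs⁻¹ * g) y)) : Ω) = s * (v * y * v⁻¹) * s⁻¹ := by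
    show s * ((cs⁻¹ * g) y : Ω) * s⁻¹ = _
    rw [hve]
  rw [MulAut.mul_apply, MulAut.inv_def, MulEquiv.apply_symm_apply] at h
  rw [h]
  group

/-- A good lift extends to a strongly closed subgroup acting trivially modulo a central section. -/
theorem exists_ext_fn (hS : IsPGroup p S) (hF : F.IsSaturated p) {W R R₀ : Subgroup Ω}
    (hW : F.StronglyClosed W) (hsc : F.StronglyClosed R₀) (hR : F.IsFullyNormalized R)
    (hR₀ : R₀ ≤ R) (hWR₀ : ∀ w ∈ W, ∀ r ∈ R₀, w * r = r * w)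
    (hcomm : ∀ w ∈ W, ∀ r ∈ R, r⁻¹ * (w * r * w⁻¹) ∈ R₀)
    (A : MulAut ↥(R ⊔ centralizerIn S R)) :
    A ∈ F.autGroup (R ⊔ centralizerIn S R) →
    (∀ y : ↥(R ⊔ centralizerIn S R), (y : Ω)⁻¹ * (A y : Ω) ∈ R) →
    ∃ ψ ∈ F.Hom ((R ⊔ centralizerIn S R) ⊔ W),
      ∀ y : ↥(R ⊔ centralizerIn S R), ψ (Subgroup.inclusion le_sup_left y) = A y := by
  revert A
  set C := centralizerIn S R
  set U := R ⊔ C
  intro A hA hAm
  have hUS : U ≤ S := sup_le hR.1 (centralizerIn_le R)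
  have : Finite U := finite_of_le ‹_› hUS
  have hWS := hW.1
  have hAF := autGroup_mem_hom F hUS hA
  have hA0 : ∀ y : U, (A y : Ω) ∈ R₀ ↔ (y : Ω) ∈ R₀ := fun y => sc_map_mem_iff hsc hAF y
  have hAR : ∀ y : U, (A y : Ω) ∈ R ↔ (y : Ω) ∈ R := fun y => by
    constructor <;> intro h
    · have := R.mul_mem h (R.inv_mem (hAm y))
      simpa using this
    · have := R.mul_mem h (hAm y)
      simpa using this
  have hwR : ∀ w ∈ W, ∀ r ∈ R, w * r * w⁻¹ ∈ R := fun w hw r hr => by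
    have := R.mul_mem hr (hR₀ (hcomm w hw r hr))
    simpa using this
  have hwC : ∀ w ∈ W, ∀ c ∈ C, w * c * w⁻¹ ∈ C := fun w hw c hc => by
    refine ⟨S.mul_mem (S.mul_mem (hWS hw) hc.1) (S.inv_mem (hWS hw)),
      Subgroup.mem_centralizer_iff.2 fun r hr => ?_⟩
    have h1 := hwR _ (W.inv_mem hw) r hr
    rw [inv_inv] at h1
    have h2 := Subgroup.mem_centralizer_iff.1 hc.2 _ h1
    calc r * (w * c * w⁻¹) = w * ((w⁻¹ * r * w) * c) * w⁻¹ := by group
      _ = w * c * w⁻¹ * r := by rw [h2]; group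
  have hwU : ∀ w ∈ W, w ∈ Subgroup.normalizer (U : Set Ω) := by
    intro w hw
    have key : ∀ w ∈ W, U ≤ U.comap (MulAut.conj w).toMonoidHom := fun w hw =>
      sup_le (fun x hx => Subgroup.mem_sup_left (hwR w hw x hx))
        fun c hc => Subgroup.mem_sup_right (hwC w hw c hc)
    refine Subgroup.mem_normalizer_iff.2 fun x => ⟨fun hx => key w hw hx, fun hx => ?_⟩
    have h := key w⁻¹ (W.inv_mem hw) hx
    simpa [mul_assoc] using h
  set φ := U.subtype.comp A.toMonoidHom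
  have hlift : U ⊔ W ≤ extender S U φ := by
    refine sup_le (le_extender hUS fun x => hUS (A x).2) fun w hw => ?_
    set cw : MulAut U := U.normalizerMonoidHom ⟨w, hwU w hw⟩
    have hcwF : cw ∈ F.autGroup U :=
      autInducedBy_le_autGroup F hUS (mem_autInducedBy.2 ⟨w, hWS hw, fun _ => rfl⟩)
    have hcwR : ∀ y : U, (cw y : Ω) ∈ R ↔ (y : Ω) ∈ R := fun y =>
      ⟨fun h => by
        have h1 := hwR _ (W.inv_mem hw) _ h
        have e : w⁻¹ * (w * (y : Ω) * w⁻¹) * w⁻¹⁻¹ = y := by group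
        rwa [show (cw y : Ω) = w * (y : Ω) * w⁻¹ from rfl, e] at h1,
      fun h => hwR w hw _ h⟩
    have hcw0 : ∀ y : U, (y : Ω) ∈ R₀ → cw y = y := fun y hy => Subtype.ext (by
      show w * (y : Ω) * w⁻¹ = y
      rw [hWR₀ w hw _ hy, mul_inv_cancel_right])
    have hcwd : ∀ y : U, (y : Ω) ∈ R → (y : Ω)⁻¹ * (cw y : Ω) ∈ R₀ := fun y hy => hcomm w hw _ hy
    have hmem : A * cw * A⁻¹ * cw⁻¹ ∈ stabGroup U R R₀ F := by
      refine ⟨mul_mem (mul_mem (mul_mem hA hcwF) ((F.autGroup U).inv_mem hA))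
        ((F.autGroup U).inv_mem hcwF), fun y => ?_, fun y hy => ?_, fun y hy => ?_⟩
      · obtain ⟨z, rfl⟩ := (cw * A).surjective y
        show ((cw * A) z : Ω)⁻¹ * (A (cw (A.symm (cw.symm (cw (A z))))) : Ω) ∈ R
        rw [MulEquiv.symm_apply_apply, MulEquiv.symm_apply_apply]
        have h1 : ((cw * A) z : Ω)⁻¹ * (cw z : Ω) ∈ R := by
          rw [MulAut.mul_apply, ← Subgroup.coe_inv, ← Subgroup.coe_mul, ← map_inv, ← map_mul]
          refine (hcwR _).2 ?_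
          have := R.inv_mem (hAm z)
          simpa using this
        have := R.mul_mem h1 (hAm (cw z))
        simpa [mul_assoc] using this
      · have hy' : ((A⁻¹ : MulAut U) y : Ω) ∈ R₀ := by
          rw [← hA0, MulAut.inv_def, MulEquiv.apply_symm_apply]
          exact hy
        have e1 : cw⁻¹ y = y := cw.symm_apply_eq.2 (hcw0 y hy).symm
        rw [MulAut.mul_apply, MulAut.mul_apply, MulAut.mul_apply, e1, hcw0 _ hy',
          MulAut.inv_def, MulEquiv.apply_symm_apply]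
      · obtain ⟨z, rfl⟩ := (cw * A).surjective y
        rw [MulAut.mul_apply] at hy ⊢
        have hAz : (A z : Ω) ∈ R := (hcwR _).1 hy
        have hz : (z : Ω) ∈ R := (hAR z).1 hAz
        show (cw (A z) : Ω)⁻¹ * (A (cw (A.symm (cw.symm (cw (A z))))) : Ω) ∈ R₀
        rw [MulEquiv.symm_apply_apply, MulEquiv.symm_apply_apply]
        have h1 : (A z : Ω)⁻¹ * (A (cw z) : Ω) ∈ R₀ := by
          rw [← Subgroup.coe_inv, ← Subgroup.coe_mul, ← map_inv, ← map_mul]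
          exact (hA0 _).2 (hcwd z hz)
        have := R₀.mul_mem (R₀.inv_mem (hcwd _ hAz)) h1
        simpa [mul_assoc] using this
    obtain ⟨t, ht, hte⟩ := mem_autInducedBy.1 (stabGroup_le hS hF hR hsc hmem)
    refine mem_extender.2 ⟨hWS hw, hwU w hw, t * w, S.mul_mem ht (hWS hw), fun x hx => ?_⟩
    have h := hte (cw (A x))
    rw [MulAut.mul_apply, MulAut.mul_apply, MulAut.mul_apply, MulAut.inv_def, MulAut.inv_def,
      MulEquiv.symm_apply_apply, MulEquiv.symm_apply_apply] at h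
    show (A ⟨w * x * w⁻¹, _⟩ : Ω) = t * w * (A x : Ω) * (t * w)⁻¹
    refine Eq.trans ?_ (h.trans (show t * (w * (A x : Ω) * w⁻¹) * t⁻¹ = _ by group))
    rfl
  have hr : φ.range = U := range_subtype_comp A
  obtain ⟨ψ, hψ, hψe, -, -⟩ :=
    receptive_extend (lift_receptive hS hF (saturated_fullyNormalized hS hF hR).1) hAF hr
  exact ⟨restr hlift ψ, restr_mem F hlift hψ, fun y => hψe y⟩

variable {T : Subgroup Ω}

/-- A `p'`-automorphism with a good lift moves `W` inside `T ⊓ W`. -/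
theorem moves_of_lift_sc (hS : IsPGroup p S) {E : FusionSystem T}
    (hF : F.IsSaturated p) (hE : E.IsInvariantIn F) {W : Subgroup Ω} (hQsc : F.StronglyClosed W)
    (hWR : ∀ w ∈ W, ∀ r ∈ T ⊓ W, w * r = r * w)
    {P R : Subgroup Ω} (hPc : E.IsCentric P) (hPr : E.IsRadical p P) (hRP : T ⊓ W ≤ P)
    (hR : F.IsFullyNormalized R)
    (hfix0 : ∀ d ∈ E.autGroup P, ∀ z : P, (z : Ω) ∈ T ⊓ W → d z = z)
    {χ : ↥(normalizerIn S P) →* Ω} (hχ : χ ∈ F.Hom (normalizerIn S P))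
    (hχm : (P.subgroupOf (normalizerIn S P)).map χ = R) {a : MulAut P} (ha : a ∈ E.autGroup P)
    (hord : Nat.Coprime (orderOf a) p)
    (hlift : ∀ f : P ≃* R, (∀ x : P, (f x : Ω) =
      χ ⟨x, le_normalizerIn (hPc.1.trans hE.2.1.1) x.2⟩) → MulAut.congr f a ∈ goodLift F R) :
    ∃ ψ ∈ F.Hom (P ⊔ W), (∀ x : P, ψ (Subgroup.inclusion le_sup_left x) = a x) ∧
      ∀ (q : Ω) (hq : q ∈ W), q⁻¹ * ψ ⟨q, Subgroup.mem_sup_right hq⟩ ∈ T ⊓ W := by
  have hT := hE.2.1
  have hPT := hPc.1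
  have hPS : P ≤ S := hPT.trans hT.1
  have hQS := hQsc.1
  have hRS := hR.1
  have : Finite P := finite_of_le ‹_› hPS
  have hPN := le_normalizerIn (S := S) hPS
  have hχP := restr_mem F hPN hχ
  have hrP : (restr hPN χ).range = R := by rw [range_restr, hχm]
  set f := toIso F hχP hrP
  obtain ⟨A, hA, hAb, hAm⟩ := hlift f fun x => rfl
  set C := centralizerIn S P
  have hU : P ⊔ C ≤ normalizerIn S P := sup_le hPN (centralizerIn_le_normalizerIn P)
  have hUS : P ⊔ C ≤ S := hU.trans (normalizerIn_le P)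
  have : Finite ↥(P ⊔ C) := finite_of_le ‹_› hUS
  have hU'S : R ⊔ centralizerIn S R ≤ S := sup_le hRS (centralizerIn_le R)
  have hv : ∀ y, restr hU χ y ∈ R ⊔ centralizerIn S R := fun y => range_le_sup_of_le (restr hU χ)
    (fun x hx => Subgroup.mem_sup_left (hχm.le ⟨⟨x, hPN hx⟩, hx, rfl⟩))
    (fun x hx => Subgroup.mem_sup_right (T := centralizerIn S R)
      (show _ ∈ S ⊓ Subgroup.centralizer (R : Set Ω) from ⟨map_mem_S F hχ _,
      Subgroup.mem_centralizer_iff.2 fun r hr => by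
        obtain ⟨z, hz, rfl⟩ := hχm.ge hr
        rw [restr_apply, ← map_mul, ← map_mul]
        exact congrArg χ (Subtype.ext (Subgroup.mem_centralizer_iff.1 hx.2 _ hz))⟩)) ⟨y, rfl⟩
  have hχU := restr_mem F hU hχ
  set g := toIso F hχU rfl
  have hRg : R ≤ (restr hU χ).range := fun r hr => by
    obtain ⟨z, hz, rfl⟩ := hχm.ge hr
    exact ⟨⟨z, Subgroup.mem_sup_left hz⟩, rfl⟩
  have hle : (restr hU χ).range ≤ R ⊔ centralizerIn S R := by
    rintro _ ⟨y, rfl⟩
    exact hv y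
  have : Finite ↥(restr hU χ).range := finite_of_le ‹_› (range_le_S F hχU)
  have hAr := restr_mem F hle (autGroup_mem_hom F hU'S hA)
  have hArr : (restr hle ((R ⊔ centralizerIn S R).subtype.comp A.toMonoidHom)).range =
      (restr hU χ).range := range_eq_of_image_le (F.injective_of_mem hAr) (by
    rintro _ ⟨y, rfl⟩
    have := (restr hU χ).range.mul_mem y.2 (hRg (hAm (Subgroup.inclusion hle y)))
    simpa using this) le_rfl
  set A₁ := MulAut.congr g.symm (toIso F hAr hArr)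
  have hA₁ : A₁ ∈ F.autGroup (P ⊔ C) :=
    autCongr_mem F (toIso_isIso F hχU rfl).symm (toIso_mem_autGroup F hAr hArr)
  have hA₁P : ∀ x : P, (A₁ (Subgroup.inclusion le_sup_left x) : Ω) = a x := by
    intro x
    have h1 : (toIso F hAr hArr (g (Subgroup.inclusion le_sup_left x)) : Ω) =
        (g (Subgroup.inclusion le_sup_left (a x)) : Ω) := by
      refine Eq.trans (congrArg (fun w => ((A w : ↥(R ⊔ centralizerIn S R)) : Ω))
        (Subtype.ext rfl : _ = (⟨(f x : Ω), Subgroup.mem_sup_left (f x).2⟩ :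
          ↥(R ⊔ centralizerIn S R)))) ((hAb (f x)).trans ?_)
      rw [autCongr_apply, MulEquiv.symm_apply_apply]
      rfl
    have h2 := congrArg g.symm (Subtype.ext h1)
    rw [MulEquiv.symm_apply_apply] at h2
    show ((g.symm (toIso F hAr hArr (g.symm.symm _)) : ↥(P ⊔ C)) : Ω) = _
    rw [MulEquiv.symm_symm, h2]
    rfl
  have hA₁m : ∀ y : ↥(P ⊔ C), (y : Ω)⁻¹ * (A₁ y : Ω) ∈ P := by
    intro y
    obtain ⟨z, hz, hze⟩ := hχm.ge (hAm (Subgroup.inclusion hle (g y)))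
    have h2 : g (y⁻¹ * A₁ y) = g ⟨(z : Ω), Subgroup.mem_sup_left hz⟩ := by
      rw [map_mul, map_inv]
      refine Subtype.ext ?_
      show (g y : Ω)⁻¹ * (g (g.symm (toIso F hAr hArr (g.symm.symm y))) : Ω) = _
      rw [MulEquiv.symm_symm, MulEquiv.apply_symm_apply]
      exact hze.symm
    have h3 := congrArg Subtype.val (g.injective h2)
    rw [Subgroup.coe_mul, InvMemClass.coe_inv] at h3
    rw [h3]
    exact hz
  -- extend across `W`
  have hTW : F.StronglyClosed (T ⊓ W) := sc_inf hT hQsc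
  have hdW : ∀ w ∈ W, ∀ x ∈ T, x⁻¹ * (w * x * w⁻¹) ∈ T ⊓ W := fun w hw x hx => by
    refine ⟨T.mul_mem (T.inv_mem hx) (sc_conj_mem hT (hQS hw) hx), ?_⟩
    have := W.mul_mem (sc_conj_mem hQsc (S.inv_mem (hT.1 hx)) hw) (W.inv_mem hw)
    simpa [mul_assoc] using this
  have hqN : ∀ q ∈ W, q ∈ Subgroup.normalizer (P : Set Ω) := by
    intro q hq
    have key : ∀ s ∈ W, ∀ x ∈ P, s * x * s⁻¹ ∈ P := fun s hs x hx => by
      have := P.mul_mem hx (hRP (hdW s hs x (hPT hx)))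
      simpa using this
    rw [Subgroup.mem_normalizer_iff]
    intro x
    refine ⟨key q hq x, fun hx => ?_⟩
    have := key q⁻¹ (W.inv_mem hq) _ hx
    simpa [mul_assoc] using this
  have hPRc : F.IsConj P R := ⟨_, hχP, hrP⟩
  have hR0R : T ⊓ W ≤ R := fun r hr => by
    obtain ⟨u, -, hu⟩ := Cfsg.Agent.FusionAux.sc_exists_preimage hTW hχP hRP hr
    exact hrP ▸ ⟨u, hu⟩
  have hRT : R ≤ T := by
    rw [← hrP]
    rintro _ ⟨x, rfl⟩
    exact sc_map_mem hT hχP (hPT x.2)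
  obtain ⟨ψ', hψ', hψ'e⟩ := exists_ext_fn hS hF hQsc hTW hR hR0R hWR
    (fun w hw r hr => hdW w hw r (hRT hr)) A hA hAm
  have hV : (P ⊔ C) ⊔ W ≤ normalizerIn S P := sup_le hU fun w hw => ⟨hQS hw, hqN w hw⟩
  have hχV := restr_mem F hV hχ
  set eV := toIso F hχV rfl
  have hv' : ∀ y, restr hV χ y ∈ (R ⊔ centralizerIn S R) ⊔ W := fun y => range_le_sup_of_le (restr hV χ)
    (fun x hx => Subgroup.mem_sup_left (hv ⟨x, hx⟩))
    (fun x hx => Subgroup.mem_sup_right (sc_map_mem hQsc hχV (x := ⟨x, _⟩) hx)) ⟨y, rfl⟩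
  have hWχ : W ≤ (restr hV χ).range := by
    intro w hw
    have : Finite W := finite_of_le ‹_› hQS
    have hres := restr_mem F ((le_sup_right : W ≤ (P ⊔ C) ⊔ W).trans hV) hχ
    obtain ⟨u, hu⟩ := (range_eq_of_image_le (Q := W) (F.injective_of_mem hres)
      (by
        rintro _ ⟨z, rfl⟩
        exact sc_map_mem hQsc hχV (x := Subgroup.inclusion le_sup_right z) z.2) le_rfl).ge hw
    exact ⟨Subgroup.inclusion le_sup_right u, hu⟩
  have hc := F.comp_mem hχV hψ' hv'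
  have hcv : ∀ y, (ψ'.comp ((restr hV χ).codRestrict _ hv')) y ∈ (restr hV χ).range := fun y =>
    range_le_sup_of_le (ψ'.comp ((restr hV χ).codRestrict _ hv'))
      (fun x hx => by
        show ψ' ⟨restr hV χ ⟨x, _⟩, _⟩ ∈ _
        have e1 : (⟨restr hV χ ⟨x, Subgroup.mem_sup_left hx⟩, hv' _⟩ :
            ↥((R ⊔ centralizerIn S R) ⊔ W)) =
            Subgroup.inclusion le_sup_left (Subgroup.inclusion hle (g ⟨x, hx⟩)) := Subtype.ext rfl
        rw [e1, hψ'e]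
        obtain ⟨z, hz⟩ := hArr.le ⟨g ⟨x, hx⟩, rfl⟩
        exact ⟨Subgroup.inclusion le_sup_left z, hz⟩)
      (fun x hx => hWχ (sc_map_mem hQsc hc (x := ⟨x, _⟩) hx)) ⟨y, rfl⟩
  set Y := (P ⊔ C) ⊔ W with hYdef
  set ψ₀ := ((P ⊔ C) ⊔ W).subtype.comp (eV.symm.toMonoidHom.comp
    ((ψ'.comp ((restr hV χ).codRestrict _ hv')).codRestrict _ hcv))
  have hψ₀ : ψ₀ ∈ F.Hom Y := comp_mem' F hc (toIso_isIso F hχV rfl).symm hcv fun _ => rfl
  have hψ₀e : ∀ x : ↥(P ⊔ C), ψ₀ (Subgroup.inclusion le_sup_left x) = A₁ x := by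
    intro x
    have h2 : eV.symm ⟨_, hcv (Subgroup.inclusion le_sup_left x)⟩ =
        Subgroup.inclusion le_sup_left (A₁ x) := by
      rw [MulEquiv.symm_apply_eq]
      refine Subtype.ext ?_
      show ψ' ⟨restr hV χ (Subgroup.inclusion le_sup_left x), _⟩ = (g (A₁ x) : Ω)
      have e1 : (⟨restr hV χ (Subgroup.inclusion le_sup_left x), hv' _⟩ :
          ↥((R ⊔ centralizerIn S R) ⊔ W)) =
          Subgroup.inclusion le_sup_left (Subgroup.inclusion hle (g x)) := Subtype.ext rfl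
      rw [e1, hψ'e]
      show _ = (g (g.symm (toIso F hAr hArr (g.symm.symm x))) : Ω)
      rw [MulEquiv.symm_symm, MulEquiv.apply_symm_apply]
      rfl
    show ((eV.symm ⟨_, _⟩ : ↥((P ⊔ C) ⊔ W)) : Ω) = _
    rw [h2]
    rfl
  have hYS : Y ≤ S := sup_le hUS hQS
  have : Finite Y := finite_of_le ‹_› hYS
  have hY : ψ₀.range = Y := range_eq_of_image_le (F.injective_of_mem hψ₀) (range_le_sup_of_le ψ₀
    (fun x hx => Subgroup.mem_sup_left ((hψ₀e ⟨x, hx⟩).symm ▸ (A₁ ⟨x, hx⟩).2))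
    fun x hx => Subgroup.mem_sup_right (sc_map_mem hQsc hψ₀ (x := ⟨x, _⟩) hx)) le_rfl
  set B := toIso F hψ₀ hY
  have hPY : P ≤ Y := le_sup_left.trans le_sup_left
  have hBP : ∀ x : P, (B (Subgroup.inclusion hPY x) : Ω) = a x := fun x =>
    (hψ₀e (Subgroup.inclusion le_sup_left x)).trans (hA₁P x)
  obtain ⟨k, e, m, ho, hmp, hek, hk1⟩ :=
    exists_exponent (o := orderOf B) (orderOf_pos B).ne' (Fact.out : p.Prime) hord
  set Ψ := B ^ k
  have hΨ : Ψ ∈ F.autGroup Y := pow_mem (toIso_mem_autGroup F hψ₀ hY) k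
  have hΨP : ∀ x : P, (Ψ (Subgroup.inclusion hPY x) : Ω) = a x := fun x => by
    rw [pow_ext_apply hPY hBP k x]
    have : a ^ k = a := by
      conv_rhs => rw [← pow_one a]
      exact pow_eq_pow_iff_modEq.2 hk1
    rw [this]
  have hΨo : Nat.Coprime (orderOf Ψ) p := by
    refine Nat.Coprime.coprime_dvd_left (orderOf_dvd_of_pow_eq_one (n := m) ?_) hmp
    obtain ⟨l, hl⟩ := hek
    rw [show Ψ = B ^ k from rfl, ← pow_mul, hl,
      show p ^ e * l * m = orderOf B * l by rw [ho]; ring, pow_mul, pow_orderOf_eq_one, one_pow]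
  have hPmove : ∀ n : ℕ, ∀ y : Y, (y : Ω) ∈ P ⊔ C → (y : Ω)⁻¹ * ((B ^ n) y : Ω) ∈ P := by
    intro n
    induction n with
    | zero => intro y _; simp
    | succ n ih =>
      intro y hy
      have h1 := ih y hy
      have hy' : ((B ^ n) y : Ω) ∈ P ⊔ C := by
        have := (P ⊔ C).mul_mem hy (Subgroup.mem_sup_left h1)
        simpa using this
      have h2 : ((B ((B ^ n) y) : Y) : Ω) = (A₁ ⟨((B ^ n) y : Ω), hy'⟩ : Ω) :=
        hψ₀e ⟨((B ^ n) y : Ω), hy'⟩
      rw [pow_succ', MulAut.mul_apply, h2]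
      have h3 := P.mul_mem h1 (hA₁m ⟨((B ^ n) y : Ω), hy'⟩)
      simpa [mul_assoc] using h3
  set J := E.autGroup P ⊓ stabGroup P P (T ⊓ W) F
  have hJ : J ≤ autInducedBy P P := by
    intro b hb
    have hn : ((J.subgroupOf (E.autGroup P))).Normal := by
      refine ⟨fun c hc d => ?_⟩
      rw [Subgroup.mem_subgroupOf] at hc ⊢
      obtain ⟨hc1, hcF, -, hc2, hc3⟩ := hc
      have hdF : (d : MulAut P) ∈ F.autGroup P :=
        (mem_autGroup_iff_hom F hPS).2 (hE.1 P (autGroup_mem_hom E hPT d.2))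
      have hd := autGroup_mem_hom F hPS hdF
      refine ⟨mul_mem (mul_mem d.2 hc1) ((E.autGroup P).inv_mem d.2),
        mul_mem (mul_mem hdF hcF) ((F.autGroup P).inv_mem hdF),
        fun y => P.mul_mem (P.inv_mem y.2) (Subtype.mem _), fun y hy => ?_, fun y _ => ?_⟩
      · show (d : MulAut P) ((c : MulAut P) ((d : MulAut P).symm y)) = y
        have e : (d : MulAut P).symm y = y := (d : MulAut P).symm_apply_eq.2 (hfix0 _ d.2 y hy).symm
        rw [e, hc2 y hy, hfix0 _ d.2 y hy]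
      · obtain ⟨z, rfl⟩ := (d : MulAut P).surjective y
        show ((d : MulAut P) z : Ω)⁻¹ *
          ((d : MulAut P) ((c : MulAut P) ((d : MulAut P).symm ((d : MulAut P) z))) : Ω) ∈ T ⊓ W
        rw [MulEquiv.symm_apply_apply, ← Subgroup.coe_inv, ← Subgroup.coe_mul, ← map_inv, ← map_mul]
        exact sc_map_mem hTW hd (x := z⁻¹ * (c : MulAut P) z) (hc3 z z.2)
    have hp : IsPGroup p (J.subgroupOf (E.autGroup P)) :=
      ((isPGroup_stabGroup hS hPS le_rfl).to_le inf_le_right).of_equiv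
        (Subgroup.subgroupOfEquivOfLe (inf_le_left : J ≤ E.autGroup P)).symm
    have h1 := Cores.le_pCore hn hp (show (⟨b, hb.1⟩ : E.autGroup P) ∈ J.subgroupOf _ from hb)
    have h2 : b ∈ Inn P := hPr.2 ▸ ⟨_, h1, rfl⟩
    exact (inn_eq_autInducedBy P) ▸ h2
  have hPn : (P.subgroupOf Y).Normal := by
    have hYN : Y ≤ Subgroup.normalizer (P : Set Ω) :=
      sup_le (hU.trans inf_le_right) hqN
    exact ⟨fun n hn g => (Subgroup.mem_normalizer_iff.1 (hYN g.2) _).1 hn⟩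
  -- the displacement on `W` lands in `P`
  refine ⟨restr (sup_le_sup_right le_sup_left W) (Y.subtype.comp Ψ.toMonoidHom),
    restr_mem F _ (autGroup_mem_hom F hYS hΨ), fun x => hΨP x, fun q hq => ?_⟩
  set x : Y := ⟨q, Subgroup.mem_sup_right hq⟩
  have hΨq : (Ψ x : Ω) ∈ W := sc_map_mem hQsc (autGroup_mem_hom F hYS hΨ) (x := x) hq
  show q⁻¹ * (Ψ x : Ω) ∈ T ⊓ W
  suffices h : q⁻¹ * (Ψ x : Ω) ∈ P from ⟨hPT h, W.mul_mem (W.inv_mem hq) hΨq⟩
  -- its conjugation action lies in `E`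
  set d := (Ψ x : Ω) * q⁻¹
  have hdQ : d ∈ W := W.mul_mem hΨq (W.inv_mem hq)
  have hη : ∀ s ∈ W, ∀ hs : s ∈ Subgroup.normalizer (P : Set Ω),
      P.normalizerMonoidHom ⟨s, hs⟩ ∈ F.autGroup P := fun s hs' hs =>
    autInducedBy_le_autGroup F hPS (mem_autInducedBy.2 ⟨s, hQS hs', fun _ => rfl⟩)
  have hdJ : P.normalizerMonoidHom ⟨d, hqN d hdQ⟩ ∈ J := by
    refine ⟨?_, hη d hdQ _, fun y => P.mul_mem (P.inv_mem y.2) (Subtype.mem _),
      fun y hy => Subtype.ext ?_, fun y _ => hdW d hdQ _ (hPT y.2)⟩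
    rotate_left
    · show d * (y : Ω) * d⁻¹ = y
      rw [hWR d hdQ _ hy, mul_inv_cancel_right]
    have h1 := autCongr_mem_of_invariant hS hF hE hPT
      (f := P.normalizerMonoidHom ⟨q, hqN q hq⟩) ((mem_autGroup F hPS).1 (hη q hq _))
      ((E.autGroup P).inv_mem ha)
    have h2 := mul_mem ha h1
    have e : P.normalizerMonoidHom ⟨d, hqN d hdQ⟩ = a *
        MulAut.congr (P.normalizerMonoidHom ⟨q, hqN q hq⟩ : P ≃* P) a⁻¹ := by
      refine MulEquiv.ext fun z => Subtype.ext ?_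
      obtain ⟨w, rfl⟩ := (P.normalizerMonoidHom ⟨q, hqN q hq⟩).surjective z
      rw [MulAut.mul_apply, autCongr_apply, MulEquiv.symm_apply_apply]
      obtain ⟨v, rfl⟩ := a.surjective w
      rw [MulAut.inv_def, MulEquiv.symm_apply_apply]
      show d * (q * (a v : Ω) * q⁻¹) * d⁻¹ = a (P.normalizerMonoidHom ⟨q, hqN q hq⟩ v)
      rw [← hΨP (P.normalizerMonoidHom ⟨q, hqN q hq⟩ v), show Subgroup.inclusion hPY
        (P.normalizerMonoidHom ⟨q, hqN q hq⟩ v) = x * Subgroup.inclusion hPY v * x⁻¹ from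
          Subtype.ext rfl, map_mul, map_mul, map_inv]
      show _ = (Ψ x : Ω) * (Ψ (Subgroup.inclusion hPY v) : Ω) * (Ψ x : Ω)⁻¹
      rw [hΨP v]
      simp only [d]
      group
    rw [e]
    exact h2
  obtain ⟨w, hw, hwe⟩ := mem_autInducedBy.1 (hJ hdJ)
  have hdU : d ∈ P ⊔ C := by
    have hz : w⁻¹ * d ∈ C := by
      refine ⟨S.mul_mem (S.inv_mem (hPS hw)) (hQS hdQ), Subgroup.mem_centralizer_iff.2 fun z hz => ?_⟩
      have h1 : d * z * d⁻¹ = w * z * w⁻¹ := hwe ⟨z, hz⟩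
      calc z * (w⁻¹ * d) = w⁻¹ * (w * z * w⁻¹) * d := by group
        _ = w⁻¹ * d * z := by rw [← h1]; group
    have := (P ⊔ C).mul_mem (Subgroup.mem_sup_left hw) (Subgroup.mem_sup_right hz)
    simpa using this
  have hcU : q⁻¹ * (Ψ x : Ω) ∈ P ⊔ C := by
    have hqC : ∀ c ∈ C, q⁻¹ * c * q ∈ C := fun c hc => by
      refine ⟨S.mul_mem (S.mul_mem (S.inv_mem (hQS hq)) hc.1) (hQS hq),
        Subgroup.mem_centralizer_iff.2 fun z hz => ?_⟩
      have h1 := (Subgroup.mem_normalizer_iff.1 (hqN q hq) z).1 hz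
      calc z * (q⁻¹ * c * q) = q⁻¹ * ((q * z * q⁻¹) * c) * q := by group
        _ = q⁻¹ * (c * (q * z * q⁻¹)) * q := by rw [Subgroup.mem_centralizer_iff.1 hc.2 _ h1]
        _ = q⁻¹ * c * q * z := by group
    have hUq : P ⊔ C ≤ (P ⊔ C).comap (MulAut.conj q⁻¹).toMonoidHom := by
      refine sup_le (fun z hz => ?_) fun z hz => ?_
      · show q⁻¹ * z * q⁻¹⁻¹ ∈ P ⊔ C
        exact Subgroup.mem_sup_left
          ((Subgroup.mem_normalizer_iff.1 (Subgroup.inv_mem _ (hqN q hq)) z).1 hz)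
      · show q⁻¹ * z * q⁻¹⁻¹ ∈ P ⊔ C
        rw [inv_inv]
        exact Subgroup.mem_sup_right (hqC z hz)
    have h1 : q⁻¹ * d * q⁻¹⁻¹ ∈ P ⊔ C := hUq hdU
    simpa [d, mul_assoc] using h1
  obtain ⟨i, hi⟩ := hS ⟨_, hUS hcU⟩
  have hmem : x⁻¹ * Ψ x ∈ P.subgroupOf Y := by
    refine disp_mem_of_coprime (fun n hn => ?_) hΨo (k := i) (Subtype.ext ?_) ?_
    · show (Ψ n : Ω) ∈ P
      rw [show n = Subgroup.inclusion hPY ⟨n, hn⟩ from Subtype.ext rfl, hΨP]
      exact Subtype.mem _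
    · simpa using congrArg Subtype.val hi
    · exact hPmove k (x⁻¹ * Ψ x) hcU
  exact hmem

/-- A normal subsystem over `T` moves a strongly closed subgroup `W` only inside `T ⊓ W`. -/
theorem exists_ext_moves_sc (hS : IsPGroup p S) (hF : F.IsSaturated p) {E : FusionSystem T}
    (hE : E.IsNormalIn F p) {W : Subgroup Ω} (hQsc : F.StronglyClosed W)
    (hWR : ∀ w ∈ W, ∀ r ∈ T ⊓ W, w * r = r * w) (hRc0 : E.IsCentral (T ⊓ W)) {P : Subgroup Ω} {φ : P →* Ω}
    (hφ : φ ∈ E.Hom P) :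
    ∃ ψ ∈ F.Hom (P ⊔ W), (∀ x : P, ψ (Subgroup.inclusion le_sup_left x) = φ x) ∧
      ∀ (q : Ω) (hq : q ∈ W), q⁻¹ * ψ ⟨q, Subgroup.mem_sup_right hq⟩ ∈ T ⊓ W := by
  obtain ⟨⟨hEs, hF', hEi⟩, hext⟩ := hE
  have hT := hEi.2.1
  have hTS := hT.1
  have hQS := hQsc.1
  have hTp := hS.to_le hTS
  have : Finite T := finite_of_le ‹_› hTS
  have hTQ := sc_inf hT hQsc
  have hRn := isCentral_isNormal hRc0
  let good : ∀ P : Subgroup Ω, (P →* Ω) → Prop := fun P φ =>
    ∃ ψ ∈ F.Hom (P ⊔ W), (∀ x : P, ψ (Subgroup.inclusion le_sup_left x) = φ x) ∧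
      ∀ (q : Ω) (hq : q ∈ W), q⁻¹ * ψ ⟨q, Subgroup.mem_sup_right hq⟩ ∈ T ⊓ W
  let V : FusionSystem T := subSystem E good ?hconj ?hcomp ?hinv
  case hconj =>
    intro P g hP hg
    refine ⟨_, F.conj_mem (sup_le (hP.trans hTS) hQS) (hTS hg), fun x => rfl, fun q hq => ⟨?_, ?_⟩⟩
    · show q⁻¹ * (g * q * g⁻¹) ∈ T
      have := T.mul_mem (sc_conj_mem hT (S.inv_mem (hQS hq)) hg) (T.inv_mem hg)
      simpa [mul_assoc] using this
    · exact W.mul_mem (W.inv_mem hq) (sc_conj_mem hQsc (hTS hg) hq)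
  case hcomp =>
    rintro P R φ₁ φ₂ - - ⟨a, ha, hae, ham⟩ ⟨b, hb, hbe, hbm⟩ h
    have hQv : ∀ (q : Ω) (hq : q ∈ W), a ⟨q, Subgroup.mem_sup_right hq⟩ ∈ W := fun q hq =>
      sc_map_mem hQsc ha (x := ⟨q, _⟩) hq
    have hv : ∀ y, a y ∈ R ⊔ W := fun y => range_le_sup_of_le a
      (fun x hx => Subgroup.mem_sup_left ((hae ⟨x, hx⟩).symm ▸ h ⟨x, hx⟩))
      (fun x hx => Subgroup.mem_sup_right (hQv x hx)) ⟨y, rfl⟩
    refine ⟨_, F.comp_mem ha hb hv, fun x => ?_, fun q hq => ?_⟩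
    · exact (congrArg b (Subtype.ext (hae x))).trans (hbe ⟨φ₁ x, h x⟩)
    · have h1 := hbm _ (hQv q hq)
      have h2 := (T ⊓ W).mul_mem (ham q hq) h1
      simpa [mul_assoc] using h2
  case hinv =>
    rintro P φ₁ - ⟨a, ha, hae, ham⟩ χ - hχe
    obtain ⟨c, hc, hce⟩ := F.inv_mem ha
    have : Finite W := finite_of_le ‹_› hQS
    have hrQ : (restr (le_sup_right : W ≤ P ⊔ W) a).range = W :=
      range_eq_of_image_le (F.injective_of_mem (restr_mem F le_sup_right ha))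
        (by rintro _ ⟨x, rfl⟩; exact sc_map_mem hQsc ha (x := Subgroup.inclusion le_sup_right x) x.2)
        le_rfl
    have hle : φ₁.range ⊔ W ≤ a.range := by
      refine sup_le ?_ fun q hq => ?_
      · rintro _ ⟨x, rfl⟩
        exact ⟨_, hae x⟩
      · obtain ⟨x, hx⟩ := hrQ.ge hq
        exact ⟨_, hx⟩
    refine ⟨restr hle c, restr_mem F hle hc, ?_, fun q hq => ?_⟩
    · rintro ⟨_, x, rfl⟩
      rw [hχe x]
      refine Eq.trans ?_ (hce (Subgroup.inclusion le_sup_left x))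
      exact congrArg c (Subtype.ext (hae x).symm)
    · obtain ⟨x, hx⟩ := hrQ.ge hq
      have h1 := (T ⊓ W).inv_mem (ham x x.2)
      have h2 : restr hle c ⟨q, Subgroup.mem_sup_right hq⟩ = x :=
        (congrArg c (Subtype.ext hx.symm)).trans
          (hce (Subgroup.inclusion le_sup_right x))
      rw [h2]
      rw [show a ⟨(x : Ω), _⟩ = q from hx, mul_inv_rev, inv_inv] at h1
      exact h1
  suffices h : E ≤ V from (h P hφ).2
  clear hφ φ P
  refine Cfsg.Agent.FusionBatch.le_of_centric_radical_step hTp hEs V fun P hPn hPc hPr ih => ?_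
  have hPT := hPn.1
  have hPS := hPT.trans hTS
  have : Finite P := finite_of_le ‹_› hPS
  have hRP : T ⊓ W ≤ P := normal_le_centric_radical hTp hPc hPr hRn
  have hPtc := tCentric_of_centric hEi hPc
  have hEn := saturated_fullyNormalized hTp hEs hPn
  have hfix0 : ∀ d ∈ E.autGroup P, ∀ z : P, (z : Ω) ∈ T ⊓ W → d z = z := fun d hd z hz => by
    obtain ⟨θ, -, h1, h2⟩ := hRc0.2 P _ (autGroup_mem_hom E hPT hd)
    refine Subtype.ext ((h1 z).symm.trans ?_)
    exact Eq.trans (congrArg θ (Subtype.ext rfl)) (h2 ⟨z, hz⟩)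
  obtain ⟨R, hPR, hR⟩ := exists_fullyNormalized F hPS
  obtain ⟨χ, hχ, -, hχm⟩ := exists_normalizer_map_fullyNormalized hS hF hR hPR
  have hRc := tCentric_of_isConj hT hPtc hPR
  have hcop : ∀ a ∈ E.autGroup P, Nat.Coprime (orderOf a) p →
      (∀ f : P ≃* R, (∀ x : P, (f x : Ω) = χ ⟨x, le_normalizerIn hPS x.2⟩) →
        MulAut.congr f a ∈ goodLift F R) → a ∈ V.autGroup P := fun a ha ho hl =>
    (mem_autGroup V hPT).2 ⟨autGroup_mem_hom E hPT ha,
      moves_of_lift_sc hS hF hEi hQsc hWR hPc hPr hRP hR hfix0 hχ hχm ha ho hl⟩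
  have hTMV : autInducedBy T P ≤ V.autGroup P := autInducedBy_le_autGroup V hPT
  rcases hPT.eq_or_lt with hPeq | hlt
  · subst hPeq
    refine le_of_sylow_pprime (P := autInducedBy P P)
      ⟨autInducedBy_le_autGroup E le_rfl, hEn.2.2⟩ hTMV fun a ha ho => hcop a ha ho fun f hf => ?_
    have hRP' : R = P := by
      refine eq_of_le_of_card_le hRc.1 ?_
      rw [Nat.card_congr f.toEquiv]
    subst hRP'
    have hfF : IsIso F f := mem_of_restricts F (le_normalizerIn hPS) hχ hf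
    obtain ⟨β, hβ, hβT, hβC⟩ := hext _ (autCongr_mem_of_invariant hS hF hEi le_rfl hfF ha)
    refine ⟨β, hβ, hβT, fun y => ?_⟩
    obtain ⟨r, hr, c, hc, hy⟩ := exists_mul_of_mem_sup (T := R) (K := centralizerIn S R)
      (fun x hx b hb => Subgroup.mem_centralizer_iff.1 hb.2 x hx) y.2
    have e : y = ⟨r, Subgroup.mem_sup_left hr⟩ * ⟨c, Subgroup.mem_sup_right hc⟩ := Subtype.ext hy
    have h1 : r⁻¹ * (β ⟨r, Subgroup.mem_sup_left hr⟩ : Ω) ∈ R :=
      R.mul_mem (R.inv_mem hr) ((hβT ⟨r, hr⟩).symm ▸ Subtype.mem _)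
    have h2 := (hβC ⟨c, Subgroup.mem_sup_right hc⟩ hc).1
    rw [e, map_mul, Subgroup.coe_mul, Subgroup.coe_mul]
    have hcomm : c⁻¹ * (r⁻¹ * (β ⟨r, Subgroup.mem_sup_left hr⟩ : Ω)) =
        r⁻¹ * (β ⟨r, Subgroup.mem_sup_left hr⟩ : Ω) * c⁻¹ :=
      (Subgroup.mem_centralizer_iff.1 ((Subgroup.centralizer _).inv_mem hc.2) _ h1).symm
    rw [show (r * c)⁻¹ * ((β ⟨r, Subgroup.mem_sup_left hr⟩ : Ω) *
      (β ⟨c, Subgroup.mem_sup_right hc⟩ : Ω)) = c⁻¹ * (r⁻¹ *
        (β ⟨r, Subgroup.mem_sup_left hr⟩ : Ω)) * (β ⟨c, Subgroup.mem_sup_right hc⟩ : Ω) by group,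
      hcomm, mul_assoc]
    exact R.mul_mem h1 h2
  set O := pElemGroup E p P
  have hnorm : ∀ g ∈ E.autGroup P, ∀ k ∈ O, g * k * g⁻¹ ∈ O := fun g hg k hk => by
    have h := autCongr_mem_pElemGroup E ((mem_autGroup E hPT).1 hg) hk
    have e : MulAut.congr (g : P ≃* P) k = g * k * g⁻¹ := by
      ext x
      simp [autCongr_apply, MulAut.inv_def]
    rwa [e] at h
  have hle : autInducedBy T P ≤ O := fun c hc => by
    refine ⟨⟨c, autInducedBy_le_autGroup E hPT hc⟩, Subgroup.subset_closure ?_, rfl⟩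
    obtain ⟨m, hm⟩ := isPGroup_autInducedBy hTp P ⟨c, hc⟩
    obtain ⟨j, -, hj⟩ :=
      (Nat.dvd_prime_pow (Fact.out : p.Prime)).1 (orderOf_dvd_of_pow_eq_one hm)
    refine ⟨j, ?_⟩
    rw [Subgroup.orderOf_mk]
    rwa [Subgroup.orderOf_mk] at hj
  have hsyl : SylIn p (autInducedBy T P) O := by
    have h : SylIn p (autInducedBy T P) (E.autGroup P) :=
      ⟨autInducedBy_le_autGroup E hPT, hEn.2.2⟩
    have h2 := h.inf_normal (pElemGroup_le_autGroup E P) hnorm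
    rwa [inf_eq_left.2 hle] at h2
  have hOV : O ≤ V.autGroup P := by
    refine le_of_sylow_pprime hsyl hTMV fun a ha ho =>
      hcop a (pElemGroup_le_autGroup E P ha) ho fun f hf => ?_
    have hfF : IsIso F f := mem_of_restricts F (le_normalizerIn hPS) hχ hf
    refine pElem_le_goodLift hS hF hEi hEs hR hRc ?_
    have : pElemGroup E p P ≤ (pElemGroup E p R).comap (MulAut.congr f).toMonoidHom := by
      rw [pElemGroup, Subgroup.map_le_iff_le_comap, Subgroup.closure_le]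
      rintro a ⟨k, hk⟩
      refine ⟨⟨_, autCongr_mem_of_invariant hS hF hEi hPT hfF a.2⟩,
        Subgroup.subset_closure ⟨k, ?_⟩, rfl⟩
      rw [Subgroup.orderOf_mk, ← hk, ← Subgroup.orderOf_coe a]
      exact MulEquiv.orderOf_eq (MulAut.congr f) _
    exact this ha
  intro a ha
  obtain ⟨k, hk, hka⟩ := hsyl.frattini (hnorm a ha)
  have hN := normalizerIn_le (S := T) P
  obtain ⟨ψ, hψ, hψe⟩ := exists_ext_aut' (saturated_fullyCentralized hTp hEs hEn.1)
    (mul_mem (pElemGroup_le_autGroup E P hk) ha) (le_normalizerIn hPT) le_rfl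
    fun g hg => ⟨⟨g, hg.2⟩, hka _ (mem_autInducedBy.2 ⟨g, hg.1, fun _ => rfl⟩), rfl⟩
  have hψV := ih _ hN (card_lt_of_lt hN (lt_normalizerIn hTp hlt)) hψ
  have h1 : k * a ∈ V.autGroup P := (mem_autGroup V hPT).2
    (mem_of_restricts V (le_normalizerIn hPT) hψV fun x => (hψe x).symm)
  have := mul_mem ((V.autGroup P).inv_mem (hOV hk)) h1
  rwa [inv_mul_cancel_left] at this

end Cfsg.Agent.Tech.Commuting
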