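import Cfsg.Agent.FusionSub.PIndex
import Cfsg.Agent.FusionSub.PPowerExists
import Cfsg.Agent.FusionAlperin.MinimalNormal
import Cfsg.Agent.FusionQd.ResidualSeries
import Cfsg.Agent.S5141

/-!
Subsystems of `p`-power index of invariant systems, and existence of the residual limit with its
invariance under passing to another invariant system over the same subgroup.
-/

set_option autoImplicit false

open Cfsg Cfsg.FusionSystem
open Cfsg.Agent.FusionSys Cfsg.Agent.FusionAlperin
open Cfsg.Agent.S5119 (InvT autExt_inv autExt_inv' autExt_mul)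

namespace Cfsg.Agent.Tech.ResidualLimit

universe u

variable {Ω : Type u} [Group Ω] {S U H : Subgroup Ω} {p : ℕ} [Finite S] [Fact p.Prime]
  {F : FusionSystem S}

/-- A subsystem of `p`-power index of an invariant system is transported into itself. -/
theorem invT_of_pPowerIndex (hS : IsPGroup p S) (hF : F.IsSaturated p) {K : FusionSystem U}
    (hK : K.IsInvariantIn F) (hHU : H ≤ U) {M : FusionSystem H} (hM : M.IsSaturated p)
    (hMK : M.HasPPowerIndexIn K p) : InvT F M := by
  intro β hβ P φ hφ
  have hHS : H ≤ S := hHU.trans hK.2.1.1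
  haveI : Finite H := finite_of_le ‹_› hHS
  have hβh : ∀ {x y : Ω}, x ∈ H → y ∈ H → autExt β (x * y) = autExt β x * autExt β y := by
    intro x y hx hy
    rw [autExt_of_mem β hx, autExt_of_mem β hy, autExt_of_mem β (H.mul_mem hx hy),
      ← Subgroup.coe_mul, ← map_mul]
    rfl
  have hβi : ∀ {x : Ω}, x ∈ H → autExt β x⁻¹ = (autExt β x)⁻¹ := by
    intro x hx
    rw [autExt_of_mem β hx, autExt_of_mem β (H.inv_mem hx), ← Subgroup.coe_inv, ← map_inv]
    rfl
  let D : FusionSystem H := subSystem M
    (fun P φ => ∃ χ ∈ M.Hom (autImage β P), ∀ (x : P) (h : autExt β x ∈ autImage β P),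
      χ ⟨autExt β x, h⟩ = autExt β (φ x))
    (fun {P g} hP hg => by
      refine ⟨conjHom (autImage β P) (autExt β g), M.conj_mem (autImage_le β P)
        (by rw [autExt_of_mem β hg]; exact (β ⟨g, hg⟩).2), fun x h => ?_⟩
      show _ = autExt β (g * (x : Ω) * g⁻¹)
      rw [hβh (H.mul_mem hg (hP x.2)) (H.inv_mem hg), hβh hg (hP x.2), hβi hg]
      rfl)
    (fun {P Q φ ψ} hφ hψ ⟨a, ha, hae⟩ ⟨b, hb, hbe⟩ h => by
      have hm : ∀ y, a y ∈ autImage β Q := by
        intro y
        obtain ⟨x, hx, hxT, hxy⟩ := exists_autExt_eq β y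
        have hy : y = ⟨autExt β (⟨x, hx⟩ : P), autExt_mem_autImage β (le_S M hφ) hx⟩ :=
          Subtype.ext hxy.symm
        rw [hy, hae]
        exact autExt_mem_autImage β (le_S M hψ) (h _)
      refine ⟨_, M.comp_mem ha hb hm, fun x hx => ?_⟩
      refine Eq.trans ?_ (hbe ⟨φ x, h x⟩ (autExt_mem_autImage β (le_S M hψ) (h x)))
      exact congrArg b (Subtype.ext (hae x hx)))
    (fun {P φ} hφ ⟨a, ha, hae⟩ ψ hψ he => by
      obtain ⟨c, hc, hce⟩ := M.inv_mem ha
      have hle : autImage β φ.range ≤ a.range := by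
        intro y hy
        obtain ⟨z, ⟨x, hxz⟩, hzT, hzy⟩ := exists_autExt_eq β ⟨y, hy⟩
        refine ⟨⟨_, autExt_mem_autImage β (le_S M hφ) x.2⟩, ?_⟩
        rw [hae, hxz]
        exact hzy
      refine ⟨_, restr_mem M hle hc, fun y hy => ?_⟩
      obtain ⟨x, hx⟩ := y.2
      have hy' : y = ⟨φ x, x, rfl⟩ := Subtype.ext hx.symm
      subst hy'
      rw [he x]
      refine Eq.trans ?_ (hce ⟨_, autExt_mem_autImage β (le_S M hφ) x.2⟩)
      exact congrArg c (Subtype.ext (hae x (autExt_mem_autImage β (le_S M hφ) x.2)).symm))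
  have hle : M.IsSubsystemOf D := by
    refine FusionSub.le_of_pResidual_le (hS.to_le hHS) hM D le_rfl fun R hR => ?_
    refine le_trans (FusionSub.map_pResidual_mono hMK.1 R) ?_
    rw [Subgroup.map_le_iff_le_comap, pResidual, Subgroup.closure_le]
    intro a ha
    have haD : (a : MulAut R) ∈ M.autGroup R :=
      hMK.2.2 R hR ⟨a, Subgroup.subset_closure ha, rfl⟩
    refine (mem_autGroup D hR).2 ⟨autGroup_mem_hom M hR haD, ?_⟩
    have hψ := restr_mem F hR (autGroup_mem_hom F hHS hβ)
    have hr : (restr hR (H.subtype.comp β.toMonoidHom)).range = autImage β R := range_restr hR _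
    obtain ⟨e, he, hev⟩ : ∃ e : R ≃* autImage β R, IsIso F e ∧
        ∀ x : R, (e x : Ω) = autExt β x :=
      ⟨toIso F hψ hr, toIso_isIso F hψ hr, fun x => (autExt_of_mem β (hR x.2)).symm⟩
    have h1 := autCongr_mem_of_invariant hS hF hK (hR.trans hHU) he a.2
    have h2 : MulAut.congr e (a : MulAut R) ∈ M.autGroup (autImage β R) := by
      refine hMK.2.2 _ (autImage_le β R) ⟨⟨_, h1⟩, Subgroup.subset_closure ?_, rfl⟩
      show (orderOf (⟨_, h1⟩ : K.autGroup (autImage β R))).Coprime p
      rw [Subgroup.orderOf_mk, MulEquiv.orderOf_eq, Subgroup.orderOf_coe]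
      exact ha
    refine ⟨_, autGroup_mem_hom M (autImage_le β R) h2, fun x h => ?_⟩
    have hx : (⟨autExt β x, h⟩ : autImage β R) = e x := Subtype.ext (hev x).symm
    show ((MulAut.congr e (a : MulAut R) ⟨autExt β x, h⟩ : autImage β R) : Ω) =
      autExt β ((a : MulAut R) x : Ω)
    rw [hx, autCongr_apply, MulEquiv.symm_apply_apply, hev]
  exact (hle P hφ).2

/-- A subsystem of `p`-power index of an invariant system over a strongly closed subgroup is
invariant. -/
theorem invariant_of_pPowerIndex (hS : IsPGroup p S) (hF : F.IsSaturated p) {K : FusionSystem U}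
    (hK : K.IsInvariantIn F) (hKs : K.IsSaturated p) (hHU : H ≤ U) (hH : F.StronglyClosed H)
    {M : FusionSystem H} (hM : M.IsSaturated p) (hMK : M.HasPPowerIndexIn K p) :
    M.IsInvariantIn F := by
  have hUS := hK.2.1.1
  haveI : Finite U := finite_of_le ‹_› hUS
  refine ⟨fun P φ hφ => hK.1 P (hMK.1 P hφ), hH, fun P hP φ hφ α hα => ?_,
    fun P hP φ hφ => ?_⟩
  · obtain ⟨χ, hχ, hχe⟩ := invT_of_pPowerIndex hS hF hK hHU hM hMK α hα P φ hφ
    refine ⟨χ, hχ, fun x hφx hαx => ?_⟩
    have e : (⟨_, hαx⟩ : autImage α P) = ⟨autExt α x, autExt_mem_autImage α hP x.2⟩ :=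
      Subtype.ext (autExt_of_mem α (hP x.2)).symm
    rw [e, hχe, autExt_of_mem α hφx]
  · obtain ⟨α, hα, k, hk, hφe⟩ := hK.2.2.2 P (hP.trans hHU) φ hφ
    obtain ⟨s, hs, m, hm, hke⟩ := pPowerIndex_frattini (hS.to_le hUS) hKs hHU hM hMK
      (fun g hg x hx => sc_conj_mem hH (hUS hg) hx) hP hk
    obtain ⟨β, hβ, hβe⟩ := exists_conj_aut F hH.1
      (fun g hg x hx => sc_conj_mem hH hg hx) (hUS hs)
    have hst : α ∈ subStab U H := fun x =>
      sc_map_mem_iff hH (autGroup_mem_hom F hUS hα) x
    refine ⟨restrStab hHU ⟨α, hst⟩ * β,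
      mul_mem (restrStab_mem_autGroup F hHU hUS hα) hβ, m, hm, fun x hx => ?_⟩
    rw [hφe x (map_mem_S K hk x)]
    show _ = ((α (Subgroup.inclusion hHU (β ⟨m x, hx⟩)) : U) : Ω)
    exact congrArg (fun w => ((α w : U) : Ω))
      (Subtype.ext ((hke x).trans (hβe ⟨m x, hx⟩).symm))

omit [Fact p.Prime] [Finite S] in
theorem isWeaklyNormal_of (hF : F.IsSaturated p) {E : FusionSystem U} (hE : E.IsInvariantIn F)
    (hEs : E.IsSaturated p) : E.IsWeaklyNormalIn F p :=
  ⟨hEs, hF, hE⟩

/-- Invariant saturated systems over the same subgroup have the same `p'`-residual. -/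
theorem residual_eq_of_invariant (hS : IsPGroup p S) (hF : F.IsSaturated p)
    {E D : FusionSystem U} (hE : E.IsInvariantIn F) (hEs : E.IsSaturated p)
    (hD : D.IsInvariantIn F) (hDs : D.IsSaturated p) :
    residualSystem E p = residualSystem D p := by
  haveI : Finite U := finite_of_le ‹_› hE.2.1.1
  have hU : IsPGroup p U := hS.to_le hE.2.1.1
  have hEn := S5141.result p hS F hF E (isWeaklyNormal_of hF hE hEs) _
    (residual_isPPrimeResidual hU hEs)
  have hDn := S5141.result p hS F hF D (isWeaklyNormal_of hF hD hDs) _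
    (residual_isPPrimeResidual hU hDs)
  exact fusionSystem_antisymm
    (residual_le_of_invariant hS hF hE hEs hDn.1.2.2 hDn.1.1)
    (residual_le_of_invariant hS hF hD hDs hEn.1.2.2 hEn.1.1)

omit [Finite S] [Fact p.Prime] in
/-- A residual limit of the residual system of the `p`-power subsystem is one of the system. -/
theorem limit_step (hH : F.hyperfocalSubgroup p = H) {D D' : FusionSystem H}
    (hD : D.IsSaturated p) (hDF : D.HasPPowerIndexIn F p) (hD' : D.IsPPrimeResidual p D')
    {A : Subgroup Ω} {L : FusionSystem A} (hL : L.IsResidualLimitOf D' p) :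
    L.IsResidualLimitOf F p := by
  subst hH
  exact .step F p D D' ⟨hD, hDF⟩ hD' hL

theorem exists_limit_aux (n : ℕ) : ∀ {U : Subgroup Ω} [Finite U], IsPGroup p U → Nat.card U = n →
    ∀ G : FusionSystem U, G.IsSaturated p →
      ∃ (A : Subgroup Ω) (L : FusionSystem A), L.IsResidualLimitOf G p := by
  induction n using Nat.strong_induction_on with
  | _ n ih =>
  intro U _ hU hn G hG
  have key : ∀ G : FusionSystem U, G.IsSaturated p → G.hyperfocalSubgroup p < U →
      ∃ (A : Subgroup Ω) (L : FusionSystem A), L.IsResidualLimitOf G p := by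
    intro G hG hlt
    haveI : Finite ↥(G.hyperfocalSubgroup p) := finite_of_le ‹_› hlt.le
    obtain ⟨D, hD, hDG⟩ := FusionSub.exists_pPowerIndex hU hG hlt.le le_rfl
    obtain ⟨A, L, hL⟩ := ih _ (hn ▸ card_lt_of_lt le_rfl hlt) (hU.to_le hlt.le) rfl
      (residualSystem D p) (residual_saturated (hU.to_le hlt.le) hD)
    exact ⟨A, L, limit_step rfl hD hDG (residual_isPPrimeResidual (hU.to_le hlt.le) hD) hL⟩
  rcases (hyperfocal_le G (p := p)).eq_or_lt with heq | hlt
  · have hres := residual_isPPrimeResidual hU hG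
    have hrs := residual_saturated hU hG
    obtain ⟨A, L, hL⟩ : ∃ (A : Subgroup Ω) (L : FusionSystem A),
        L.IsResidualLimitOf (residualSystem G p) p := by
      rcases (hyperfocal_le (residualSystem G p) (p := p)).eq_or_lt with heq' | hlt'
      · refine ⟨U, residualSystem G p, .stable _ _ heq' ?_⟩
        have hi : (residualSystem G p).IsInvariantIn G :=
          (S5141.result p hU G hG G (isWeaklyNormal_of hG (FusionQd.invariant_self G) hG) _
            hres).1.2.2
        have h1 := residual_eq_of_invariant hU hG (FusionQd.invariant_self G) hG hi hrs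
        have h2 := residual_isPPrimeResidual hU hrs
        rwa [← h1] at h2
      · exact key _ hrs hlt'
    exact ⟨A, L, limit_step heq hG (FusionSub.hasPPowerIndexIn_refl G heq.le) hres hL⟩
  · exact key G hG hlt

/-- Every saturated system has a residual limit. -/
theorem exists_limit (hS : IsPGroup p S) (hF : F.IsSaturated p) :
    ∃ (A : Subgroup Ω) (L : FusionSystem A), L.IsResidualLimitOf F p :=
  exists_limit_aux _ hS rfl F hF

omit [Finite S] [Fact p.Prime] in
theorem hyperfocal_mono {K : FusionSystem U} (h : K.IsSubsystemOf F) :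
    K.hyperfocalSubgroup p ≤ F.hyperfocalSubgroup p := by
  refine Subgroup.closure_mono ?_
  rintro _ ⟨P, α, x, hPU, hα, rfl⟩
  obtain ⟨β, hβ, hβα⟩ := FusionSub.map_pResidual_mono h P ⟨α, hα, rfl⟩
  exact ⟨P, β, x, hPU.trans (FusionSub.le_of_isSubsystemOf h), hβ,
    by rw [show (β : MulAut P) = α from hβα]⟩

theorem limit_residual_aux (n : ℕ) : ∀ {U : Subgroup Ω} [Finite U], IsPGroup p U →
    Nat.card U = n → ∀ G : FusionSystem U, G.IsSaturated p →
      ∀ {A B : Subgroup Ω} {L : FusionSystem A} {L' : FusionSystem B},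
        L.IsResidualLimitOf G p → L'.IsResidualLimitOf (residualSystem G p) p →
          ∀ P, L.Hom P = L'.Hom P := by
  induction n using Nat.strong_induction_on with
  | _ n ih =>
  intro U _ hU hn G hG A B L L' hL hL'
  have hres := residual_isPPrimeResidual hU hG
  rcases (hyperfocal_le G (p := p)).eq_or_lt with heq | hlt
  · exact FusionSub.residualLimit_unique hU hL
      (limit_step heq hG (FusionSub.hasPPowerIndexIn_refl G heq.le) hres hL')
  haveI : Finite ↥(G.hyperfocalSubgroup p) := finite_of_le ‹_› hlt.le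
  have hHp : IsPGroup p ↥(G.hyperfocalSubgroup p) := hU.to_le hlt.le
  have hHsc := hyperfocal_stronglyClosed hU hG
  have hKs := residual_saturated hU hG
  have hK : (residualSystem G p).IsInvariantIn G :=
    (S5141.result p hU G hG G (isWeaklyNormal_of hG (FusionQd.invariant_self G) hG) _
      hres).1.2.2
  obtain ⟨D, hD, hDG⟩ := FusionSub.exists_pPowerIndex hU hG hlt.le le_rfl
  obtain ⟨M, hM, hMK⟩ := FusionSub.exists_pPowerIndex hU hKs hlt.le (hyperfocal_mono hK.1)
  obtain ⟨A₁, L₁, hL₁⟩ := exists_limit hHp (residual_saturated hHp hD)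
  obtain ⟨A₂, L₂, hL₂⟩ := exists_limit hHp hM
  have h1 := FusionSub.residualLimit_unique hU hL
    (limit_step rfl hD hDG (residual_isPPrimeResidual hHp hD) hL₁)
  have h2 := FusionSub.residualLimit_eq_of_pPowerIndex hU hKs hM hMK hL' hL₂
  have hDi := invariant_of_pPowerIndex hU hG (FusionQd.invariant_self G) hG hlt.le hHsc hD hDG
  have hMi := invariant_of_pPowerIndex hU hG hK hKs hlt.le hHsc hM hMK
  rw [residual_eq_of_invariant hU hG hDi hD hMi hM] at hL₁
  have h3 := ih _ (hn ▸ card_lt_of_lt le_rfl hlt) hHp rfl M hM hL₂ hL₁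
  exact fun P => ((h1 P).trans (h3 P).symm).trans (h2 P).symm

/-- Invariant saturated systems over the same subgroup have the same residual limit. -/
theorem limit_eq_of_invariant (hS : IsPGroup p S) (hF : F.IsSaturated p)
    {E D : FusionSystem U} (hE : E.IsInvariantIn F) (hEs : E.IsSaturated p)
    (hD : D.IsInvariantIn F) (hDs : D.IsSaturated p)
    {A B : Subgroup Ω} {L : FusionSystem A} {L' : FusionSystem B}
    (hL : L.IsResidualLimitOf E p) (hL' : L'.IsResidualLimitOf D p) :
    ∀ P, L.Hom P = L'.Hom P := by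
  haveI : Finite U := finite_of_le ‹_› hE.2.1.1
  have hU : IsPGroup p U := hS.to_le hE.2.1.1
  obtain ⟨C, M, hM⟩ := exists_limit hU (residual_saturated hU hEs)
  have h1 := limit_residual_aux _ hU rfl E hEs hL hM
  rw [residual_eq_of_invariant hS hF hE hEs hD hDs] at hM
  have h2 := limit_residual_aux _ hU rfl D hDs hL' hM
  exact fun P => (h1 P).trans (h2 P).symm

omit [Finite S] [Fact p.Prime] in
/-- The residual limit is a subsystem. -/
theorem limit_sub {A : Subgroup Ω} {L : FusionSystem A} (h : L.IsResidualLimitOf F p) :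
    L.IsSubsystemOf F := by
  induction h with
  | stable => exact fun P => subset_rfl
  | step F p D D' hD hD' _ ih => exact fun P φ hφ => hD.2.1 P (hD'.2.1.1 P (ih P hφ))

end Cfsg.Agent.Tech.ResidualLimit
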