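import Cfsg.Agent.Tech.Layer
import Cfsg.Agent.Tech.ResidualLimit
import Cfsg.Agent.FusionAlperin.ConstrainedComponent
import Cfsg.Agent.S5148
import Cfsg.Agent.S5311

/-!
Components in normal subsystems, the layer of a normal subsystem, and semisimple closures of
components.
-/

set_option autoImplicit false

open Cfsg Cfsg.FusionSystem
open Cfsg.Agent.FusionSys Cfsg.Agent.FusionAlperin
open Cfsg.Agent.S5119 (InvT autExt_inv autExt_inv' autExt_mul)

namespace Cfsg.Agent.Tech.Meet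

universe u

variable {Ω : Type u} [Group Ω] {S : Subgroup Ω} {p : ℕ}

theorem component_of_le_aux {U S : Subgroup Ω} {C : FusionSystem U} {F : FusionSystem S}
    (h : C.IsSubnormalIn F p) : ∀ [Fact p.Prime], C.Quasisimple p → IsPGroup p S → Finite S →
      F.IsSaturated p → ∀ (T : Subgroup Ω) (M : FusionSystem T), M.IsNormalIn F p → U ≤ T →
        C.IsSubnormalIn M p := by
  induction h with
  | refl F p =>
    intro hp hC hS hfin hF T M hM hle
    obtain rfl := le_antisymm hM.1.2.2.2.1.1 hle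
    have h1 : F ≤ M := fun P φ hφ => residual_le_of_invariant hS hF (FusionQd.invariant_self F) hF
      hM.1.2.2 hM.1.1 P (quasisimple_residual hS hC P hφ)
    rw [fusionSystem_antisymm h1 hM.1.2.2.1]
    exact IsSubnormalIn.refl M p
  | @step V S C D F p hCD hD ih =>
    intro hp hC hS hfin hF T M hM hle
    have hVS : V ≤ S := hD.1.2.2.2.1.1
    obtain ⟨D', ⟨-, hDD, hDM⟩, -⟩ := Cfsg.Agent.S5129.result p hS F hF D M hD hM
    exact .step (ih hC (hS.to_le hVS) (finite_of_le hfin hVS) hD.1.1 _ D' hDD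
      (le_inf (subnormal_le hCD) hle)) hDM

variable [Finite S] [Fact p.Prime] {F : FusionSystem S}

/-- A component is a component of every normal subsystem over a group containing its group. -/
theorem component_of_le (hS : IsPGroup p S) (hF : F.IsSaturated p) {U T : Subgroup Ω}
    {C : FusionSystem U} (hC : C.IsComponentIn F p) {M : FusionSystem T} (hM : M.IsNormalIn F p)
    (hle : U ≤ T) : C.IsComponentIn M p :=
  ⟨component_of_le_aux hC.1 hC.2 hS ‹_› hF T M hM hle, hC.2⟩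

omit [Finite S] [Fact p.Prime] in
theorem component_up {U T : Subgroup Ω} {C : FusionSystem U} {M : FusionSystem T}
    (hM : M.IsNormalIn F p) (hC : C.IsComponentIn M p) : C.IsComponentIn F p :=
  ⟨.step hC.1 hM, hC.2⟩

/-- A component is over a nonabelian group. -/
theorem component_not_comm (hS : IsPGroup p S) {U : Subgroup Ω} {C : FusionSystem U}
    (hC : C.IsComponentIn F p) (h : ∀ a ∈ U, ∀ b ∈ U, a * b = b * a) : False := by
  have hUS := subnormal_le hC.1
  have : Finite U := finite_of_le ‹_› hUS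
  exact Cfsg.Agent.S5148.result p (hS.to_le hUS) C hC.2
    ⟨⟨fun a b => Subtype.ext (h a a.2 b b.2)⟩⟩

/-- The hyperfocal subgroup of an invariant subsystem is strongly closed. -/
theorem hyperfocal_sc_of_invariant (hS : IsPGroup p S) (hF : F.IsSaturated p) {T : Subgroup Ω}
    {L : FusionSystem T} (hL : L.IsInvariantIn F) (hLs : L.IsSaturated p) :
    F.StronglyClosed (L.hyperfocalSubgroup p) := by
  have hT := hL.2.1
  have : Finite T := finite_of_le ‹_› hT.1
  have hH : L.StronglyClosed (L.hyperfocalSubgroup p) := hyperfocal_stronglyClosed (hS.to_le hT.1) hLs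
  have hinv : ∀ α ∈ F.autGroup T, ∀ x (hx : x ∈ L.hyperfocalSubgroup p),
      ((α ⟨x, hH.1 hx⟩ : T) : Ω) ∈ L.hyperfocalSubgroup p := by
    intro α hα
    have hle : L.hyperfocalSubgroup p ≤ ((L.hyperfocalSubgroup p).subgroupOf T |>.comap
        α.toMonoidHom).map T.subtype := by
      rw [hyperfocalSubgroup, Subgroup.closure_le]
      rintro _ ⟨P, a, y, hP, ha, rfl⟩
      have hr := restr_mem F hP (autGroup_mem_hom F hT.1 hα)
      set e := toIso F hr rfl
      have key : ∀ b ∈ pResidual p (L.autGroup P), ∃ c ∈ pResidual p (L.autGroup (restr hP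
          (T.subtype.comp α.toMonoidHom)).range),
          (c : MulAut _) = MulAut.congr e (b : MulAut P) := by
        intro b hb
        induction hb using Subgroup.closure_induction with
        | mem b hb =>
          have h1 := autCongr_mem_of_invariant hS hF hL hP (toIso_isIso F hr rfl) b.2
          refine ⟨⟨_, h1⟩, Subgroup.subset_closure ?_, rfl⟩
          show (orderOf (⟨_, h1⟩ : L.autGroup _)).Coprime p
          rw [Subgroup.orderOf_mk, MulEquiv.orderOf_eq, Subgroup.orderOf_coe]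
          exact hb
        | one => exact ⟨1, one_mem _, (map_one (MulAut.congr e)).symm⟩
        | mul a b _ _ iha ihb =>
          obtain ⟨a', ha', ea⟩ := iha
          obtain ⟨b', hb', eb⟩ := ihb
          exact ⟨a' * b', mul_mem ha' hb', by rw [Subgroup.coe_mul, Subgroup.coe_mul, ea, eb, map_mul]⟩
        | inv a _ iha =>
          obtain ⟨a', ha', ea⟩ := iha
          exact ⟨a'⁻¹, Subgroup.inv_mem _ ha', by rw [Subgroup.coe_inv, Subgroup.coe_inv, ea, map_inv]⟩
      obtain ⟨c, hc, hce⟩ := key a ha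
      refine ⟨⟨_, T.mul_mem (T.inv_mem (hP y.2)) (hP ((a : MulAut P) y).2)⟩, ?_, rfl⟩
      show ((α _ : T) : Ω) ∈ Subgroup.closure _
      refine Subgroup.subset_closure ⟨_, c, e y, ?_, hc, ?_⟩
      · rintro _ ⟨z, rfl⟩
        exact (α _).2
      · rw [hce, autCongr_apply, MulEquiv.symm_apply_apply]
        show _ = ((α ⟨y, hP y.2⟩ : T) : Ω)⁻¹ * (α ⟨((a : MulAut P) y : P), hP (Subtype.mem _)⟩ : Ω)
        have h2 := congrArg (fun z : T => (z : Ω))
          (map_mul α (⟨y, hP y.2⟩ : T)⁻¹ ⟨((a : MulAut P) y : P), hP (Subtype.mem _)⟩)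
        rw [map_inv α (⟨y, hP y.2⟩ : T)] at h2
        exact h2
    intro x hx
    obtain ⟨z, hz, rfl⟩ := hle hx
    exact hz
  refine sc_of_elements (hH.1.trans hT.1) fun P φ hφ x hx => ?_
  obtain ⟨α, hα, e, he, hφe⟩ :=
    hL.2.2.2 (P ⊓ T) inf_le_right _ (restr_mem F inf_le_left hφ)
  have h1 := sc_map_mem hH he (x := ⟨x, x.2, hH.1 hx⟩) hx
  rw [show φ x = (α ⟨e ⟨x, x.2, hH.1 hx⟩, hH.1 h1⟩ : Ω) from hφe ⟨x, x.2, hH.1 hx⟩ (hH.1 h1)]
  exact hinv α hα _ h1

/-- The layer of a normal subsystem is normal. -/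
theorem layer_normal (hS : IsPGroup p S) (hF : F.IsSaturated p) {V T : Subgroup Ω}
    {D : FusionSystem V} (hD : D.IsNormalIn F p) {E : FusionSystem T} (hE : E.IsLayerOf D p) :
    E.IsNormalIn F p := by
  have hV := hD.1.2.2.2.1
  have hVS := hV.1
  have : Finite V := finite_of_le ‹_› hVS
  have hVp := hS.to_le hVS
  have hDi := Cfsg.Agent.S5141.invT_of_invariant hD.1.2.2
  have hTV : T ≤ V := hE.1.1.2.2.2.1.1
  have hTD := hE.1.1.2.2.2.1
  have : Finite T := finite_of_le ‹_› hTV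
  have hmor : ∀ β ∈ F.autGroup V, D.IsMorphism D (V.subtype.comp β.toMonoidHom) := by
    intro β hβ
    refine ⟨fun s => (β s).2, fun P φ hφ => ?_⟩
    obtain ⟨χ, hχ, hχe⟩ := hDi β hβ P φ hφ
    refine ⟨χ, hχ, le_S D hφ, map_mem_S D hφ, fun x => ⟨⟨x, le_S D hφ x.2⟩, x.2, rfl⟩, fun x => ?_⟩
    show χ ⟨((β ⟨x, le_S D hφ x.2⟩ : V) : Ω), _⟩ = ((β ⟨φ x, map_mem_S D hφ x⟩ : V) : Ω)
    rw [← autExt_of_mem β (map_mem_S D hφ x), ← hχe x (autExt_mem_autImage β (le_S D hφ) x.2)]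
    exact congrArg χ (Subtype.ext (autExt_of_mem β (le_S D hφ x.2)).symm)
  have hchar : ∀ β ∈ F.autGroup V, autImage β T = T ∧ ∀ (P : Subgroup Ω) (φ : P →* Ω),
      φ ∈ E.Hom P → ∃ χ ∈ E.Hom (autImage β P), ∀ (x : P) (h : autExt β x ∈ autImage β P),
        χ ⟨autExt β x, h⟩ = autExt β (φ x) := by
    intro β hβ
    obtain ⟨h1, h2⟩ := Cfsg.Agent.S5311.result p hVp D hD.1.1 β (hmor β hβ)
      (hmor β⁻¹ ((F.autGroup V).inv_mem hβ)) E hE
    refine ⟨h1, fun P φ hφ => ?_⟩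
    have hφD := hE.1.1.2.2.1 P hφ
    obtain ⟨χ, -, hχe⟩ := hDi β hβ P φ hφD
    refine ⟨χ, h2 P φ hφ χ ⟨le_S D hφD, map_mem_S D hφD, fun x => ⟨⟨x, le_S D hφD x.2⟩, x.2, rfl⟩,
      fun x => ?_⟩, hχe⟩
    show χ ⟨((β ⟨x, le_S D hφD x.2⟩ : V) : Ω), _⟩ = ((β ⟨φ x, map_mem_S D hφD x⟩ : V) : Ω)
    rw [← autExt_of_mem β (map_mem_S D hφD x), ← hχe x (autExt_mem_autImage β (le_S D hφD) x.2)]
    exact congrArg χ (Subtype.ext (autExt_of_mem β (le_S D hφD x.2)).symm)
  have hpres : ∀ β ∈ F.autGroup V, ∀ x ∈ T, autExt β x ∈ T := fun β hβ x hx =>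
    (hchar β hβ).1 ▸ autExt_mem_autImage β hTV hx
  have hT : F.StronglyClosed T := by
    refine sc_of_elements (hTV.trans hVS) fun P φ hφ x hx => ?_
    obtain ⟨α, hα, e, he, hφe⟩ :=
      hD.1.2.2.2.2.2 (P ⊓ V) inf_le_right _ (restr_mem F inf_le_left hφ)
    have h1 := sc_map_mem hTD he (x := ⟨x, x.2, hTV hx⟩) hx
    rw [show φ x = (α ⟨e ⟨x, x.2, hTV hx⟩, hTV h1⟩ : Ω) from hφe ⟨x, x.2, hTV hx⟩ (hTV h1),
      ← autExt_of_mem α (hTV h1)]
    exact hpres α hα _ h1
  have hTS := hT.1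
  have hEI : InvT F E := by
    intro β hβ P φ hφ
    have hPT := le_S E hφ
    obtain ⟨α, hα, e, he, hbe⟩ := hD.1.2.2.2.2.2 T hTV _ (autGroup_mem_hom F hTS hβ)
    have her : e.range = T := range_eq_of_image_le (D.injective_of_mem he)
      (by rintro _ ⟨x, rfl⟩; exact sc_map_mem hTD he x.2) le_rfl
    set e' : MulAut T := toIso D he her
    obtain ⟨χ₁, hχ₁, hχ₁e⟩ := Cfsg.Agent.S5141.invT_of_invariant hE.1.1.2.2 e'
      (toIso_mem_autGroup D he her) P φ hφ
    obtain ⟨χ₂, hχ₂, hχ₂e⟩ := (hchar α hα).2 _ χ₁ hχ₁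
    have hval : ∀ x ∈ T, autExt β x = autExt α (autExt e' x) := fun x hx => by
      rw [autExt_of_mem e' hx, autExt_of_mem β hx,
        autExt_of_mem α (hTV (e' ⟨x, hx⟩).2)]
      exact hbe ⟨x, hx⟩ (hTV (e' ⟨x, hx⟩).2)
    have hmem : ∀ x (hx : x ∈ P), autExt β x ∈ autImage α (autImage e' P) := fun x hx => by
      rw [hval x (hPT hx)]
      exact autExt_mem_autImage α ((autImage_le e' P).trans hTV) (autExt_mem_autImage e' hPT hx)
    have hle : autImage β P ≤ autImage α (autImage e' P) := fun y hy => by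
      obtain ⟨x, hx, -, hxy⟩ := exists_autExt_eq β (⟨y, hy⟩ : autImage β P)
      have : autExt β x = y := hxy
      exact this ▸ hmem x hx
    refine ⟨restr hle χ₂, restr_mem E hle hχ₂, fun x h => ?_⟩
    have hm := autExt_mem_autImage e' hPT x.2
    show χ₂ ⟨autExt β x, hle h⟩ = _
    have e1 : (⟨autExt β x, hle h⟩ : autImage α (autImage e' P)) =
        ⟨autExt α ((⟨_, hm⟩ : autImage e' P) : Ω),
          autExt_mem_autImage α ((autImage_le e' P).trans hTV) hm⟩ :=
      Subtype.ext (hval x (hPT x.2))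
    rw [e1, hχ₂e, hχ₁e x hm, hval _ (map_mem_S E hφ x)]
  have hEF : E.IsSubsystemOf F := fun P φ hφ => hD.1.2.2.1 P (hE.1.1.2.2.1 P hφ)
  have hEi : E.IsInvariantIn F := Meet.invariant_of hEF hT hEI fun P hP φ hφ => by
    obtain ⟨α, hα, d, hd, hφd⟩ := hD.1.2.2.2.2.2 P (hP.trans hTV) φ hφ
    obtain ⟨γ, hγ, e, he, hde⟩ := hE.1.1.2.2.2.2.2 P hP d hd
    have hr' := restr_mem F hTV (autGroup_mem_hom F hVS hα)
    have hr : (restr hTV (V.subtype.comp α.toMonoidHom)).range = T :=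
      range_eq_of_image_le (F.injective_of_mem hr') (by
        rintro _ ⟨x, rfl⟩
        exact sc_map_mem hT hr' (x := x) x.2) le_rfl
    refine ⟨toIso F hr' hr * γ, mul_mem (toIso_mem_autGroup F hr' hr)
      ((mem_autGroup_iff_hom F hTS).2 (hD.1.2.2.1 T (autGroup_mem_hom D hTV hγ))), e, he,
      fun x => ?_⟩
    have h1 := map_mem_S E he x
    rw [autExt_mul _ _ h1, autExt_of_mem γ h1, ← hde x h1,
      autExt_of_mem _ (show d x ∈ T from (hde x h1).symm ▸ (γ _).2)]
    exact hφd x (map_mem_S D hd x)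
  have hres : (residualSystem E p).IsNormalIn F p :=
    Cfsg.Agent.S5141.result p hS F hF E ⟨hE.1.1.1, hF, hEi⟩ _
      (residual_isPPrimeResidual (hS.to_le hTS) hE.1.1.1)
  have hresD : (residualSystem E p).IsNormalIn D p :=
    Cfsg.Agent.S5141.result p hVp D hD.1.1 E hE.1.1 _
      (residual_isPPrimeResidual (hS.to_le hTS) hE.1.1.1)
  have heq : residualSystem E p = E := fusionSystem_antisymm (residualSystem_sub E)
    (hE.2.2 T _ hresD fun U C hC =>
      component_le_of_le hVp hD.1.1 hC hresD (le_of_sub (hE.2.1 U C hC)))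
  rwa [heq] at hres

/-- The layer is its own layer. -/
theorem layer_self (hS : IsPGroup p S) (hF : F.IsSaturated p) {T : Subgroup Ω}
    {E : FusionSystem T} (hE : E.IsLayerOf F p) : E.IsLayerOf E p := by
  have hTS := hE.1.1.2.2.2.1.1
  have : Finite T := finite_of_le ‹_› hTS
  refine ⟨normal_self hE.1.1.1, fun U C hC => ?_, fun R D hD hDc => ?_⟩
  · exact component_le_of_le (hS.to_le hTS) hE.1.1.1 hC (normal_self hE.1.1.1) (subnormal_le hC.1)
  obtain ⟨V, E', hE'⟩ := exists_layer (hS.to_le hTS) hE.1.1.1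
  have h := hE.2.2 V E' (layer_normal hS hF hE.1 hE') fun U C hC => hE'.2.1 U C
    (component_of_le hS hF hC hE.1 (le_of_sub (hE.2.1 U C hC)))
  exact fun P φ hφ => hE'.2.2 R D hD hDc P (h P hφ)

/-- A system equal to its layer without components is trivial. -/
theorem semisimple_trivial (hS : IsPGroup p S) {T : Subgroup Ω} (hTS : T ≤ S)
    {L : FusionSystem T} (hL : L.IsLayerOf L p)
    (h : ¬ ∃ (U : Subgroup Ω) (C : FusionSystem U), C.IsComponentIn L p) : T = ⊥ := by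
  have : Finite T := finite_of_le ‹_› hTS
  exact le_bot_iff.1 (le_of_sub (hL.2.2 _ _
    (innerSystem_normal (hS.to_le hTS) hL.1.1.1 (isNormal_bot L))
    fun U C hC => absurd ⟨U, C, hC⟩ h))

/-- The semisimple normal closure of a component. -/
theorem exists_closure (hS : IsPGroup p S) (hF : F.IsSaturated p) {U : Subgroup Ω}
    {C : FusionSystem U} (hC : C.IsComponentIn F p) :
    ∃ (T : Subgroup Ω) (L : FusionSystem T), L.IsNormalIn F p ∧ U ≤ T ∧
      L.hyperfocalSubgroup p = T ∧ L.IsLayerOf L p ∧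
      ∀ (R : Subgroup Ω) (M : FusionSystem R), M.IsNormalIn F p → U ≤ R → L.IsSubsystemOf M := by
  classical
  have hex : ∃ n, ∃ (T : Subgroup Ω) (L : FusionSystem T),
      L.IsNormalIn F p ∧ U ≤ T ∧ Nat.card T = n :=
    ⟨_, S, F, normal_self hF, subnormal_le hC.1, rfl⟩
  obtain ⟨T₀, L₀, hL₀, hU, hcard⟩ := Nat.find_spec hex
  have hT₀S := hL₀.1.2.2.2.1.1
  have : Finite T₀ := finite_of_le ‹_› hT₀S
  have hT₀p := hS.to_le hT₀S
  have hR₀ : (residualSystem L₀ p).IsNormalIn F p :=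
    Cfsg.Agent.S5141.result p hS F hF L₀ hL₀.1 _ (residual_isPPrimeResidual hT₀p hL₀.1.1)
  set L₁ := residualSystem L₀ p with hL₁def
  have hmin : ∀ (R : Subgroup Ω) (M : FusionSystem R), M.IsNormalIn F p → U ≤ R →
      L₁.IsSubsystemOf M := by
    intro R M hM hUR
    obtain ⟨N, ⟨hN, -, hNM⟩, -⟩ := Cfsg.Agent.S5129.result p hS F hF L₀ M hL₀ hM
    have hle := Nat.find_min' hex ⟨T₀ ⊓ R, N, hN, le_inf hU hUR, rfl⟩
    have hTR : T₀ ⊓ R = T₀ := eq_of_le_of_card_le inf_le_left (hcard.le.trans hle)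
    have gen : ∀ T' : Subgroup Ω, T₀ = T' → ∀ N : FusionSystem T', N.IsNormalIn F p →
        L₁.IsSubsystemOf N := by
      rintro _ rfl N hN
      exact residual_le_of_invariant hS hF hL₀.1.2.2 hL₀.1.1 hN.1.2.2 hN.1.1
    exact fun P φ hφ => hNM.1.2.2.1 P (gen _ hTR.symm N hN P hφ)
  obtain ⟨T, L, hL⟩ := exists_layer hT₀p hR₀.1.1
  have hLn := layer_normal hS hF hR₀ hL
  have hUT : U ≤ T := le_of_sub (hL.2.1 U C (component_of_le hS hF hC hR₀ hU))
  have hTT₀ : T ≤ T₀ := hL.1.1.2.2.2.1.1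
  have : Finite T := finite_of_le ‹_› hTT₀
  have hT : T = T₀ := eq_of_le_of_card_le hTT₀
    (hcard.le.trans (Nat.find_min' hex ⟨T, L, hLn, hUT, rfl⟩))
  refine ⟨T, L, hLn, hUT, ?_, layer_self hT₀p hR₀.1.1 hL, fun R M hM hUR P φ hφ =>
    hmin R M hM hUR P (hL.1.1.2.2.1 P hφ)⟩
  have hTp := hS.to_le hLn.1.2.2.2.1.1
  have hHT : L.hyperfocalSubgroup p ≤ T := hyperfocal_le L
  have hUH : U ≤ L.hyperfocalSubgroup p := by
    conv_lhs => rw [← hC.2.2.1]
    exact ResidualLimit.hyperfocal_mono (component_le_of_le hS hF hC hLn hUT)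
  obtain ⟨M, hM, hMK⟩ := FusionSub.exists_pPowerIndex hTp hLn.1.1 hHT le_rfl
  have hHsc := hyperfocal_sc_of_invariant hS hF hLn.1.2.2 hLn.1.1
  have hMi := ResidualLimit.invariant_of_pPowerIndex hS hF hLn.1.2.2 hLn.1.1 hHT hHsc hM hMK
  have : Finite ↥(L.hyperfocalSubgroup p) := finite_of_le ‹_› hHT
  have hMr := Cfsg.Agent.S5141.result p hS F hF M ⟨hM, hF, hMi⟩ _
    (residual_isPPrimeResidual (hTp.to_le hHT) hM)
  refine eq_of_le_of_card_le hHT
    ((le_of_eq (congrArg (fun X : Subgroup Ω => Nat.card X) hT)).trans ?_)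
  exact hcard.le.trans (Nat.find_min' hex ⟨_, _, hMr, hUH, rfl⟩)

end Cfsg.Agent.Tech.Meet
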