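import Cfsg.Agent.Tech.CommutingMoves
import Cfsg.Agent.Tech.CentralProduct
import Cfsg.Agent.FusionAlperin.Quasisimple
import Cfsg.Agent.FusionSub.PIndex

/-!
A normal subsystem `L` over `T` centralizes a strongly closed subgroup `W` commuting with `T`
when `T ⊓ W` is central in `L`.
-/

set_option autoImplicit false

open Cfsg Cfsg.FusionSystem
open Cfsg.Agent.FusionSys Cfsg.Agent.FusionAlperin

namespace Cfsg.Agent.Tech.Commuting

universe u

variable {Ω : Type u} [Group Ω] {S T W : Subgroup Ω} {p : ℕ} [Finite S] [Fact p.Prime]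
  {F : FusionSystem S}

/-- An abelian strongly closed subgroup is normal. -/
theorem sc_comm_normal (hS : IsPGroup p S) (hF : F.IsSaturated p) {Q : Subgroup Ω}
    (hQ : F.StronglyClosed Q) (hc : ∀ a ∈ Q, ∀ b ∈ Q, a * b = b * a) : F.IsNormal Q := by
  refine isNormal_of_series hS hF (n := 1) (Qs := ![⊥, Q]) rfl rfl ?_ (fun i => ?_) fun i => ?_
  · intro i j hij
    fin_cases i <;> fin_cases j <;> simp_all
  · obtain rfl : i = 0 := Subsingleton.elim _ _
    exact hQ
  · obtain rfl : i = 0 := Subsingleton.elim _ _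
    show ⁅Q, Q⁆ ≤ ⊥
    rw [Subgroup.commutator_le]
    intro a ha b hb
    exact Subgroup.mem_bot.2 (commutatorElement_eq_one_iff_mul_comm.2 (hc a ha b hb))

/-- A subsystem centralizing a normal subgroup has central intersection with it. -/
theorem isCentral_of_centralizes (hS : IsPGroup p S) {L : FusionSystem T}
    (hL : L.IsWeaklyNormalIn F p) {Q : Subgroup Ω} (hQ : F.IsNormal Q) (h : Centralizes F L Q) :
    L.IsCentral (T ⊓ Q) := by
  refine ⟨inf_le_left, fun P φ hφ => ?_⟩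
  obtain ⟨ψ, hψ, h1, -⟩ := (inf_isNormal_of_weaklyNormal hS hL hQ).2 P φ hφ
  refine ⟨ψ, hψ, h1, fun x => ?_⟩
  obtain ⟨-, -, -, χ, -, hχ1, hχ2⟩ := h _ hψ
  rw [← hχ1]
  exact Eq.trans (congrArg χ (Subtype.ext rfl)) (hχ2 ⟨x, x.2.2⟩)

/-- A `p'`-automorphism extends fixing `W` pointwise. -/
theorem exists_fix (hS : IsPGroup p S) (hF : F.IsSaturated p) {L : FusionSystem T}
    (hL : L.IsNormalIn F p) (hW : F.StronglyClosed W)
    (hWR : ∀ w ∈ W, ∀ r ∈ T ⊓ W, w * r = r * w) (hR : L.IsCentral (T ⊓ W)) {P : Subgroup Ω}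
    (hP : P ≤ T) {a : MulAut P} (ha : a ∈ L.autGroup P) (ho : Nat.Coprime (orderOf a) p) :
    ∃ ψ ∈ F.Hom (P ⊔ W), (∀ x : P, ψ (Subgroup.inclusion le_sup_left x) = a x) ∧
      ∀ x : W, ψ (Subgroup.inclusion le_sup_right x) = x := by
  have hT := hL.1.2.2.2.1
  have hTS := hT.1
  have hWS := hW.1
  set R := T ⊓ W with hRdef
  set U := P ⊔ R with hUdef
  obtain ⟨f, hf, hfP, hfR⟩ := hR.2 P _ (autGroup_mem_hom L hP ha)
  have hUT : U ≤ T := le_S L hf
  have : Finite U := finite_of_le ‹_› (hUT.trans hTS)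
  have hfv : ∀ x : P, f ⟨x, Subgroup.mem_sup_left x.2⟩ = a x := fun x => hfP x
  have hfr : ∀ x : R, f ⟨x, Subgroup.mem_sup_right x.2⟩ = x := fun x => hfR x
  have hr : f.range = U := range_eq_of_image_le (L.injective_of_mem hf) (range_le_sup_of_le f
    (fun x hx => Subgroup.mem_sup_left ((hfv ⟨x, hx⟩).symm ▸ (a ⟨x, hx⟩).2))
    (fun x hx => Subgroup.mem_sup_right ((hfr ⟨x, hx⟩).symm ▸ hx))) le_rfl
  set e : MulAut U := toIso L hf hr
  have he : e ∈ L.autGroup U := toIso_mem_autGroup L hf hr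
  have hev : ∀ u : U, (e u : Ω) = f u := fun u => rfl
  have heP : ∀ (n : ℕ) (x : P), ((e ^ n) ⟨x, Subgroup.mem_sup_left x.2⟩ : Ω) = (a ^ n) x := by
    intro n
    induction n with
    | zero => intro x; rfl
    | succ n ih =>
      intro x
      rw [pow_succ', MulAut.mul_apply, pow_succ', MulAut.mul_apply, ← hfv ((a ^ n) x)]
      exact congrArg (fun u => f u) (Subtype.ext (ih x))
  have heR : ∀ (n : ℕ) (x : R), ((e ^ n) ⟨x, Subgroup.mem_sup_right x.2⟩ : Ω) = x := by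
    intro n
    induction n with
    | zero => intro x; rfl
    | succ n ih =>
      intro x
      rw [pow_succ', MulAut.mul_apply, hev]
      exact (congrArg (fun u => f u) (Subtype.ext (ih x))).trans (hfr x)
  have hord : e ^ orderOf a = 1 := by
    refine MulEquiv.ext fun u => Subtype.ext ?_
    refine CProd.hom_eq_sup (U.subtype.comp (e ^ orderOf a).toMonoidHom) U.subtype
      (fun x => ?_) (fun x => ?_) u
    · show ((e ^ orderOf a) ⟨x, _⟩ : Ω) = x
      rw [heP, pow_orderOf_eq_one]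
      rfl
    · exact heR _ x
  -- extend across `W`
  set V := U ⊔ W with hVdef
  obtain ⟨ψ₀, hψ₀, hψU, hψW⟩ :=
    exists_ext_moves_sc hS hF hL hW hWR hR (autGroup_mem_hom L hUT he)
  have hVS : V ≤ S := sup_le (hUT.trans hTS) hWS
  have : Finite V := finite_of_le ‹_› hVS
  have hψu : ∀ u : U, ψ₀ ⟨u, Subgroup.mem_sup_left u.2⟩ = e u := fun u => hψU u
  have hψr : ψ₀.range = V := range_eq_of_image_le (F.injective_of_mem hψ₀) (range_le_sup_of_le ψ₀
    (fun x hx => Subgroup.mem_sup_left ((hψu ⟨x, hx⟩).symm ▸ (e ⟨x, hx⟩).2))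
    (fun x hx => Subgroup.mem_sup_right (by
      have := W.mul_mem hx (hψW x hx).2
      rwa [mul_inv_cancel_left] at this))) le_rfl
  set g : MulAut V := toIso F hψ₀ hψr
  have hg : g ∈ F.autGroup V := toIso_mem_autGroup F hψ₀ hψr
  have hgu : ∀ (n : ℕ) (u : U),
      ((g ^ n) ⟨u, Subgroup.mem_sup_left u.2⟩ : Ω) = (e ^ n) u := by
    intro n
    induction n with
    | zero => intro u; rfl
    | succ n ih =>
      intro u
      rw [pow_succ', MulAut.mul_apply, pow_succ', MulAut.mul_apply, ← hψu ((e ^ n) u)]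
      exact congrArg (fun v => ψ₀ v) (Subtype.ext (ih u))
  have hRp : IsPGroup p R := hS.to_le (inf_le_left.trans hTS)
  have : Finite R := finite_of_le ‹_› (inf_le_left.trans hTS)
  obtain ⟨m, hm⟩ := hRp.exists_card_eq
  have hgw : ∀ (n : ℕ) (w : W), ((g ^ n) ⟨w, Subgroup.mem_sup_right w.2⟩ : Ω) =
      w * ((w : Ω)⁻¹ * ψ₀ ⟨w, Subgroup.mem_sup_right w.2⟩) ^ n := by
    intro n
    induction n with
    | zero => intro w; simp
    | succ n ih =>
      intro w
      have hz := hψW w w.2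
      set z : R := ⟨_, hz⟩
      have ez : ψ₀ ⟨z, Subgroup.mem_sup_left (Subgroup.mem_sup_right z.2)⟩ = (z : Ω) :=
        (hψu ⟨z, Subgroup.mem_sup_right z.2⟩).trans (hfr z)
      have e1 : (g ^ n) ⟨w, Subgroup.mem_sup_right w.2⟩ =
          (⟨w, Subgroup.mem_sup_right w.2⟩ : V) *
            ⟨z, Subgroup.mem_sup_left (Subgroup.mem_sup_right z.2)⟩ ^ n := Subtype.ext (ih w)
      rw [pow_succ', MulAut.mul_apply, e1]
      show ψ₀ _ = _
      rw [map_mul, map_pow, ez, pow_succ', ← mul_assoc, ← mul_assoc, mul_inv_cancel, one_mul]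
  have hop : Nat.Coprime (orderOf a) (p ^ m) := ho.pow_right m
  obtain ⟨k, hk1, hk2⟩ := Nat.chineseRemainder hop 1 0
  have hgk := (F.autGroup V).pow_mem hg k
  have hle : P ⊔ W ≤ V := sup_le_sup_right le_sup_left W
  refine ⟨restr hle (V.subtype.comp (g ^ k).toMonoidHom),
    restr_mem F hle (autGroup_mem_hom F hVS hgk), fun x => ?_, fun x => ?_⟩
  · show ((g ^ k) ⟨(⟨x, Subgroup.mem_sup_left x.2⟩ : U), _⟩ : Ω) = a x
    rw [hgu]
    have ek : e ^ k = e := by
      conv_rhs => rw [← pow_one e]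
      exact pow_eq_pow_iff_modEq.2 (hk1.of_dvd (orderOf_dvd_of_pow_eq_one hord))
    rw [ek, hev]
    exact hfv x
  · show ((g ^ k) ⟨(x : Ω), _⟩ : Ω) = x
    rw [hgw]
    have hdvd : p ^ m ∣ k := Nat.modEq_zero_iff_dvd.1 hk2
    set z : R := ⟨_, hψW x x.2⟩
    have h1 : z ^ k = 1 := orderOf_dvd_iff_pow_eq_one.1
      ((hm ▸ orderOf_dvd_natCard z : orderOf z ∣ p ^ m).trans hdvd)
    have h2 : (z : Ω) ^ k = 1 := congrArg Subtype.val h1
    rw [h2, mul_one]

omit [Finite S] [Fact p.Prime] in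
/-- The hyperfocal subgroup commutes with `W` when `p'`-automorphisms extend fixing `W`. -/
theorem comm_of_fix {L : FusionSystem T} (hTS : T ≤ S) (hW : F.StronglyClosed W)
    (h : ∀ P, P ≤ T → ∀ a : MulAut P, a ∈ L.autGroup P → Nat.Coprime (orderOf a) p →
      ∃ ψ ∈ F.Hom (P ⊔ W), (∀ x : P, ψ (Subgroup.inclusion le_sup_left x) = a x) ∧
        ∀ x : W, ψ (Subgroup.inclusion le_sup_right x) = x) :
    ∀ z ∈ L.hyperfocalSubgroup p, ∀ w ∈ W, z * w = w * z := by
  suffices hle : L.hyperfocalSubgroup p ≤ centralizerIn S W from fun z hz w hw =>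
    (Subgroup.mem_centralizer_iff.1 (hle hz).2 w hw).symm
  rw [hyperfocalSubgroup, Subgroup.closure_le]
  rintro _ ⟨P, α, x, hP, hα, rfl⟩
  suffices hs : ∀ β ∈ pResidual p (L.autGroup P),
      ∀ y : P, (y : Ω)⁻¹ * ((β : MulAut P) y : P) ∈ centralizerIn S W from hs α hα x
  intro β hβ
  induction hβ using Subgroup.closure_induction with
  | mem β hβ =>
    intro y
    obtain ⟨ψ, hψ, h1, h2⟩ := h P hP β β.2 (by rw [Subgroup.orderOf_coe]; exact hβ)
    refine ⟨S.mul_mem (S.inv_mem (hTS (hP y.2))) (hTS (hP (Subtype.mem _))),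
      Subgroup.mem_centralizer_iff.2 fun q hq => ?_⟩
    set z := ((β : MulAut P) y : P)
    have hq' : (y : Ω) * q * (y : Ω)⁻¹ ∈ W := sc_conj_mem hW (hTS (hP y.2)) hq
    have e1 : ψ ⟨y, Subgroup.mem_sup_left y.2⟩ = (z : Ω) := h1 y
    have e2 : ψ ⟨q, Subgroup.mem_sup_right hq⟩ = q := h2 ⟨q, hq⟩
    have e3 : (z : Ω) * q * (z : Ω)⁻¹ = (y : Ω) * q * (y : Ω)⁻¹ := by
      have e4 : ψ ⟨_, Subgroup.mem_sup_right hq'⟩ = (y : Ω) * q * (y : Ω)⁻¹ := h2 ⟨_, hq'⟩
      rw [← e4, ← e1]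
      conv_lhs => rw [← e2]
      rw [← map_inv, ← map_mul, ← map_mul]
      exact congrArg ψ (Subtype.ext rfl)
    calc q * ((y : Ω)⁻¹ * z) = (y : Ω)⁻¹ * ((y : Ω) * q * (y : Ω)⁻¹) * z := by group
      _ = (y : Ω)⁻¹ * z * q := by rw [← e3]; group
  | one => intro y; simp
  | mul a b _ _ iha ihb =>
    intro y
    have := (centralizerIn S W).mul_mem (ihb y) (iha ((b : MulAut P) y))
    simpa [mul_assoc] using this
  | inv a _ iha =>
    intro y
    have := (centralizerIn S W).inv_mem (iha ((a : MulAut P)⁻¹ y))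
    simpa using this

/-- A saturated subsystem commuting with `W` centralizes it when `p'`-automorphisms fix it. -/
theorem centralizes_of_fix (hS : IsPGroup p S) {L : FusionSystem T} (hLs : L.IsSaturated p)
    (hsub : L.IsSubsystemOf F) (hTS : T ≤ S) (hWS : W ≤ S)
    (hc : ∀ t ∈ T, ∀ w ∈ W, t * w = w * t)
    (h : ∀ P, P ≤ T → ∀ a : MulAut P, a ∈ L.autGroup P → Nat.Coprime (orderOf a) p →
      ∃ ψ ∈ F.Hom (P ⊔ W), (∀ x : P, ψ (Subgroup.inclusion le_sup_left x) = a x) ∧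
        ∀ x : W, ψ (Subgroup.inclusion le_sup_right x) = x) :
    Centralizes F L W := by
  have : Finite T := finite_of_le ‹_› hTS
  have hTC : T ≤ centralizerIn S W := fun t ht =>
    ⟨hTS ht, Subgroup.mem_centralizer_iff.2 fun w hw => (hc t ht w hw).symm⟩
  refine FusionSub.le_of_pResidual_le (hS.to_le hTS) hLs (centSys F W hWS) hTC fun P hP => ?_
  rw [Subgroup.map_le_iff_le_comap, pResidual, Subgroup.closure_le]
  intro a ha
  obtain ⟨ψ, hψ, h1, h2⟩ := h P hP a a.2 (by rw [Subgroup.orderOf_coe]; exact ha)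
  refine (mem_autGroup _ (hP.trans hTC)).2 ?_
  exact mem_centralizerHom (hP.trans hTC) (hsub P (autGroup_mem_hom L hP a.2)) hψ h1 h2

/-- A normal subsystem centralizes what it commutes with, modulo a central intersection. -/
theorem centralizes_of_central (hS : IsPGroup p S) (hF : F.IsSaturated p) {L : FusionSystem T}
    (hL : L.IsNormalIn F p) (hW : F.StronglyClosed W) (hc : ∀ t ∈ T, ∀ w ∈ W, t * w = w * t)
    (hR : L.IsCentral (T ⊓ W)) : Centralizes F L W :=
  centralizes_of_fix hS hL.1.1 hL.1.2.2.1 hL.1.2.2.2.1.1 hW.1 hc fun _ hP _ ha ho =>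
    exists_fix hS hF hL hW (fun w hw r hr => (hc r hr.1 w hw).symm) hR hP ha ho

/-- The hyperfocal subgroup of a normal subsystem commutes with `W`. -/
theorem hyperfocal_comm (hS : IsPGroup p S) (hF : F.IsSaturated p) {L : FusionSystem T}
    (hL : L.IsNormalIn F p) (hW : F.StronglyClosed W)
    (hWR : ∀ w ∈ W, ∀ r ∈ T ⊓ W, w * r = r * w) (hR : L.IsCentral (T ⊓ W)) :
    ∀ z ∈ L.hyperfocalSubgroup p, ∀ w ∈ W, z * w = w * z :=
  comm_of_fix hL.1.2.2.2.1.1 hW fun _ hP _ ha ho => exists_fix hS hF hL hW hWR hR hP ha ho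

end Cfsg.Agent.Tech.Commuting
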