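import Cfsg.Agent.FusionAlperin.Quasisimple
import Cfsg.Agent.FusionQd.ResidualSeries
import Cfsg.Agent.S5141

/-!
A quasisimple system is its own `p'`-residual.
-/

set_option autoImplicit false

open Cfsg Cfsg.FusionSystem
open Cfsg.Agent.FusionSys Cfsg.Agent.FusionAlperin

namespace Cfsg.Agent.Tech.Meet

universe u

variable {Ω : Type u} [Group Ω] {S : Subgroup Ω} {p : ℕ}

theorem normal_self {F : FusionSystem S} (hF : F.IsSaturated p) : F.IsNormalIn F p := by
  refine ⟨⟨hF, hF, FusionQd.invariant_self F⟩, ?_⟩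
  have gen : ∀ U : Subgroup Ω, S = U → ∀ (h : S ≤ U) (a : MulAut S), a ∈ F.autGroup S →
      ∃ β ∈ F.autGroup U, (∀ x : S, (β (Subgroup.inclusion h x) : Ω) = a x) ∧
        ∀ c : U, (c : Ω) ∈ centralizerIn S S →
          (c : Ω)⁻¹ * (β c : Ω) ∈ S ⊓ Subgroup.centralizer (S : Set Ω) := by
    rintro _ rfl h a ha
    refine ⟨a, ha, fun x => rfl, fun c hc => ⟨S.mul_mem (S.inv_mem c.2) (a c).2, ?_⟩⟩
    refine (Subgroup.centralizer _).mul_mem ((Subgroup.centralizer _).inv_mem hc.2)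
      (Subgroup.mem_centralizer_iff.2 fun t ht => ?_)
    obtain ⟨w, hw⟩ := a.surjective ⟨t, ht⟩
    have e : w * c = c * w := Subtype.ext (Subgroup.mem_centralizer_iff.1 hc.2 _ w.2)
    have e2 := congrArg (fun s => (a s : Ω)) e
    simp only [map_mul, Subgroup.coe_mul, hw] at e2
    exact e2
  intro a ha
  exact gen _ (sup_eq_left.2 (centralizerIn_le S)).symm le_sup_left a ha

variable [Finite S] [Fact p.Prime]

theorem mem_pElemGroup {C : FusionSystem S} {P : Subgroup Ω} {a : MulAut P} (ha : a ∈ C.autGroup P)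
    {k : ℕ} (hk : a ^ p ^ k = 1) : a ∈ pElemGroup C p P := by
  refine ⟨⟨a, ha⟩, Subgroup.subset_closure ?_, rfl⟩
  obtain ⟨i, -, hi⟩ := (Nat.dvd_prime_pow (Fact.out : p.Prime)).1
    (orderOf_dvd_of_pow_eq_one hk)
  exact ⟨i, (Subgroup.orderOf_mk a ha).trans hi⟩

/-- The maps of a quasisimple system are maps of its `p'`-residual. -/
theorem quasisimple_residual {C : FusionSystem S} (hS : IsPGroup p S) (hC : C.Quasisimple p) :
    C ≤ residualSystem C p := by
  obtain ⟨hCs, -, hsimple⟩ := hC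
  set R0 := residualSystem C p
  have hR0C : R0.IsSubsystemOf C := residualSystem_sub C
  have hR0s : R0.IsSaturated p := residual_saturated hS hCs
  have hZc := isCentral_center C
  have hZ := isNormal_stronglyClosed (isCentral_isNormal hZc)
  set Z := C.center
  have hZR : R0.StronglyClosed Z :=
    ⟨hZ.1, fun R hR φ hφ x => hZ.2 R hR φ (hR0C R hφ) x⟩
  set θ := QuotientGroup.mk' (Z.subgroupOf S)
  have hker : ∀ s : S, θ s = 1 ↔ (s : Ω) ∈ Z := fun s => QuotientGroup.eq_one_iff s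
  have hrange : θ.range = ⊤ := MonoidHom.range_eq_top.2 (QuotientGroup.mk'_surjective _)
  have hE := factorSystem_isFactorSystem C hZ θ hker hrange
  set E := factorSystem C hZ θ hker hrange
  obtain ⟨hEs, hne, hnor⟩ := hsimple _ hE
  have hp' : IsPGroup p (⊤ : Subgroup (S ⧸ Z.subgroupOf S)) :=
    (hS.to_quotient _).to_subgroup _
  set D := factorSystem R0 hZR θ hker hrange
  have hDf := factorSystem_isFactorSystem R0 hZR θ hker hrange
  have hDs : D.IsSaturated p :=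
    saturated_of_surjective hS hR0s (isSurjectiveMorphism_factor hS hR0s hZR hDf)
  have hres : (residualSystem E p).IsNormalIn E p :=
    Cfsg.Agent.S5141.result p hp' E hEs E ⟨hEs, hEs, FusionQd.invariant_self E⟩ _
      (residual_isPPrimeResidual hp' hEs)
  rcases hnor _ _ hres with h | ⟨-, hall⟩
  · exact absurd h hne
  have hfix : ∀ {P : Subgroup Ω} {φ : P →* Ω}, φ ∈ C.Hom P → ∀ x : P, (x : Ω) ∈ Z →
      φ x = x := by
    intro P φ hφ x hx
    obtain ⟨ψ, -, h1, h2⟩ := hZc.2 P φ hφ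
    rw [← h1 x]
    exact Eq.trans (congrArg ψ (Subtype.ext rfl)) (h2 ⟨x, hx⟩)
  -- the image of the residual has index prime to `p`
  have hindex : D.HasPrimeToPIndexIn E p := by
    refine ⟨?_, fun P' hP' => ?_⟩
    · rintro P' φ' ⟨h1, φ, hφ, h2⟩
      exact ⟨h1, φ, hR0C _ hφ, h2⟩
    rw [Subgroup.map_le_iff_le_comap, Subgroup.closure_le]
    rintro α' ⟨k, hk⟩
    have hP'r : P' ≤ θ.range := hP'.trans hrange.ge
    obtain ⟨-, φ, hφ, hind⟩ := autGroup_mem_hom E hP' α'.2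
    have hPS := preimageAlong_le (θ := θ) P'
    have : Finite (preimageAlong θ P') := finite_of_le ‹_› hPS
    have hr : φ.range = preimageAlong θ P' := range_eq_of_image_le (C.injective_of_mem hφ) (by
      rintro _ ⟨y, rfl⟩
      obtain ⟨hyS, he⟩ := inducedAlong_apply hind y
      exact mem_preimageAlong.2 ⟨hyS, he ▸ ((α' : MulAut P') _).2⟩) le_rfl
    set a : MulAut (preimageAlong θ P') := toIso C hφ hr
    have ha : a ∈ C.autGroup (preimageAlong θ P') := toIso_mem_autGroup C hφ hr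
    have hae : ∀ y : preimageAlong θ P',
        θ ⟨a y, hPS (a y).2⟩ =
          ((α' : MulAut P') ⟨θ ⟨y, hPS y.2⟩, theta_mem_of_mem_preimage y⟩ : S ⧸ Z.subgroupOf S) := by
      intro y
      obtain ⟨hyS, he⟩ := inducedAlong_apply hind y
      exact he.symm
    have hpow : ∀ (n : ℕ) (y : preimageAlong θ P'),
        θ ⟨(a ^ n) y, hPS ((a ^ n) y).2⟩ =
          (((α' : MulAut P') ^ n) ⟨θ ⟨y, hPS y.2⟩, theta_mem_of_mem_preimage y⟩ :
            S ⧸ Z.subgroupOf S) := by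
      intro n
      induction n with
      | zero => intro y; simp
      | succ n ih =>
        intro y
        rw [pow_succ, pow_succ, MulAut.mul_apply, MulAut.mul_apply]
        refine (ih (a y)).trans (congrArg (fun w => ((((α' : MulAut P') ^ n) w : P') :
          S ⧸ Z.subgroupOf S)) (Subtype.ext ?_))
        exact hae y
    obtain ⟨e, m, hm, ho⟩ := Nat.exists_eq_pow_mul_and_not_dvd (orderOf_pos a).ne' p
      (Fact.out : p.Prime).ne_one
    have hmp : Nat.Coprime m p := (((Fact.out : p.Prime).coprime_iff_not_dvd).2 hm).symm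
    obtain ⟨l, hl⟩ := exists_pow_eq_self_of_coprime (n := m) (x := (α' : MulAut P'))
      (by rw [Subgroup.orderOf_coe, hk]; exact Nat.Coprime.pow_right k hmp)
    have hl' : (α' : MulAut P') ^ (m * l) = α' := by rw [pow_mul, hl]
    have hb : (a ^ (m * l)) ^ p ^ e = 1 := by
      rw [← pow_mul, show m * l * p ^ e = orderOf a * l by rw [ho]; ring, pow_mul,
        pow_orderOf_eq_one, one_pow]
    have hbR : a ^ (m * l) ∈ R0.autGroup (preimageAlong θ P') :=
      (residual_index hS hCs).2 _ hPS (mem_pElemGroup (pow_mem ha _) hb)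
    refine (mem_autGroup_iff_hom D hP').2 ⟨hP', _, autGroup_mem_hom R0 hPS hbR, hPS,
      fun y => hPS ((a ^ (m * l)) y).2, theta_mem_of_mem_preimage, fun y => ?_⟩
    have h1 := hpow (m * l) y
    rw [hl'] at h1
    exact h1.symm
  have hED : E ≤ D := fun P' φ' hφ' => residual_least hp' hEs hDs hindex P' ((hall P').ge hφ')
  intro P φ₀ hφ₀
  obtain ⟨ψ, hψ, hψP, -⟩ := hZc.2 P φ₀ hφ₀
  suffices key : ∀ Q : Subgroup Ω, Z ≤ Q → ∀ φ : Q →* Ω, φ ∈ C.Hom Q → φ ∈ R0.Hom Q from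
    mem_hom_congr R0 (restr_mem R0 le_sup_left (key _ le_sup_right ψ hψ)) fun x => (hψP x).symm
  intro Q hZQ φ hφ
  have hQS := le_S C hφ
  have : Finite Q := finite_of_le ‹_› hQS
  obtain ⟨φ', hφ', hind⟩ := (isSurjectiveMorphism_factor hS hCs hZ hE).1.2 Q φ hφ
  obtain ⟨-, φ₁, hφ₁, hind₁⟩ := hED _ hφ'
  have hpre : preimageAlong θ (imageAlong θ Q) = Q := preimageAlong_imageAlong_eq hQS hZQ hker
  have hgen : ∀ Q₁ : Subgroup Ω, Q = Q₁ → ∀ φ₁ : Q₁ →* Ω, φ₁ ∈ R0.Hom Q₁ →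
      InducedAlong θ φ₁ φ' → φ ∈ R0.Hom Q := by
    rintro _ rfl φ₁ hφ₁ hind₁
    obtain ⟨hQ₁, hv₁, hm₁, he₁⟩ := hind₁
    obtain ⟨hQ₀, hv, hm, he⟩ := hind
    have hcong : ∀ x : Q, (φ₁ x)⁻¹ * φ x ∈ Z := fun x => by
      refine (hker ⟨_, S.mul_mem (S.inv_mem (hv₁ x)) (hv x)⟩).1 ?_
      show θ ((⟨φ₁ x, hv₁ x⟩ : S)⁻¹ * ⟨φ x, hv x⟩) = 1
      rw [map_mul, map_inv, ← he x, ← he₁ x, inv_mul_cancel]
    have hZr : ∀ z ∈ Z, z ∈ φ₁.range := fun z hz =>
      ⟨⟨z, hZQ hz⟩, hfix (hR0C _ hφ₁) ⟨z, hZQ hz⟩ hz⟩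
    set e₁ := toIso C (hR0C _ hφ₁) rfl
    have hr : φ.range = φ₁.range := by
      have hfin : Finite φ₁.range := Finite.of_equiv _ e₁.toEquiv
      refine eq_of_le_of_card_le ?_ ?_
      · rintro _ ⟨x, rfl⟩
        have h := φ₁.range.mul_mem ⟨x, rfl⟩ (hZr _ (hcong x))
        rwa [mul_inv_cancel_left] at h
      · rw [← Nat.card_congr (toIso C hφ rfl).toEquiv, ← Nat.card_congr e₁.toEquiv]
    set δ : MulAut Q := (toIso C hφ hr).trans e₁.symm
    have hδ : δ ∈ C.autGroup Q := (mem_autGroup C hQS).2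
      ((toIso_isIso C hφ hr).trans (toIso_isIso C _ _).symm)
    have hδe : ∀ x : Q, φ₁ (δ x) = φ x := fun x =>
      congrArg Subtype.val (e₁.apply_symm_apply (toIso C hφ hr x))
    have hdisp : ∀ x : Q, x⁻¹ * δ x ∈ Z.subgroupOf Q := fun x => by
      rw [Subgroup.mem_subgroupOf]
      have h1 := hcong x
      rw [← hδe x, ← map_inv, ← map_mul] at h1
      exact (sc_map_mem_iff hZR hφ₁ _).1 h1
    have hord : δ ^ Nat.card (Z.subgroupOf Q) = 1 := MulEquiv.ext fun x =>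
      iterate_eq_of_stab δ (fun y hy => Subtype.ext
        (hfix (autGroup_mem_hom C hQS hδ) y (Subgroup.mem_subgroupOf.1 hy))) (hdisp x)
    obtain ⟨k, hk⟩ := ((hS.to_le hQS).to_subgroup (Z.subgroupOf Q)).exists_card_eq
    rw [hk] at hord
    have hδR : δ ∈ R0.autGroup Q := (residual_index hS hCs).2 _ hQS (mem_pElemGroup hδ hord)
    exact mem_hom_congr R0 (R0.comp_mem (autGroup_mem_hom R0 hQS hδR) hφ₁ fun x => (δ x).2)
      fun x => (hδe x).symm
  exact hgen _ hpre.symm φ₁ hφ₁ hind₁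

end Cfsg.Agent.Tech.Meet
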