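import Cfsg.Agent.S5129
import Cfsg.Agent.Tech.QuasisimpleResidual

/-!
The layer of a saturated fusion system.
-/

set_option autoImplicit false

open Cfsg Cfsg.FusionSystem
open Cfsg.Agent.FusionSys Cfsg.Agent.FusionAlperin

namespace Cfsg.Agent.Tech.Meet

universe u

variable {Ω : Type u} [Group Ω] {S : Subgroup Ω} {p : ℕ}

theorem subnormal_le {U S : Subgroup Ω} {C : FusionSystem U} {F : FusionSystem S}
    (h : C.IsSubnormalIn F p) : U ≤ S := by
  induction h with
  | refl => exact le_rfl
  | step _ hD ih => exact ih.trans hD.1.2.2.2.1.1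

theorem residual_le_aux {U S : Subgroup Ω} {C : FusionSystem U} {F : FusionSystem S}
    (h : C.IsSubnormalIn F p) : ∀ [Fact p.Prime], IsPGroup p S → Finite S → F.IsSaturated p →
      ∀ (T : Subgroup Ω) (M : FusionSystem T), M.IsNormalIn F p → U ≤ T →
        (residualSystem C p).IsSubsystemOf M := by
  induction h with
  | refl F p =>
    intro hp hS hfin hF T M hM hle
    obtain rfl := le_antisymm hM.1.2.2.2.1.1 hle
    exact residual_le_of_invariant hS hF (FusionQd.invariant_self F) hF hM.1.2.2 hM.1.1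
  | @step V S C D F p hCD hD ih =>
    intro hp hS hfin hF T M hM hle
    have hVS : V ≤ S := hD.1.2.2.2.1.1
    obtain ⟨D', ⟨-, hDD, hDM⟩, -⟩ := Cfsg.Agent.S5129.result p hS F hF D M hD hM
    exact fun P φ hφ => hDM.1.2.2.1 P (ih (hS.to_le hVS) (finite_of_le hfin hVS) hD.1.1 _ D' hDD
      (le_inf (subnormal_le hCD) hle) P hφ)

variable [Finite S] [Fact p.Prime] {F : FusionSystem S}

/-- A component lies in every normal subsystem over a subgroup containing its Sylow subgroup. -/
theorem component_le_of_le (hS : IsPGroup p S) (hF : F.IsSaturated p) {U T : Subgroup Ω}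
    {C : FusionSystem U} (hC : C.IsComponentIn F p) {M : FusionSystem T} (hM : M.IsNormalIn F p)
    (hle : U ≤ T) : C.IsSubsystemOf M := by
  have hUS := subnormal_le hC.1
  have : Finite U := finite_of_le ‹_› hUS
  exact fun P φ hφ => residual_le_aux hC.1 hS ‹_› hF T M hM hle P
    (quasisimple_residual (hS.to_le hUS) hC.2 P hφ)

theorem le_of_sub {U T : Subgroup Ω} {C : FusionSystem U} {E : FusionSystem T}
    (h : C.IsSubsystemOf E) : U ≤ T := le_S E (h U (subtype_mem C le_rfl))

/-- Every saturated system over a finite `p`-group has a layer. -/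
theorem exists_layer (hS : IsPGroup p S) (hF : F.IsSaturated p) :
    ∃ (T : Subgroup Ω) (E : FusionSystem T), E.IsLayerOf F p := by
  classical
  have hex : ∃ n, ∃ (T : Subgroup Ω) (E : FusionSystem T), E.IsNormalIn F p ∧
      (∀ (U : Subgroup Ω) (C : FusionSystem U), C.IsComponentIn F p → U ≤ T) ∧
      Nat.card T = n :=
    ⟨_, S, F, normal_self hF, fun U C hC => subnormal_le hC.1, rfl⟩
  obtain ⟨T, E, hE, hcomp, hcard⟩ := Nat.find_spec hex
  have hTS : T ≤ S := hE.1.2.2.2.1.1
  have : Finite T := finite_of_le ‹_› hTS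
  have hTp := hS.to_le hTS
  have hE₀ : (residualSystem E p).IsNormalIn F p :=
    Cfsg.Agent.S5141.result p hS F hF E hE.1 _ (residual_isPPrimeResidual hTp hE.1.1)
  refine ⟨T, residualSystem E p, hE₀,
    fun U C hC => component_le_of_le hS hF hC hE₀ (hcomp U C hC), fun R D hD hDc => ?_⟩
  obtain ⟨M, ⟨hM, -, hMD⟩, -⟩ := Cfsg.Agent.S5129.result p hS F hF E D hE hD
  have hle : Nat.find hex ≤ Nat.card ↥(T ⊓ R) := Nat.find_min' hex
    ⟨T ⊓ R, M, hM, fun U C hC => le_inf (hcomp U C hC) (le_of_sub (hDc U C hC)), rfl⟩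
  have hTR : T ⊓ R = T := eq_of_le_of_card_le inf_le_left (hcard.le.trans hle)
  have gen : ∀ T' : Subgroup Ω, T = T' → ∀ M : FusionSystem T', M.IsNormalIn F p →
      (residualSystem E p).IsSubsystemOf M := by
    rintro _ rfl M hM
    exact residual_le_of_invariant hS hF hE.1.2.2 hE.1.1 hM.1.2.2 hM.1.1
  exact fun P φ hφ => hMD.1.2.2.1 P (gen _ hTR.symm M hM P hφ)

end Cfsg.Agent.Tech.Meet
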