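import Cfsg.Agent.Tech.MeetLocal

/-!
Extension of natural automorphisms of order prime to `p` to subgroups of the normalizer.
-/

set_option autoImplicit false

open Cfsg Cfsg.FusionSystem
open Cfsg.Agent.FusionSys Cfsg.Agent.FusionAlperin

namespace Cfsg.Agent.Tech.Meet

universe u

/-- A product of an element of a normal subgroup and a `p`-element, of order prime to `p`, lies in
the normal subgroup. -/
theorem mem_of_coset {G : Type*} [Group G] [Finite G] {p : ℕ} {N : Subgroup G} {a b : G}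
    (hconj : ∀ n ∈ N, a * n * a⁻¹ ∈ N) (hb : b ∈ N) {k : ℕ} (hk : (b⁻¹ * a) ^ p ^ k = 1)
    (ho : Nat.Coprime (orderOf a) p) : a ∈ N := by
  have key : ∀ i : ℕ, a ^ i * ((b⁻¹ * a) ^ i)⁻¹ ∈ N := by
    intro i
    induction i with
    | zero => simp
    | succ i ih =>
      have e : a ^ (i + 1) * ((b⁻¹ * a) ^ (i + 1))⁻¹ =
          a * (a ^ i * ((b⁻¹ * a) ^ i)⁻¹) * a⁻¹ * (a * (b⁻¹ * a)⁻¹) := by
        rw [pow_succ' a, pow_succ' (b⁻¹ * a)]
        generalize a ^ i = u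
        generalize (b⁻¹ * a) ^ i = v
        group
      rw [e]
      have h3 : a * (b⁻¹ * a)⁻¹ = b := by group
      rw [h3]
      exact N.mul_mem (hconj _ ih) hb
  have h1 := key (p ^ k)
  rw [hk, inv_one, mul_one] at h1
  obtain ⟨m, hm⟩ := exists_pow_eq_self_of_coprime (x := a) (n := p ^ k) (Nat.Coprime.pow_left k ho.symm)
  rw [← hm]
  exact N.pow_mem h1 m

variable {Ω : Type u} [Group Ω] {S T₁ T₂ : Subgroup Ω} {p : ℕ} {F : FusionSystem S}
  {E₁ : FusionSystem T₁} {E₂ : FusionSystem T₂} [Finite S] [Fact p.Prime]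

/-- A weakly normal subsystem contains the extension to `X` of order prime to `p` of one of its
automorphisms of `R`. -/
theorem ext_mem (hS : IsPGroup p S) (hF : F.IsSaturated p) {T : Subgroup Ω}
    (hT : F.StronglyClosed T) {T' : Subgroup Ω} {E : FusionSystem T'} (hE : E.IsInvariantIn F)
    (hEs : E.IsSaturated p) (hTT' : T ≤ T') {R X : Subgroup Ω} (hR : F.IsFullyNormalized R)
    (hRc : TCentric F T R) (hRX : R ≤ X) (hX : X ≤ normalizerIn T R) {a : MulAut R}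
    (ha : a ∈ E.autGroup R)
    (hn : ∀ c ∈ autInducedBy X R, a * c * a⁻¹ ∈ autInducedBy X R) {α : MulAut X}
    (hα : α ∈ F.autGroup X) (hαa : ∀ x : R, (α ⟨x, hRX x.2⟩ : Ω) = a x)
    (ho : Nat.Coprime (orderOf α) p) : α ∈ E.autGroup X := by
  have hT' := hE.2.1
  have hXT : X ≤ T := hX.trans (normalizerIn_le R)
  have hXT' := hXT.trans hTT'
  have hXS : X ≤ S := hXT.trans hT.1
  have : Finite X := finite_of_le ‹_› hXS
  have : Finite T' := finite_of_le ‹_› hT'.1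
  have hEp := hS.to_le hT'.1
  obtain ⟨ψ, hψ, hψe⟩ := exists_ext_aut' (saturated_fullyCentralized hEp hEs
    (saturated_fullyNormalized hEp hEs
      (tfn_fullyNormalized hE.1 (tfn_of_fullyNormalized hS hF hT' hR (hRX.trans hXT')))).1)
    ha hRX (le_inf hXT' (hX.trans inf_le_right)) fun g hg =>
      ⟨⟨g, (hX hg).2⟩, autInducedBy_mono hXT' R (hn _ (mem_autInducedBy.2 ⟨g, hg, fun _ => rfl⟩)),
        rfl⟩
  have hψF := hE.1 X hψ
  have hψX : ∀ x : X, ψ x ∈ X := by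
    intro x
    obtain ⟨x', hx', hxe⟩ := mem_autInducedBy.1
      (hn _ (mem_autInducedBy.2 ⟨(x : Ω), x.2, fun _ => rfl⟩ :
        R.normalizerMonoidHom ⟨(x : Ω), (hX x.2).2⟩ ∈ autInducedBy X R))
    have hψT : ψ x ∈ T := sc_map_mem hT hψF (hXT x.2)
    have hC : x'⁻¹ * ψ x ∈ centralizerIn T R := by
      refine ⟨T.mul_mem (T.inv_mem (hXT hx')) hψT, Subgroup.mem_centralizer_iff.2 fun r hr => ?_⟩
      obtain ⟨r₀, hr₀⟩ := a.surjective ⟨r, hr⟩
      have h1 : ψ x * r * (ψ x)⁻¹ = x' * r * x'⁻¹ := by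
        have h2 := hxe ⟨r, hr⟩
        rw [← hr₀, MulAut.mul_apply, MulAut.mul_apply, MulAut.inv_def,
          MulEquiv.symm_apply_apply] at h2
        have e : r = ψ (Subgroup.inclusion hRX r₀) := by rw [hψe, hr₀]
        rw [hr₀] at h2
        rw [← h2, ← hψe]
        conv_lhs => rw [e]
        rw [← map_inv, ← map_mul, ← map_mul]
        exact congrArg ψ (Subtype.ext rfl)
      calc r * (x'⁻¹ * ψ x) = x'⁻¹ * (x' * r * x'⁻¹) * ψ x := by group
        _ = x'⁻¹ * ψ x * r := by rw [← h1]; group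
    have := X.mul_mem hx' (hRX (isConj_rfl_T hT hRc hC))
    simpa using this
  have hr : ψ.range = X := range_eq_of_image_le (E.injective_of_mem hψ)
    (by rintro _ ⟨x, rfl⟩; exact hψX x) le_rfl
  set b := toIso E hψ hr
  have hb : b ∈ E.autGroup X := toIso_mem_autGroup E hψ hr
  have hbv : ∀ x : X, (b x : Ω) = ψ x := fun _ => rfl
  have hfix : ∀ x : X, (x : Ω) ∈ R → (b⁻¹ * α) x = x := fun x hx => by
    rw [MulAut.mul_apply, MulAut.inv_def, MulEquiv.symm_apply_eq]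
    refine Subtype.ext ?_
    rw [hbv]
    exact (hαa ⟨x, hx⟩).trans (hψe ⟨x, hx⟩).symm
  obtain ⟨k, hk⟩ := fix_pow_eq_one hS hXS hfix
    (fix_disp hT hRc hRX hXT (hX.trans inf_le_right) hfix)
  refine mem_of_coset (fun n hn' => ?_) hb hk ho
  have h := autCongr_mem_of_invariant hS hF hE hXT' ((mem_autGroup F hXS).1 hα) hn'
  rwa [congr_self] at h

/-- Extension to `X` and to `X C_S(X)` of a good automorphism of a fully normalized `R`. -/
theorem lift_extend (hd : Data p F E₁ E₂) {R X : Subgroup Ω} (hR : F.IsFullyNormalized R)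
    (hRc : TCentric F (T₁ ⊓ T₂) R) (hRX : R ≤ X) (hX : X ≤ normalizerIn (T₁ ⊓ T₂) R)
    {a : MulAut R} (ha : a ∈ good F E₁ E₂ R) (ho : Nat.Coprime (orderOf a) p)
    (hn : ∀ c ∈ autInducedBy X R, a * c * a⁻¹ ∈ autInducedBy X R) :
    ∃ A ∈ F.autGroup (X ⊔ centralizerIn S X), ∃ α : MulAut X, Nat.Coprime (orderOf α) p ∧
      α ∈ E₁.autGroup X ∧ α ∈ E₂.autGroup X ∧
      (∀ y : ↥(X ⊔ centralizerIn S X), (y : Ω)⁻¹ * (A y : Ω) ∈ X) ∧
      (∀ x : X, (A ⟨x, Subgroup.mem_sup_left x.2⟩ : Ω) = α x) ∧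
      ∀ x : R, (α ⟨x, hRX x.2⟩ : Ω) = a x := by
  have hS := hd.pgroup
  have hF := hd.sat
  have hT := hd.sc
  have hRfc := fc_of_fn hd hR
  have hXT : X ≤ T₁ ⊓ T₂ := hX.trans (normalizerIn_le R)
  have hXS : X ≤ S := hXT.trans hT.1
  have hXN : X ≤ normalizerIn S R := hX.trans (inf_le_inf_right _ hT.1)
  set Q := R ⊔ centralizerIn S R with hQdef
  have hQS : Q ≤ S := sup_le hR.1 (centralizerIn_le R)
  obtain ⟨B, hB, hBa, hBm, hBo⟩ := exists_coprime_lift ha.1.1 ho hQS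
  set U := Q ⊔ X with hUdef
  have hQU : Q ≤ U := le_sup_left
  have hXU : X ≤ U := le_sup_right
  have hUS : U ≤ S := sup_le hQS hXS
  have hUN : U ≤ normalizerIn S Q :=
    sup_le (le_normalizerIn hQS) fun x hx => ⟨hXS hx, mem_normalizer_lift (hXN hx)⟩
  have hBconj : ∀ (x : Ω) (hx : x ∈ X), ∃ x', ∃ hx' : x' ∈ X, ∃ v ∈ centralizerIn S R,
      (a * R.normalizerMonoidHom ⟨x, (hX hx).2⟩ * a⁻¹ = R.normalizerMonoidHom ⟨x', (hX hx').2⟩) ∧
      ∀ y : Q, (B (Q.normalizerMonoidHom ⟨x, mem_normalizer_lift (hXN hx)⟩ (B.symm y)) : Ω) =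
        (v * x') * y * (v * x')⁻¹ := by
    intro x hx
    obtain ⟨x', hx', hxe⟩ := mem_autInducedBy.1
      (hn _ (mem_autInducedBy.2 ⟨x, hx, fun _ => rfl⟩ :
        R.normalizerMonoidHom ⟨x, (hX hx).2⟩ ∈ autInducedBy X R))
    set cx := Q.normalizerMonoidHom ⟨x, mem_normalizer_lift (hXN hx)⟩
    have hcx : cx ∈ F.autGroup Q :=
      autInducedBy_le_autGroup F hQS (mem_autInducedBy.2 ⟨x, hXS hx, fun _ => rfl⟩)
    have hcxm : ∀ y : Q, (y : Ω)⁻¹ * (cx y : Ω) ∈ R := by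
      refine disp_mem_sup comm_centralizerIn (Q.subtype.comp cx.toMonoidHom)
        (fun y hy => (Subgroup.mem_normalizer_iff.1 (hX hx).2 _).1 hy) fun y hy => ?_
      refine isConj_rfl_T hT hRc ⟨?_, ?_⟩
      · show (y : Ω)⁻¹ * (x * y * x⁻¹) ∈ T₁ ⊓ T₂
        have h1 := (T₁ ⊓ T₂).mul_mem (sc_conj_mem hT (S.inv_mem hy.1) (hXT hx))
          ((T₁ ⊓ T₂).inv_mem (hXT hx))
        simpa [mul_assoc] using h1
      · exact (Subgroup.centralizer _).mul_mem ((Subgroup.centralizer _).inv_mem hy.2)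
          (conj_mem_centralizerIn (hXN hx) hy).2
    set β := B * cx * B⁻¹ with hβdef
    have hβm : ∀ y : Q, (y : Ω)⁻¹ * (β y : Ω) ∈ R := fun y => by
      have h1 : (y : Ω)⁻¹ * (B.symm y : Ω) ∈ R := by
        have := R.inv_mem (hBm (B.symm y))
        simpa using this
      have h := R.mul_mem (R.mul_mem h1 (hcxm (B.symm y))) (hBm (cx (B.symm y)))
      simpa [hβdef, MulAut.mul_apply, MulAut.inv_def, mul_assoc] using h
    obtain ⟨v, hv, hve⟩ := lift_conj hS hF hRfc (mul_mem (mul_mem hB hcx)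
      ((F.autGroup Q).inv_mem hB)) hβm (hXN hx') fun y hy => by
        obtain ⟨r, hr⟩ := a.surjective ⟨y, hy⟩
        have ey : y = B ⟨r, Subgroup.mem_sup_left r.2⟩ :=
          Subtype.ext ((congrArg Subtype.val hr).symm.trans (hBa r).symm)
        have h2 := hxe ⟨y, hy⟩
        rw [← hr, MulAut.mul_apply, MulAut.mul_apply, MulAut.inv_def,
          MulEquiv.symm_apply_apply] at h2
        rw [hr] at h2
        rw [ey, MulAut.mul_apply, MulAut.mul_apply, MulAut.inv_def,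
          MulEquiv.symm_apply_apply, ← ey, ← h2]
        exact (hBa (R.normalizerMonoidHom ⟨x, _⟩ r)).symm ▸ rfl
    refine ⟨x', hx', v, hv, MulEquiv.ext fun y => Subtype.ext (hxe y), fun y => ?_⟩
    have h : ((B * cx * B⁻¹) y : Ω) = (v * x') * y * (v * x')⁻¹ := hve y
    rw [MulAut.mul_apply, MulAut.mul_apply, MulAut.inv_def] at h
    exact h
  have hcar : U ≤ carried S Q B := by
    refine sup_le (le_carried_self F hQS B) fun x hx => ?_
    obtain ⟨x', hx', v, hv, -, he⟩ := hBconj x hx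
    refine ⟨⟨x, mem_normalizer_lift (hXN hx)⟩, ?_, rfl⟩
    exact mem_autInducedBy.2 ⟨v * x', S.mul_mem hv.1 (hXS hx'), fun y => he y⟩
  obtain ⟨φ, hφ, hφe⟩ := exists_ext_aut' (lift_receptive hS hF hRfc) hB hQU hUN hcar
  have hφX : ∀ (x : Ω) (hx : x ∈ X), φ ⟨x, hXU hx⟩ ∈ X := by
    intro x hx
    obtain ⟨x', hx', -, -, ha', -⟩ := hBconj x hx
    have hC : x'⁻¹ * φ ⟨x, hXU hx⟩ ∈ centralizerIn (T₁ ⊓ T₂) R := by
      refine ⟨(T₁ ⊓ T₂).mul_mem ((T₁ ⊓ T₂).inv_mem (hXT hx'))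
        (sc_map_mem hT hφ (x := ⟨x, hXU hx⟩) (hXT hx)),
        Subgroup.mem_centralizer_iff.2 fun r hr => ?_⟩
      obtain ⟨r₀, hr₀⟩ := a.surjective ⟨r, hr⟩
      have h1 : φ ⟨x, hXU hx⟩ * r * (φ ⟨x, hXU hx⟩)⁻¹ = x' * r * x'⁻¹ := by
        have h2 := congrArg (fun w : MulAut R => ((w ⟨r, hr⟩ : R) : Ω)) ha'
        simp only [← hr₀, MulAut.mul_apply, MulAut.inv_def, MulEquiv.symm_apply_apply] at h2
        rw [hr₀] at h2
        have e : r = φ (Subgroup.inclusion hQU ⟨r₀, Subgroup.mem_sup_left r₀.2⟩) := by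
          rw [hφe, hBa, hr₀]
        refine Eq.trans ?_ h2
        rw [← hBa, ← hφe]
        conv_lhs => rw [e]
        rw [← map_inv, ← map_mul, ← map_mul]
        exact congrArg φ (Subtype.ext rfl)
      calc r * (x'⁻¹ * φ ⟨x, hXU hx⟩) = x'⁻¹ * (x' * r * x'⁻¹) * φ ⟨x, hXU hx⟩ := by group
        _ = x'⁻¹ * φ ⟨x, hXU hx⟩ * r := by rw [← h1]; group
    have := X.mul_mem hx' (hRX (isConj_rfl_T hT hRc hC))
    simpa using this
  have : Finite U := finite_of_le ‹_› hUS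
  have hr : φ.range = U := range_eq_of_image_le (F.injective_of_mem hφ)
    (range_le_sup_of_le φ (fun y hy => hQU ((hφe ⟨y, hy⟩).symm ▸ (B _).2))
      fun y hy => hXU (hφX y hy)) le_rfl
  set Φ := toIso F hφ hr
  obtain ⟨k, e, m, hom, hmp, hek, hk1⟩ :=
    exists_exponent (o := orderOf Φ) (orderOf_pos Φ).ne' (Fact.out : p.Prime) hBo
  have hBk : B ^ k = B := by
    conv_rhs => rw [← pow_one B]
    exact pow_eq_pow_iff_modEq.2 hk1
  have hΦo : Nat.Coprime (orderOf (Φ ^ k)) p := by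
    refine Nat.Coprime.coprime_dvd_left (orderOf_dvd_of_pow_eq_one (n := m) ?_) hmp
    obtain ⟨l, rfl⟩ := hek
    rw [← pow_mul, show p ^ e * l * m = orderOf Φ * l by rw [hom]; ring, pow_mul, pow_orderOf_eq_one,
      one_pow]
  have hΦQ : ∀ y : Q, ((Φ ^ k : MulAut U) (Subgroup.inclusion hQU y) : Ω) = B y := fun y => by
    rw [pow_ext_apply hQU (α := Φ) (a := B) hφe k y, hBk]
  have hΦX : ∀ (i : ℕ) (x : U), (x : Ω) ∈ X → ((Φ ^ i : MulAut U) x : Ω) ∈ X := by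
    intro i
    induction i with
    | zero => intro x hx; simpa using hx
    | succ i ih =>
      intro x hx
      rw [pow_succ', MulAut.mul_apply]
      exact hφX _ (ih x hx)
  have hΦF : (Φ ^ k : MulAut U) ∈ F.autGroup U := pow_mem (toIso_mem_autGroup F hφ hr) k
  set ω := U.subtype.comp (Φ ^ k : MulAut U).toMonoidHom
  have hω : ω ∈ F.Hom U := autGroup_mem_hom F hUS hΦF
  have : Finite X := finite_of_le ‹_› hXS
  have hωX := restr_mem F hXU hω
  have hrX : (restr hXU ω).range = X := range_eq_of_image_le (F.injective_of_mem hωX)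
    (by rintro _ ⟨x, rfl⟩; exact hΦX k _ x.2) le_rfl
  set α := toIso F hωX hrX
  have hαv : ∀ x : X, (α x : Ω) = ((Φ ^ k : MulAut U) (Subgroup.inclusion hXU x) : Ω) :=
    fun _ => rfl
  have hαo : Nat.Coprime (orderOf α) p := by
    refine Nat.Coprime.coprime_dvd_left (orderOf_dvd_of_pow_eq_one ?_) hΦo
    refine MulEquiv.ext fun x => Subtype.ext ?_
    have h := pow_ext_apply hXU (α := (Φ ^ k : MulAut U)) (a := α)
      (fun x => (hαv x).symm) (orderOf (Φ ^ k : MulAut U)) x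
    rw [pow_orderOf_eq_one] at h
    exact h.symm
  have hαF : α ∈ F.autGroup X := toIso_mem_autGroup F hωX hrX
  have hαa : ∀ x : R, (α ⟨x, hRX x.2⟩ : Ω) = a x := fun x =>
    (hαv _).trans ((hΦQ ⟨x, Subgroup.mem_sup_left x.2⟩).trans (hBa x))
  have hE₁ := ext_mem hS hF hT hd.inv₁ hd.sat₁ inf_le_left hR hRc hRX hX ha.1.2 hn hαF hαa hαo
  have hE₂ := ext_mem hS hF hT hd.inv₂ hd.sat₂ inf_le_right hR hRc hRX hX ha.2 hn hαF hαa hαo
  -- the action on `C_S(X)`
  have hCQ : centralizerIn S X ≤ Q := fun c hc =>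
    Subgroup.mem_sup_right ⟨hc.1, Subgroup.mem_centralizer_iff.2 fun r hr =>
      Subgroup.mem_centralizer_iff.1 hc.2 r (hRX hr)⟩
  have hXC : X ⊔ centralizerIn S X ≤ U := sup_le hXU (hCQ.trans hQU)
  have hdisp : ∀ y : ↥(X ⊔ centralizerIn S X),
      (y : Ω)⁻¹ * restr hXC ω y ∈ X := by
    refine disp_mem_sup comm_centralizerIn (restr hXC ω) (fun y hy => hΦX k _ hy) fun y hy => ?_
    show (y : Ω)⁻¹ * ((Φ ^ k : MulAut U) (Subgroup.inclusion hQU ⟨y, hCQ hy⟩) : Ω) ∈ X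
    rw [hΦQ]
    exact hRX (hBm ⟨y, hCQ hy⟩)
  have hXCS : X ⊔ centralizerIn S X ≤ S := hXC.trans hUS
  have : Finite ↥(X ⊔ centralizerIn S X) := finite_of_le ‹_› hXCS
  have hr2 : (restr hXC ω).range = X ⊔ centralizerIn S X := by
    refine range_eq_of_image_le (F.injective_of_mem (restr_mem F hXC hω)) ?_ le_rfl
    rintro _ ⟨y, rfl⟩
    have := (X ⊔ centralizerIn S X).mul_mem y.2 (Subgroup.mem_sup_left (hdisp y))
    simpa using this
  exact ⟨_, toIso_mem_autGroup F (restr_mem F hXC hω) hr2, α, hαo, hE₁, hE₂, hdisp,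
    fun x => rfl, hαa⟩

/-- Extension of good automorphisms of a fully normalized subgroup. -/
theorem exists_ext_fn (hd : Data p F E₁ E₂) {R X : Subgroup Ω} (hR : F.IsFullyNormalized R)
    (hRc : TCentric F (T₁ ⊓ T₂) R) (hRX : R ≤ X) (hX : X ≤ normalizerIn (T₁ ⊓ T₂) R)
    {a : MulAut R} (ha : a ∈ natGroup p F E₁ E₂ R) (ho : Nat.Coprime (orderOf a) p)
    (hn : ∀ c ∈ autInducedBy X R, a * c * a⁻¹ ∈ autInducedBy X R) :
    ∃ α ∈ natGroup p F E₁ E₂ X, ∀ x : R, (α ⟨x, hRX x.2⟩ : Ω) = a x := by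
  have hS := hd.pgroup
  have hF := hd.sat
  have hT := hd.sc
  have hXT : X ≤ T₁ ⊓ T₂ := hX.trans (normalizerIn_le R)
  have hXS : X ≤ S := hXT.trans hT.1
  obtain ⟨Xs, hXXs, hXs⟩ := exists_fullyNormalized F hXS
  obtain ⟨e, he⟩ := (isConj_iff_exists_iso F).1 hXXs
  have hXsT : Xs ≤ T₁ ⊓ T₂ := le_of_iso hT hXT he
  set φe := Xs.subtype.comp e.toMonoidHom
  set Rs := (restr hRX φe).range
  have heR : IsIso F (toIso F (restr_mem F hRX he) (rfl : (restr hRX φe).range = Rs)) :=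
    toIso_isIso F _ _
  set eR := toIso F (restr_mem F hRX he) (rfl : (restr hRX φe).range = Rs)
  have hec : Carries φe R Rs := ⟨hRX, (range_restr hRX φe).symm⟩
  obtain ⟨θ, hθ, -, hθm⟩ :=
    exists_normalizer_map_fullyNormalized hS hF hR (isConj_symm heR.isConj)
  have hRsS : Rs ≤ S := heR.le_right
  have hθc : Carries θ Rs R := ⟨le_normalizerIn hRsS, hθm⟩
  set f := toIso F (restr_mem F hθc.1 hθ) hθc.range_restr_eq
  have hf : IsIso F f := toIso_isIso F _ _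
  set d : MulAut R := eR.trans f
  have hdF : d ∈ F.autGroup R := (mem_autGroup F hR.1).2 (heR.trans hf)
  have hXsN : Xs ≤ normalizerIn S Rs := by
    intro y hy
    obtain ⟨x, hx⟩ := e.surjective ⟨y, hy⟩
    have h := hec.mem_normalizerIn he (hX.trans (inf_le_inf_right _ hT.1)) x
    have e1 : φe x = y := congrArg Subtype.val hx
    rwa [e1] at h
  have hWN : Xs ⊔ centralizerIn S Xs ≤ normalizerIn S Rs := by
    refine sup_le hXsN fun c hc => centralizerIn_le_normalizerIn Rs ⟨hc.1,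
      Subgroup.mem_centralizer_iff.2 fun r hr => ?_⟩
    refine Subgroup.mem_centralizer_iff.1 hc.2 r ?_
    obtain ⟨x, rfl⟩ := hr
    exact (e _).2
  set X' := (restr hXsN θ).range
  have hX'c : Carries θ Xs X' := ⟨hXsN, (range_restr hXsN θ).symm⟩
  have hRX' : R ≤ X' := by
    intro y hy
    obtain ⟨x, hx⟩ := d.surjective ⟨y, hy⟩
    refine ⟨⟨(eR x : Ω), (e (Subgroup.inclusion hRX x)).2⟩, ?_⟩
    exact congrArg Subtype.val hx
  have hX'N : X' ≤ normalizerIn (T₁ ⊓ T₂) R := by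
    rintro _ ⟨x, rfl⟩
    exact ⟨sc_map_mem hT hθ (hXsT x.2), hθc.mem_normalizer inf_le_right _⟩
  set a' := d * a * d⁻¹ with ha'def
  have ha' : a' ∈ good F E₁ E₂ R :=
    natGroup_le_good hd hR hRc (natGroup_conj hd hRc.1 hdF ha)
  have ho' : Nat.Coprime (orderOf a') p := by
    rw [show a' = MulAut.conj d a from rfl, MulEquiv.orderOf_eq]
    exact ho
  have hdconj : ∀ (x : X), d * R.normalizerMonoidHom ⟨x, (hX x.2).2⟩ * d⁻¹ ∈ autInducedBy X' R :=
    fun x => by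
      refine mem_autInducedBy.2 ⟨θ ⟨(e x : Ω), hXsN (e x).2⟩, ⟨e x, rfl⟩, fun y => ?_⟩
      obtain ⟨r, rfl⟩ := d.surjective y
      rw [MulAut.mul_apply, MulAut.mul_apply, MulAut.inv_def, MulEquiv.symm_apply_apply]
      show θ ⟨(eR _ : Ω), _⟩ = θ _ * θ ⟨(eR r : Ω), _⟩ * (θ _)⁻¹
      rw [← map_inv, ← map_mul, ← map_mul]
      refine congrArg θ (Subtype.ext ?_)
      show (e ⟨_, _⟩ : Ω) = (e x : Ω) * (e ⟨r, _⟩ : Ω) * (e x : Ω)⁻¹
      rw [← Subgroup.coe_inv, ← Subgroup.coe_mul, ← Subgroup.coe_mul, ← map_inv, ← map_mul,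
        ← map_mul]
      exact congrArg (fun w => ((e w : Xs) : Ω)) (Subtype.ext rfl)
  have hn' : ∀ c ∈ autInducedBy X' R, a' * c * a'⁻¹ ∈ autInducedBy X' R := by
    intro c hc
    obtain ⟨x', hx', hce⟩ := mem_autInducedBy.1 hc
    obtain ⟨xs, hxs⟩ := hx'
    obtain ⟨x, hx⟩ := e.surjective xs
    have hc' : c = d * R.normalizerMonoidHom ⟨x, (hX x.2).2⟩ * d⁻¹ := by
      refine MulEquiv.ext fun y => Subtype.ext ?_
      rw [hce, ← hxs, ← hx]
      obtain ⟨r, rfl⟩ := d.surjective y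
      rw [MulAut.mul_apply, MulAut.mul_apply, MulAut.inv_def, MulEquiv.symm_apply_apply]
      show θ _ * θ ⟨(eR r : Ω), _⟩ * (θ _)⁻¹ = θ ⟨(eR _ : Ω), _⟩
      rw [← map_inv, ← map_mul, ← map_mul]
      refine congrArg θ (Subtype.ext ?_)
      show (e x : Ω) * (e ⟨r, _⟩ : Ω) * (e x : Ω)⁻¹ = (e ⟨_, _⟩ : Ω)
      rw [← Subgroup.coe_inv, ← Subgroup.coe_mul, ← Subgroup.coe_mul, ← map_inv, ← map_mul,
        ← map_mul]
      exact congrArg (fun w => ((e w : Xs) : Ω)) (Subtype.ext rfl)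
    obtain ⟨x₂, hx₂, hx₂e⟩ := mem_autInducedBy.1
      (hn _ (mem_autInducedBy.2 ⟨(x : Ω), x.2, fun _ => rfl⟩ :
        R.normalizerMonoidHom ⟨(x : Ω), (hX x.2).2⟩ ∈ autInducedBy X R))
    have e2 : a * R.normalizerMonoidHom ⟨(x : Ω), (hX x.2).2⟩ * a⁻¹ =
        R.normalizerMonoidHom ⟨x₂, (hX hx₂).2⟩ := MulEquiv.ext fun y => Subtype.ext (hx₂e y)
    have e3 : a' * c * a'⁻¹ =
        d * (a * R.normalizerMonoidHom ⟨(x : Ω), (hX x.2).2⟩ * a⁻¹) * d⁻¹ := by
      rw [hc', ha'def]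
      group
    rw [e3, e2]
    exact hdconj ⟨x₂, hx₂⟩
  obtain ⟨A', hA', α', hαo, hα₁, hα₂, hdisp, hA'α, hα'a⟩ :=
    lift_extend hd hR hRc hRX' hX'N ha' ho' hn'
  have hX'S : X' ≤ S := hX'N.trans ((normalizerIn_le R).trans hT.1)
  -- pull back along `θ`
  set W := Xs ⊔ centralizerIn S Xs with hWdef
  have hθW := restr_mem F hWN hθ
  set W' := (restr hWN θ).range
  set ι := toIso F hθW (rfl : (restr hWN θ).range = W') with hιdef
  have hιv : ∀ x : W, (ι x : Ω) = θ (Subgroup.inclusion hWN x) := fun x =>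
    (toIso_coe F hθW (rfl : (restr hWN θ).range = W') x).trans (restr_apply hWN θ x)
  have hW'U : W' ≤ X' ⊔ centralizerIn S X' := by
    refine range_le_sup_of_le _
      (fun y hy => Subgroup.mem_sup_left ⟨⟨y, hy⟩, rfl⟩)
      fun y hy => Subgroup.mem_sup_right ⟨map_mem_S F hθW y, Subgroup.mem_centralizer_iff.2 ?_⟩
    rintro _ ⟨x, rfl⟩
    show θ _ * θ _ = θ _ * θ _
    rw [← map_mul, ← map_mul]
    exact congrArg θ (Subtype.ext (Subgroup.mem_centralizer_iff.1 hy.2 _ x.2))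
  have hX'W' : X' ≤ W' := by
    rintro _ ⟨x, rfl⟩
    exact ⟨⟨x, Subgroup.mem_sup_left x.2⟩, rfl⟩
  set ω := restr hW'U ((X' ⊔ centralizerIn S X').subtype.comp A'.toMonoidHom)
  have hU'S : X' ⊔ centralizerIn S X' ≤ S := sup_le hX'S (centralizerIn_le X')
  have hω : ω ∈ F.Hom W' := restr_mem F hW'U (autGroup_mem_hom F hU'S hA')
  have hW'S : W' ≤ S := hW'U.trans hU'S
  have : Finite W' := finite_of_le ‹_› hW'S
  have hωr : ω.range = W' := by
    refine range_eq_of_image_le (F.injective_of_mem hω) ?_ le_rfl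
    rintro _ ⟨y, rfl⟩
    have h := W'.mul_mem y.2 (hX'W' (hdisp (Subgroup.inclusion hW'U y)))
    simpa [ω] using h
  set As := MulAut.congr ι.symm (toIso F hω hωr) with hAsdef
  have hAs : As ∈ F.autGroup W :=
    autCongr_mem F (toIso_isIso F hθW (rfl : _ = W')).symm (toIso_mem_autGroup F hω hωr)
  have hAsv : ∀ y : W, (ι (As y) : Ω) = A' (Subgroup.inclusion hW'U (ι y)) := fun y => by
    rw [hAsdef, autCongr_apply, MulEquiv.symm_symm, MulEquiv.apply_symm_apply]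
    rfl
  have heX : IsIso F (toIso F (restr_mem F hXsN hθ) (rfl : (restr hXsN θ).range = X')) :=
    toIso_isIso F _ _
  set eX := toIso F (restr_mem F hXsN hθ) (rfl : (restr hXsN θ).range = X')
  have heXv : ∀ x : Xs, (eX x : Ω) = θ (Subgroup.inclusion hXsN x) := fun x =>
    (toIso_coe F _ _ x).trans (restr_apply hXsN θ x)
  set αs := MulAut.congr eX.symm α' with hαsdef
  have hαsv : ∀ x : Xs, (eX (αs x) : Ω) = α' (eX x) := fun x => by
    rw [hαsdef, autCongr_apply, MulEquiv.symm_symm, MulEquiv.apply_symm_apply]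
  have hgood : αs ∈ good F E₁ E₂ Xs := by
    refine ⟨⟨⟨As, hAs, fun x => ?_, fun y => ?_⟩,
      autCongr_mem_of_invariant hS hF hd.inv₁
        ((hX'N.trans (normalizerIn_le R)).trans inf_le_left) heX.symm hα₁⟩,
      autCongr_mem_of_invariant hS hF hd.inv₂
        ((hX'N.trans (normalizerIn_le R)).trans inf_le_right) heX.symm hα₂⟩
    · have h1 := hAsv ⟨x, Subgroup.mem_sup_left x.2⟩
      rw [hιv] at h1
      have h2 : (A' (Subgroup.inclusion hW'U (ι ⟨x, Subgroup.mem_sup_left x.2⟩)) : Ω) =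
          α' (eX x) := by
        rw [← hA'α]
        exact congrArg (fun w => ((A' w : ↥(X' ⊔ centralizerIn S X')) : Ω))
          (Subtype.ext ((hιv _).trans (heXv x).symm))
      have h3 := h1.trans (h2.trans ((hαsv x).symm.trans (heXv _)))
      exact (congrArg Subtype.val (F.injective_of_mem hθ h3) :)
    · have h1 := hdisp (Subgroup.inclusion hW'U (ι y))
      rw [← hAsv] at h1
      obtain ⟨x, hx⟩ := h1
      have h3 : θ (Subgroup.inclusion hXsN x) =
          θ ((Subgroup.inclusion hWN y)⁻¹ * Subgroup.inclusion hWN (As y)) := by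
        rw [map_mul, map_inv, ← hιv, ← hιv]
        exact hx
      have h5 : (y : Ω)⁻¹ * (As y : Ω) = x :=
        (congrArg Subtype.val (F.injective_of_mem hθ h3)).symm
      rw [h5]
      exact x.2
  have hαso : Nat.Coprime (orderOf αs) p := by
    rw [hαsdef, MulEquiv.orderOf_eq]
    exact hαo
  refine ⟨MulAut.congr e.symm αs,
    natGroup_congr he.symm (good_le_natGroup hd hXs hgood hαso), fun x => ?_⟩
  have hgoal : e.symm (αs (e ⟨x, hRX x.2⟩)) = ⟨a x, hRX (a x).2⟩ := by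
    rw [MulEquiv.symm_apply_eq]
    refine eX.injective (Subtype.ext ?_)
    rw [hαsv]
    have e1 : eX (e ⟨x, hRX x.2⟩) = ⟨d x, hRX' (d x).2⟩ := Subtype.ext ((heXv _).trans rfl)
    rw [e1, hα'a, heXv]
    show ((d (a (d.symm (d x))) : R) : Ω) = _
    rw [MulEquiv.symm_apply_apply]
    rfl
  exact (congrArg Subtype.val ((autCongr_apply e.symm αs ⟨x, hRX x.2⟩).trans hgoal) :)

/-- Extension of natural automorphisms of order prime to `p`. -/
theorem exists_ext_coprime (hd : Data p F E₁ E₂) {P X : Subgroup Ω}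
    (hP : TFN F (T₁ ⊓ T₂) P) (hPc : TCentric F (T₁ ⊓ T₂) P) (hPX : P ≤ X)
    (hX : X ≤ normalizerIn (T₁ ⊓ T₂) P) {a : MulAut P} (ha : a ∈ natGroup p F E₁ E₂ P)
    (ho : Nat.Coprime (orderOf a) p)
    (hn : ∀ c ∈ autInducedBy X P, a * c * a⁻¹ ∈ autInducedBy X P) :
    ∃ α ∈ natGroup p F E₁ E₂ X, ∀ x : P, (α ⟨x, hPX x.2⟩ : Ω) = a x := by
  have hT := hd.sc
  obtain ⟨R, hR, θ, hθ, hc, -⟩ := exists_chart hd hP
  set e := toIso F (restr_mem F hc.1 hθ) hc.range_restr_eq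
  have he : IsIso F e := toIso_isIso F _ _
  have hRc := tCentric_of_isConj hT hPc he.isConj
  set X' := (restr hX θ).range
  set eX := toIso F (restr_mem F hX hθ) (rfl : (restr hX θ).range = X')
  have heX : IsIso F eX := toIso_isIso F _ _
  have heXv : ∀ x : X, (eX x : Ω) = θ (Subgroup.inclusion hX x) := fun x =>
    (toIso_coe F _ _ x).trans (restr_apply hX θ x)
  have hev : ∀ x : P, (e x : Ω) = θ (Subgroup.inclusion hc.1 x) := fun _ => rfl
  have hRX' : R ≤ X' := by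
    intro y hy
    obtain ⟨x, hx⟩ := e.surjective ⟨y, hy⟩
    exact ⟨⟨x, hPX x.2⟩, congrArg Subtype.val hx⟩
  have hX'N : X' ≤ normalizerIn (T₁ ⊓ T₂) R := by
    rintro _ ⟨x, rfl⟩
    exact ⟨sc_map_mem hT hθ ((normalizerIn_le P) (hX x.2)),
      hc.mem_normalizer inf_le_right _⟩
  have hn' : ∀ c ∈ autInducedBy X' R, MulAut.congr e a * c * (MulAut.congr e a)⁻¹ ∈
      autInducedBy X' R := by
    intro c hc'
    obtain ⟨x', hx', hce⟩ := mem_autInducedBy.1 hc'
    obtain ⟨x, hx⟩ := hx'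
    have hkey : ∀ (z : X), MulAut.congr e (P.normalizerMonoidHom ⟨z, (hX z.2).2⟩) ∈
        autInducedBy X' R := fun z => by
      refine mem_autInducedBy.2 ⟨θ (Subgroup.inclusion hX z), ⟨z, rfl⟩, fun y => ?_⟩
      obtain ⟨w, rfl⟩ := e.surjective y
      rw [autCongr_apply, MulEquiv.symm_apply_apply, hev, hev, ← map_inv, ← map_mul, ← map_mul]
      exact congrArg θ (Subtype.ext rfl)
    have hc2 : c = MulAut.congr e (P.normalizerMonoidHom ⟨x, (hX x.2).2⟩) := by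
      refine MulEquiv.ext fun y => Subtype.ext ?_
      obtain ⟨w, rfl⟩ := e.surjective y
      rw [hce, ← hx, autCongr_apply, MulEquiv.symm_apply_apply, hev, hev, restr_apply, ← map_inv,
        ← map_mul, ← map_mul]
      exact congrArg θ (Subtype.ext rfl)
    obtain ⟨x₂, hx₂, hx₂e⟩ := mem_autInducedBy.1
      (hn _ (mem_autInducedBy.2 ⟨(x : Ω), x.2, fun _ => rfl⟩ :
        P.normalizerMonoidHom ⟨(x : Ω), (hX x.2).2⟩ ∈ autInducedBy X P))
    have e2 : a * P.normalizerMonoidHom ⟨(x : Ω), (hX x.2).2⟩ * a⁻¹ =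
        P.normalizerMonoidHom ⟨x₂, (hX hx₂).2⟩ := MulEquiv.ext fun y => Subtype.ext (hx₂e y)
    rw [hc2, ← map_inv, ← map_mul, ← map_mul, e2]
    exact hkey ⟨x₂, hx₂⟩
  obtain ⟨α, hα, hαe⟩ := exists_ext_fn hd hR hRc hRX' hX'N (natGroup_congr he ha)
    (by rw [MulEquiv.orderOf_eq]; exact ho) hn'
  refine ⟨MulAut.congr eX.symm α, natGroup_congr heX.symm hα, fun x => ?_⟩
  have h1 : eX.symm (α (eX ⟨x, hPX x.2⟩)) = ⟨a x, hPX (a x).2⟩ := by
    rw [MulEquiv.symm_apply_eq]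
    refine Subtype.ext ?_
    have e1 : eX ⟨x, hPX x.2⟩ = ⟨e x, hRX' (e x).2⟩ := Subtype.ext ((heXv _).trans (hev x).symm)
    rw [e1, hαe, heXv, autCongr_apply, MulEquiv.symm_apply_apply, hev]
    rfl
  exact (congrArg Subtype.val ((autCongr_apply eX.symm α ⟨x, hPX x.2⟩).trans h1) :)

end Cfsg.Agent.Tech.Meet
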