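import Cfsg.Agent.Tech.MeetSystem

/-!
Maps of the meet on normalizers: an element of the natural group of `P` extends to the preimages of
the subgroups of `Aut_T(P)` that it carries into `Aut_T(P)`.
-/

set_option autoImplicit false

open Cfsg Cfsg.FusionSystem
open Cfsg.Agent.FusionSys Cfsg.Agent.FusionAlperin

namespace Cfsg.Agent.Tech.Meet

universe u

variable {Ω : Type u} [Group Ω] {S T₁ T₂ : Subgroup Ω} {p : ℕ} {F : FusionSystem S}
  {E₁ : FusionSystem T₁} {E₂ : FusionSystem T₂}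

/-- The elements of `T` inducing an element of `D` on `P`. -/
def preAut (T P : Subgroup Ω) (D : Subgroup (MulAut P)) : Subgroup Ω :=
  ((D.comap P.normalizerMonoidHom).map (Subgroup.normalizer (P : Set Ω)).subtype) ⊓ T

theorem mem_preAut {T P : Subgroup Ω} {D : Subgroup (MulAut P)} {t : Ω} :
    t ∈ preAut T P D ↔
      t ∈ T ∧ ∃ hN : t ∈ Subgroup.normalizer (P : Set Ω), P.normalizerMonoidHom ⟨t, hN⟩ ∈ D := by
  constructor
  · rintro ⟨⟨z, hz, rfl⟩, hT⟩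
    exact ⟨hT, z.2, hz⟩
  · rintro ⟨hT, hN, hD⟩
    exact ⟨⟨⟨t, hN⟩, hD, rfl⟩, hT⟩

theorem preAut_le {T P : Subgroup Ω} (D : Subgroup (MulAut P)) :
    preAut T P D ≤ normalizerIn T P := fun _ h =>
  ⟨(mem_preAut.1 h).1, (mem_preAut.1 h).2.1⟩

theorem le_preAut {T P : Subgroup Ω} (hP : P ≤ T) {D : Subgroup (MulAut P)} (hD : Inn P ≤ D) :
    P ≤ preAut T P D := fun x hx => mem_preAut.2 ⟨hP hx, Subgroup.le_normalizer hx,
  hD ((inn_eq_autInducedBy P).ge (mem_autInducedBy.2 ⟨x, hx, fun _ => rfl⟩))⟩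

theorem autInducedBy_preAut {T P : Subgroup Ω} {D : Subgroup (MulAut P)}
    (hD : D ≤ autInducedBy T P) : autInducedBy (preAut T P D) P = D := by
  refine le_antisymm (fun a ha => ?_) fun a ha => ?_
  · obtain ⟨t, ht, hte⟩ := mem_autInducedBy.1 ha
    obtain ⟨-, hN, hmem⟩ := mem_preAut.1 ht
    rwa [show a = P.normalizerMonoidHom ⟨t, hN⟩ from MulEquiv.ext fun x => Subtype.ext (hte x)]
  · obtain ⟨t, ht, hte⟩ := mem_autInducedBy.1 (hD ha)
    refine mem_autInducedBy.2 ⟨t, mem_preAut.2 ⟨ht, mem_normalizer_of_conj_eq a hte, ?_⟩, hte⟩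
    rwa [show P.normalizerMonoidHom ⟨t, _⟩ = a from MulEquiv.ext fun x => Subtype.ext (hte x).symm]

/-- The image of a subgroup of `Aut(P)` under conjugation. -/
def conjSub {P : Subgroup Ω} (g : MulAut P) (D : Subgroup (MulAut P)) : Subgroup (MulAut P) :=
  D.map (MulAut.conj g).toMonoidHom

theorem mem_conjSub {P : Subgroup Ω} {g c : MulAut P} {D : Subgroup (MulAut P)} (hc : c ∈ D) :
    g * c * g⁻¹ ∈ conjSub g D :=
  ⟨c, hc, rfl⟩

theorem conjSub_mul {P : Subgroup Ω} (g h : MulAut P) (D : Subgroup (MulAut P)) :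
    conjSub g (conjSub h D) = conjSub (g * h) D := by
  rw [conjSub, conjSub, Subgroup.map_map, conjSub, map_mul]
  rfl

theorem conjSub_inv {P : Subgroup Ω} (g : MulAut P) (D : Subgroup (MulAut P)) :
    conjSub g⁻¹ (conjSub g D) = D := by
  rw [conjSub_mul, inv_mul_cancel, conjSub, map_one]
  exact Subgroup.map_id D

theorem inn_le_conjSub {P : Subgroup Ω} (g : MulAut P) {D : Subgroup (MulAut P)} (h : Inn P ≤ D) :
    Inn P ≤ conjSub g D := by
  rintro _ ⟨x, rfl⟩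
  refine ⟨MulAut.conj (g.symm x), h ⟨g.symm x, rfl⟩, MulEquiv.ext fun y => ?_⟩
  simp [MulAut.inv_def]

/-- `g` extends to an isomorphism of the meet between the preimages of `D` and of its image. -/
def Ext (p : ℕ) (F : FusionSystem S) (E₁ : FusionSystem T₁) (E₂ : FusionSystem T₂)
    (P : Subgroup Ω) (g : MulAut P) (D D' : Subgroup (MulAut P)) : Prop :=
  ∃ e : preAut (T₁ ⊓ T₂) P D ≃* preAut (T₁ ⊓ T₂) P D', IsIso (meetSystem p F E₁ E₂) e ∧
    ∀ (x : P) (hx : (x : Ω) ∈ preAut (T₁ ⊓ T₂) P D), (e ⟨x, hx⟩ : Ω) = g x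

theorem Ext.trans {P : Subgroup Ω} (hP : P ≤ T₁ ⊓ T₂) {g h : MulAut P}
    {D D' D'' : Subgroup (MulAut P)} (hD' : Inn P ≤ D') (h₁ : Ext p F E₁ E₂ P g D D')
    (h₂ : Ext p F E₁ E₂ P h D' D'') : Ext p F E₁ E₂ P (h * g) D D'' := by
  obtain ⟨e, he, hee⟩ := h₁
  obtain ⟨f, hf, hfe⟩ := h₂
  refine ⟨e.trans f, he.trans hf, fun x hx => ?_⟩
  have h1 : e ⟨x, hx⟩ = ⟨g x, le_preAut hP hD' (g x).2⟩ := Subtype.ext (hee x hx)
  rw [MulEquiv.trans_apply, h1, hfe]
  rfl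

theorem Ext.symm {P : Subgroup Ω} (hP : P ≤ T₁ ⊓ T₂) {g : MulAut P}
    {D D' : Subgroup (MulAut P)} (hD : Inn P ≤ D) (h : Ext p F E₁ E₂ P g D D') :
    Ext p F E₁ E₂ P g⁻¹ D' D := by
  obtain ⟨e, he, hee⟩ := h
  refine ⟨e.symm, he.symm, fun x hx => ?_⟩
  have h1 : (⟨x, hx⟩ : preAut (T₁ ⊓ T₂) P D') =
      e ⟨(g.symm x : P), le_preAut hP hD (g.symm x).2⟩ :=
    Subtype.ext (by rw [hee, MulEquiv.apply_symm_apply])
  rw [h1, MulEquiv.symm_apply_apply]
  rfl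

/-- A map extending `g` conjugates the induced automorphisms by `g`. -/
theorem ext_conj {T P Y : Subgroup Ω} (U : FusionSystem T) (hPY : P ≤ Y)
    (hY : Y ≤ normalizerIn T P) {ψ : Y →* Ω} (hψ : ψ ∈ U.Hom Y) {g : MulAut P}
    (hψg : ∀ x : P, ψ (Subgroup.inclusion hPY x) = g x) (y : Y) :
    ψ y ∈ normalizerIn T P ∧ ∀ x : P,
      ((g * P.normalizerMonoidHom ⟨y, (hY y.2).2⟩ * g⁻¹) x : Ω) = ψ y * x * (ψ y)⁻¹ := by
  have hconj : ∀ x : P,
      ((g * P.normalizerMonoidHom ⟨y, (hY y.2).2⟩ * g⁻¹) x : Ω) = ψ y * x * (ψ y)⁻¹ := by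
    intro x
    obtain ⟨x₀, rfl⟩ := g.surjective x
    rw [MulAut.mul_apply, MulAut.mul_apply, MulAut.inv_def, MulEquiv.symm_apply_apply, ← hψg,
      ← hψg, ← map_inv, ← map_mul, ← map_mul]
    exact congrArg ψ (Subtype.ext rfl)
  exact ⟨⟨map_mem_S U hψ y, mem_normalizer_of_conj_eq _ hconj⟩, hconj⟩

variable [Finite S]

/-- An extension from a map on the preimage. -/
theorem ext_of_map (hd : Data p F E₁ E₂) {P : Subgroup Ω} (hPc : TCentric F (T₁ ⊓ T₂) P)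
    {g : MulAut P} {D : Subgroup (MulAut P)} (hI : Inn P ≤ D)
    (hD : D ≤ autInducedBy (T₁ ⊓ T₂) P)
    {ψ : preAut (T₁ ⊓ T₂) P D →* Ω} (hψ : ψ ∈ (meetSystem p F E₁ E₂).Hom (preAut (T₁ ⊓ T₂) P D))
    (hψg : ∀ x : P, ψ (Subgroup.inclusion (le_preAut hPc.1 hI) x) = g x) :
    Ext p F E₁ E₂ P g D (conjSub g D) := by
  have hPY := le_preAut hPc.1 hI
  have hY := preAut_le (T := T₁ ⊓ T₂) D
  have hr : ψ.range = preAut (T₁ ⊓ T₂) P (conjSub g D) := by
    apply le_antisymm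
    · rintro _ ⟨y, rfl⟩
      obtain ⟨hN, hconj⟩ := ext_conj _ hPY hY hψ hψg y
      refine mem_preAut.2 ⟨hN.1, hN.2, ?_⟩
      obtain ⟨-, hyN, hyD⟩ := mem_preAut.1 y.2
      have e : P.normalizerMonoidHom ⟨ψ y, hN.2⟩ = g * P.normalizerMonoidHom ⟨y, (hY y.2).2⟩ * g⁻¹ :=
        MulEquiv.ext fun x => Subtype.ext (hconj x).symm
      rw [e]
      exact mem_conjSub hyD
    · intro t ht
      obtain ⟨htT, htN, htD⟩ := mem_preAut.1 ht
      obtain ⟨d, hd', hde⟩ := htD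
      obtain ⟨y, hy, hye⟩ := mem_autInducedBy.1 ((autInducedBy_preAut hD).ge hd')
      obtain ⟨hN, hconj⟩ := ext_conj _ hPY hY hψ hψg ⟨y, hy⟩
      have e : P.normalizerMonoidHom ⟨y, (hY hy).2⟩ = d :=
        MulEquiv.ext fun x => Subtype.ext (hye x).symm
      rw [e] at hconj
      have hC : (ψ ⟨y, hy⟩)⁻¹ * t ∈ centralizerIn (T₁ ⊓ T₂) P := by
        refine ⟨(T₁ ⊓ T₂).mul_mem ((T₁ ⊓ T₂).inv_mem hN.1) htT,
          Subgroup.mem_centralizer_iff.2 fun x hx => ?_⟩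
        have h1 : t * x * t⁻¹ = ψ ⟨y, hy⟩ * x * (ψ ⟨y, hy⟩)⁻¹ :=
          (congrArg (fun w : MulAut P => ((w ⟨x, hx⟩ : P) : Ω)) hde).symm.trans (hconj ⟨x, hx⟩)
        calc x * ((ψ ⟨y, hy⟩)⁻¹ * t)
            = (ψ ⟨y, hy⟩)⁻¹ * (ψ ⟨y, hy⟩ * x * (ψ ⟨y, hy⟩)⁻¹) * t := by group
          _ = (ψ ⟨y, hy⟩)⁻¹ * t * x := by rw [← h1]; group
      obtain ⟨x₀, hx₀⟩ := g.surjective ⟨_, isConj_rfl_T hd.sc hPc hC⟩
      refine ⟨⟨y, hy⟩ * Subgroup.inclusion hPY x₀, ?_⟩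
      rw [map_mul, hψg, hx₀, mul_inv_cancel_left]
  exact ⟨toIso _ hψ hr, toIso_isIso _ hψ hr, fun x _ => hψg x⟩

theorem Ext.mono (hd : Data p F E₁ E₂) {P : Subgroup Ω} (hPc : TCentric F (T₁ ⊓ T₂) P)
    {g : MulAut P} {D D' D₁ : Subgroup (MulAut P)} (hI : Inn P ≤ D₁) (hD₁ : D₁ ≤ D)
    (hD : D ≤ autInducedBy (T₁ ⊓ T₂) P) (h : Ext p F E₁ E₂ P g D D') :
    Ext p F E₁ E₂ P g D₁ (conjSub g D₁) := by
  obtain ⟨e, he, hee⟩ := h
  have hle : preAut (T₁ ⊓ T₂) P D₁ ≤ preAut (T₁ ⊓ T₂) P D := fun t ht => by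
    obtain ⟨htT, htN, htD⟩ := mem_preAut.1 ht
    exact mem_preAut.2 ⟨htT, htN, hD₁ htD⟩
  exact ext_of_map hd hPc hI (hD₁.trans hD) (restr_mem _ hle he) fun x => hee x _

variable [Fact p.Prime]

/-- Automorphisms of the natural group stabilizing a subgroup of `Aut_T(P)` extend. -/
theorem exists_ext_stab (hd : Data p F E₁ E₂) {P : Subgroup Ω} (hP : TFN F (T₁ ⊓ T₂) P)
    (hPc : TCentric F (T₁ ⊓ T₂) P) {D : Subgroup (MulAut P)} (hI : Inn P ≤ D)
    (hD : D ≤ autInducedBy (T₁ ⊓ T₂) P) {σ : Subgroup (MulAut P)}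
    (hσ : SylIn p σ (natGroup p F E₁ E₂ P ⊓ Subgroup.normalizer (D : Set (MulAut P))))
    (hσT : σ ≤ autInducedBy (T₁ ⊓ T₂) P) {n : MulAut P} (hn : n ∈ natGroup p F E₁ E₂ P)
    (hnD : n ∈ Subgroup.normalizer (D : Set (MulAut P))) :
    Ext p F E₁ E₂ P n D D := by
  have hT := hd.sc
  have : Finite P := finite_of_le ‹_› (hP.1.trans hT.1)
  set U := meetSystem p F E₁ E₂
  set X := preAut (T₁ ⊓ T₂) P D
  have hPX : P ≤ X := le_preAut hP.1 hI
  have hX : X ≤ normalizerIn (T₁ ⊓ T₂) P := preAut_le D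
  have hXT : X ≤ T₁ ⊓ T₂ := hX.trans (normalizerIn_le P)
  let K : Subgroup (MulAut P) :=
    { carrier := {k | ∃ a ∈ U.autGroup X, ∀ x : P, (a (Subgroup.inclusion hPX x) : Ω) = k x}
      one_mem' := ⟨1, one_mem _, fun _ => rfl⟩
      mul_mem' := by
        rintro k l ⟨a, ha, hae⟩ ⟨b, hb, hbe⟩
        refine ⟨a * b, mul_mem ha hb, fun x => ?_⟩
        rw [MulAut.mul_apply, MulAut.mul_apply, ← hae (l x)]
        exact congrArg (fun w => ((a w : X) : Ω)) (Subtype.ext (hbe x))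
      inv_mem' := by
        rintro k ⟨a, ha, hae⟩
        refine ⟨a⁻¹, inv_mem ha, fun x => ?_⟩
        have e : a (Subgroup.inclusion hPX (k⁻¹ x)) = Subgroup.inclusion hPX x :=
          Subtype.ext (by rw [hae, MulAut.inv_def, MulEquiv.apply_symm_apply]; rfl)
        rw [← e, MulAut.inv_def, MulAut.inv_def, MulEquiv.symm_apply_apply]
        rfl }
  have hle : natGroup p F E₁ E₂ P ⊓ Subgroup.normalizer (D : Set (MulAut P)) ≤ K := by
    refine le_of_sylow_pprime hσ (fun s hs => ?_) fun a ha ho => ?_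
    · obtain ⟨t, ht, hte⟩ := mem_autInducedBy.1 (hσT hs)
      have htN : t ∈ Subgroup.normalizer (P : Set Ω) := mem_normalizer_of_conj_eq s hte
      have e : P.normalizerMonoidHom ⟨t, htN⟩ = s :=
        MulEquiv.ext fun x => Subtype.ext (hte x).symm
      have key : ∀ (t : Ω) (htT : t ∈ T₁ ⊓ T₂) (htN : t ∈ Subgroup.normalizer (P : Set Ω)),
          P.normalizerMonoidHom ⟨t, htN⟩ ∈ Subgroup.normalizer (D : Set (MulAut P)) →
          ∀ y ∈ X, t * y * t⁻¹ ∈ X := fun t htT htN hD' y hy => by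
        obtain ⟨hyT, hyN, hyD⟩ := mem_preAut.1 hy
        refine mem_preAut.2 ⟨(T₁ ⊓ T₂).mul_mem ((T₁ ⊓ T₂).mul_mem htT hyT)
          ((T₁ ⊓ T₂).inv_mem htT), (Subgroup.normalizer _).mul_mem
          ((Subgroup.normalizer _).mul_mem htN hyN) ((Subgroup.normalizer _).inv_mem htN), ?_⟩
        have h := (Subgroup.mem_normalizer_iff.1 hD' _).1 hyD
        rwa [← map_inv, ← map_mul, ← map_mul] at h
      have hsD : P.normalizerMonoidHom ⟨t, htN⟩ ∈ Subgroup.normalizer (D : Set (MulAut P)) :=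
        e.symm ▸ (hσ.le hs).2
      have htX : t ∈ Subgroup.normalizer (X : Set Ω) := by
        refine Subgroup.mem_normalizer_iff.2 fun y => ⟨key t ht htN hsD y, fun h => ?_⟩
        have h2 := key t⁻¹ ((T₁ ⊓ T₂).inv_mem ht) ((Subgroup.normalizer _).inv_mem htN) (by
          have h3 := (Subgroup.normalizer _).inv_mem hsD
          rwa [← map_inv] at h3) _ h
        simpa [mul_assoc] using h2
      refine ⟨X.normalizerMonoidHom ⟨t, htX⟩,
        autInducedBy_le_autGroup U hXT (mem_autInducedBy.2 ⟨t, ht, fun _ => rfl⟩),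
        fun x => (hte x).symm⟩
    · obtain ⟨α, hα, hαe⟩ := exists_ext_coprime hd hP hPc hPX hX ha.1 ho fun c hc => by
        rw [show autInducedBy X P = D from autInducedBy_preAut hD] at hc ⊢
        exact (Subgroup.mem_normalizer_iff.1 ha.2 c).1 hc
      exact ⟨α, meet_contains hd X (tCentric_mono hPc hPX hXT) hα, hαe⟩
  obtain ⟨a, ha, hae⟩ := hle ⟨hn, hnD⟩
  exact ⟨a, (mem_autGroup U hXT).1 ha, fun x _ => hae x⟩

/-- An element of the natural group extends as far as it carries `Aut_T(P)` into itself. -/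
theorem exists_ext (hd : Data p F E₁ E₂) {P : Subgroup Ω} (hP : TFN F (T₁ ⊓ T₂) P)
    (hPc : TCentric F (T₁ ⊓ T₂) P) {g : MulAut P} (hg : g ∈ natGroup p F E₁ E₂ P)
    {D : Subgroup (MulAut P)} (hI : Inn P ≤ D) (hD : D ≤ autInducedBy (T₁ ⊓ T₂) P)
    (hgD : conjSub g D ≤ autInducedBy (T₁ ⊓ T₂) P) :
    Ext p F E₁ E₂ P g D (conjSub g D) := by
  have hT := hd.sc
  have : Finite P := finite_of_le ‹_› (hP.1.trans hT.1)
  set AT := autInducedBy (T₁ ⊓ T₂) P with hAT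
  set M := natGroup p F E₁ E₂ P
  have hMsyl : SylIn p AT M := natGroup_sylow hd hP hPc
  have hATp : IsPGroup p AT := hMsyl.isPGroup
  induction hn : Nat.card AT - Nat.card D using Nat.strong_induction_on generalizing g D with
  | _ n IH =>
  have hcardc : ∀ (g : MulAut P) (D : Subgroup (MulAut P)), Nat.card (conjSub g D) = Nat.card D :=
    fun g D => (Nat.card_congr (D.equivMapOfInjective _ (MulEquiv.injective _)).toEquiv).symm
  rcases eq_or_lt_of_le hD with rfl | hlt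
  · have he : conjSub g AT = AT := eq_of_le_of_card_le hgD (hcardc g AT).ge
    have hgN : g ∈ Subgroup.normalizer (AT : Set (MulAut P)) := by
      refine Subgroup.mem_normalizer_iff.2 fun c => ⟨fun hc => he.le (mem_conjSub hc), fun hc => ?_⟩
      obtain ⟨c', hc', hc'e⟩ := he.ge hc
      rwa [show c' = c from (MulAut.conj g).injective hc'e] at hc'
    rw [he]
    refine exists_ext_stab hd hP hPc hI le_rfl ?_ le_rfl hg hgN
    obtain ⟨R, hR, hle⟩ := exists_sylIn_ge (p := p)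
      (N := M ⊓ Subgroup.normalizer (AT : Set (MulAut P)))
      (le_inf hMsyl.le Subgroup.le_normalizer) hATp
    rwa [le_antisymm (hMsyl.le_of_ge (hR.le.trans inf_le_left) hR.isPGroup hle) hle] at hR
  set D' := conjSub g D with hD'
  have hlt' : D' < AT := lt_of_le_of_ne hgD fun e => hlt.ne (eq_of_le_of_card_le hD (by
    rw [← e, hD', hcardc]))
  have hgrow : ∀ D₀, D₀ < AT → D₀ < AT ⊓ Subgroup.normalizer (D₀ : Set (MulAut P)) := by
    intro D₀ h
    obtain ⟨x, hx, hxN, hxD⟩ := exists_normalizer_mem_not_mem hATp h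
    exact lt_of_le_of_ne (le_inf h.le Subgroup.le_normalizer) fun e => hxD (e.ge ⟨hx, hxN⟩)
  have hcard : ∀ {D₀ D₁ : Subgroup (MulAut P)}, D₁ ≤ AT → D₀ < D₁ →
      Nat.card AT - Nat.card D₁ < Nat.card AT - Nat.card D₀ := by
    intro D₀ D₁ h1 h0
    have h2 : Nat.card D₀ < Nat.card D₁ := lt_of_le_of_ne (Subgroup.card_le_of_le h0.le)
      fun e => h0.ne (eq_of_le_of_card_le h0.le e.ge)
    have h3 := Subgroup.card_le_of_le h1
    omega
  set W := AT ⊓ Subgroup.normalizer (D' : Set (MulAut P))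
  have hWM : W ≤ M ⊓ Subgroup.normalizer (D' : Set (MulAut P)) := inf_le_inf_right _ hMsyl.le
  obtain ⟨σ, hσ, hWσ⟩ := exists_sylIn_ge hWM (hATp.to_le inf_le_left)
  obtain ⟨w, hw, hwσ⟩ := hMsyl.exists_conj_le (hσ.le.trans inf_le_left) hσ.isPGroup
  have hwW : conjSub w W ≤ AT := by
    rintro _ ⟨c, hc, rfl⟩
    exact hwσ c (hWσ hc)
  have hID' : Inn P ≤ D' := inn_le_conjSub g hI
  have hD'W : D' ≤ W := (hgrow D' hlt').le
  have hIW : Inn P ≤ W := hID'.trans hD'W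
  have hDcard : Nat.card AT - Nat.card W < n := by
    have h1 := hcard inf_le_left (hgrow D' hlt')
    rw [hD', hcardc] at h1
    exact hn ▸ h1
  have hEw : Ext p F E₁ E₂ P w D' (conjSub w D') :=
    (IH _ hDcard hIW inf_le_left hwW hw rfl).mono hd hPc hID' hD'W inf_le_left
  set D'' := conjSub w D' with hD''
  have hD''T : D'' ≤ AT := (Subgroup.map_mono hD'W).trans hwW
  have hID'' : Inn P ≤ D'' := inn_le_conjSub w hID'
  -- the Sylow subgroup of the stabilizer of `D''`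
  have hwN : ∀ c, c ∈ Subgroup.normalizer (D' : Set (MulAut P)) →
      w * c * w⁻¹ ∈ Subgroup.normalizer (D'' : Set (MulAut P)) := by
    intro c hc
    refine Subgroup.mem_normalizer_iff.2 fun d => ⟨?_, ?_⟩
    · rintro ⟨d', hd', rfl⟩
      refine ⟨c * d' * c⁻¹, (Subgroup.mem_normalizer_iff.1 hc d').1 hd', ?_⟩
      simp [mul_assoc]
    · rintro ⟨d', hd', hde⟩
      refine ⟨c⁻¹ * d' * c, ?_, ?_⟩
      · have := (Subgroup.mem_normalizer_iff.1 ((Subgroup.normalizer _).inv_mem hc) d').1 hd'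
        simpa using this
      · have e1 : w * d' * w⁻¹ = w * c * w⁻¹ * d * (w * c * w⁻¹)⁻¹ := hde
        show w * (c⁻¹ * d' * c) * w⁻¹ = d
        calc w * (c⁻¹ * d' * c) * w⁻¹
            = (w * c * w⁻¹)⁻¹ * (w * d' * w⁻¹) * (w * c * w⁻¹) := by group
          _ = d := by rw [e1]; group
  obtain ⟨σ', hσ', hσσ'⟩ := exists_sylIn_ge (p := p) (X := conjSub w σ)
    (N := M ⊓ Subgroup.normalizer (D'' : Set (MulAut P))) (by
      rintro _ ⟨c, hc, rfl⟩
      exact ⟨M.mul_mem (M.mul_mem hw (hσ.le hc).1) (M.inv_mem hw), hwN c (hσ.le hc).2⟩)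
    (hσ.isPGroup.map _)
  have hσeq : σ' = conjSub w σ := by
    refine le_antisymm ?_ hσσ'
    intro s hs
    have hback : conjSub w⁻¹ σ' ≤ σ := by
      refine hσ.le_of_ge ?_ (hσ'.isPGroup.map _) fun c hc => ⟨w * c * w⁻¹, hσσ' (mem_conjSub hc), ?_⟩
      · rintro _ ⟨c, hc, rfl⟩
        refine ⟨M.mul_mem (M.mul_mem (M.inv_mem hw) (hσ'.le hc).1) (M.inv_mem (M.inv_mem hw)), ?_⟩
        refine Subgroup.mem_normalizer_iff.2 fun d => ?_
        have h := Subgroup.mem_normalizer_iff.1 (hσ'.le hc).2 (w * d * w⁻¹)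
        have e1 : ∀ d, w * d * w⁻¹ ∈ D'' ↔ d ∈ D' := fun d => ⟨fun ⟨d', hd', he⟩ =>
          (MulAut.conj w).injective he ▸ hd', fun hd' => mem_conjSub hd'⟩
        rw [e1] at h
        rw [h, ← e1]
        simp [mul_assoc]
      · simp [mul_assoc]
    refine ⟨w⁻¹ * s * w⁻¹⁻¹, hback (mem_conjSub hs), ?_⟩
    simp [mul_assoc]
  have hσ'T : σ' ≤ AT := by
    rw [hσeq]
    rintro _ ⟨c, hc, rfl⟩
    exact hwσ c hc
  -- move the normalizer of `D`
  set V := AT ⊓ Subgroup.normalizer (D : Set (MulAut P))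
  have hDV : D < V := hgrow D hlt
  have hVN : conjSub (w * g) V ≤ M ⊓ Subgroup.normalizer (D'' : Set (MulAut P)) := by
    rintro _ ⟨c, hc, rfl⟩
    refine ⟨M.mul_mem (M.mul_mem (M.mul_mem hw hg) (hMsyl.le hc.1)) (M.inv_mem (M.mul_mem hw hg)), ?_⟩
    have e : D'' = conjSub (w * g) D := by rw [hD'', hD', conjSub_mul]
    rw [e]
    refine Subgroup.mem_normalizer_iff.2 fun d => ⟨?_, ?_⟩
    · rintro ⟨d', hd', rfl⟩
      refine ⟨c * d' * c⁻¹, (Subgroup.mem_normalizer_iff.1 hc.2 d').1 hd', ?_⟩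
      simp [mul_assoc]
    · rintro ⟨d', hd', hde⟩
      refine ⟨c⁻¹ * d' * c, ?_, ?_⟩
      · have := (Subgroup.mem_normalizer_iff.1 ((Subgroup.normalizer _).inv_mem hc.2) d').1 hd'
        simpa using this
      · have e1 : (w * g) * d' * (w * g)⁻¹ =
            (w * g) * c * (w * g)⁻¹ * d * ((w * g) * c * (w * g)⁻¹)⁻¹ := hde
        show (w * g) * (c⁻¹ * d' * c) * (w * g)⁻¹ = d
        calc (w * g) * (c⁻¹ * d' * c) * (w * g)⁻¹
            = ((w * g) * c * (w * g)⁻¹)⁻¹ * ((w * g) * d' * (w * g)⁻¹) *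
              ((w * g) * c * (w * g)⁻¹) := by group
          _ = d := by rw [e1]; group
  obtain ⟨n₀, hn₀, hn₀V⟩ := hσ'.exists_conj_le hVN ((hATp.to_le inf_le_left).map _)
  set k := n₀ * (w * g) with hk
  have hkM : k ∈ M := M.mul_mem hn₀.1 (M.mul_mem hw hg)
  have hkV : conjSub k V ≤ AT := by
    rintro _ ⟨c, hc, rfl⟩
    have h := hσ'T (hn₀V _ (mem_conjSub (g := w * g) hc))
    show k * c * k⁻¹ ∈ AT
    simpa [hk, mul_assoc] using h
  have hDn : Nat.card AT - Nat.card V < n := hn ▸ hcard inf_le_left hDV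
  have hEk : Ext p F E₁ E₂ P k D (conjSub k D) :=
    (IH _ hDn (hI.trans hDV.le) inf_le_left hkV hkM rfl).mono hd hPc hI hDV.le inf_le_left
  have hkD : conjSub k D = D'' := by
    have e : conjSub k D = conjSub n₀ D'' := by rw [hD'', hD', conjSub_mul, conjSub_mul, hk, mul_assoc]
    rw [e]
    refine le_antisymm ?_ fun d hd' => ⟨n₀⁻¹ * d * n₀, ?_, by simp [mul_assoc]⟩
    · rintro _ ⟨d, hd', rfl⟩
      exact (Subgroup.mem_normalizer_iff.1 hn₀.2 d).1 hd'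
    · have := (Subgroup.mem_normalizer_iff.1 ((Subgroup.normalizer _).inv_mem hn₀.2) d).1 hd'
      simpa using this
  rw [hkD] at hEk
  have hEn := exists_ext_stab hd hP hPc hID'' hD''T hσ' hσ'T (M.inv_mem hn₀.1)
    ((Subgroup.normalizer _).inv_mem hn₀.2)
  have h := (hEk.trans hP.1 hID'' hEn).trans hP.1 hID'' (hEw.symm hP.1 hID')
  have e : w⁻¹ * (n₀⁻¹ * k) = g := by
    rw [hk, inv_mul_cancel_left, inv_mul_cancel_left]
  rwa [e] at h

end Cfsg.Agent.Tech.Meet
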