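import Cfsg.Agent.Tech.MeetSylow

/-!
Restriction and extension between the natural groups of `R` and of subgroups of `N_T(R)`.
-/

set_option autoImplicit false

open Cfsg Cfsg.FusionSystem
open Cfsg.Agent.FusionSys Cfsg.Agent.FusionAlperin

namespace Cfsg.Agent.Tech.Meet

universe u

variable {Ω : Type u} [Group Ω] {S T₁ T₂ : Subgroup Ω} {p : ℕ} {F : FusionSystem S}
  {E₁ : FusionSystem T₁} {E₂ : FusionSystem T₂} [Finite S] [Fact p.Prime]

omit [Finite S] [Fact p.Prime] in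
/-- An automorphism fixing a `T`-centric subgroup moves only inside it. -/
theorem fix_disp {T : Subgroup Ω} (hT : F.StronglyClosed T) {R X : Subgroup Ω}
    (hRc : TCentric F T R) (hRX : R ≤ X) (hXT : X ≤ T)
    (hXN : X ≤ Subgroup.normalizer (R : Set Ω)) {g : MulAut X}
    (hfix : ∀ x : X, (x : Ω) ∈ R → g x = x) (y : X) : (y : Ω)⁻¹ * (g y : Ω) ∈ R := by
  refine isConj_rfl_T hT hRc ⟨T.mul_mem (T.inv_mem (hXT y.2)) (hXT (g y).2),
    Subgroup.mem_centralizer_iff.2 fun x hx => ?_⟩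
  have h1 := (Subgroup.mem_normalizer_iff.1 (hXN y.2) x).1 hx
  have h2 : ((g y : X) : Ω) * x * (g y : Ω)⁻¹ = (y : Ω) * x * (y : Ω)⁻¹ := by
    have e : g (y * ⟨x, hRX hx⟩ * y⁻¹) = y * ⟨x, hRX hx⟩ * y⁻¹ := hfix _ h1
    rw [map_mul, map_mul, map_inv, hfix ⟨x, hRX hx⟩ hx] at e
    exact congrArg Subtype.val e
  calc x * ((y : Ω)⁻¹ * (g y : Ω))
      = (y : Ω)⁻¹ * ((y : Ω) * x * (y : Ω)⁻¹) * (g y : Ω) := by group
    _ = (y : Ω)⁻¹ * (g y : Ω) * x := by rw [← h2]; group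

theorem fix_pow_eq_one (hS : IsPGroup p S) {R X : Subgroup Ω} (hXS : X ≤ S)
    {g : MulAut X} (hfix : ∀ x : X, (x : Ω) ∈ R → g x = x)
    (hdisp : ∀ y : X, (y : Ω)⁻¹ * (g y : Ω) ∈ R) : ∃ k : ℕ, g ^ p ^ k = 1 := by
  have : Finite X := finite_of_le ‹_› hXS
  obtain ⟨k, hk⟩ := ((hS.to_le hXS).to_subgroup (R.subgroupOf X)).exists_card_eq
  exact ⟨k, hk ▸ pow_card_eq_one_of_stab g (B := R.subgroupOf X) (fun y hy => hfix y hy) hdisp⟩

omit [Finite S] in
theorem isPGroup_zpowers {G : Type*} [Group G] {g : G} {k : ℕ} (hg : g ^ p ^ k = 1) :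
    IsPGroup p (Subgroup.zpowers g) := by
  obtain ⟨j, -, hj⟩ := (Nat.dvd_prime_pow (Fact.out : p.Prime)).1 (orderOf_dvd_of_pow_eq_one hg)
  exact IsPGroup.of_card (n := j) (by rw [Nat.card_zpowers, hj])

/-- A `p`-element of a natural group is transported to an element of `Aut_T`. -/
theorem exists_transport_autT (hd : Data p F E₁ E₂) {X : Subgroup Ω}
    (hXc : TCentric F (T₁ ⊓ T₂) X) {g : MulAut X} (hg : g ∈ natGroup p F E₁ E₂ X) {k : ℕ}
    (hk : g ^ p ^ k = 1) :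
    ∃ (X' : Subgroup Ω) (f : X ≃* X'), X' ≤ T₁ ⊓ T₂ ∧ IsIso F f ∧
      MulAut.congr f g ∈ autInducedBy (T₁ ⊓ T₂) X' := by
  have hT := hd.sc
  obtain ⟨X', hXX', hX'⟩ := exists_fullyNormalized F (hXc.1.trans hT.1)
  obtain ⟨e, he⟩ := (isConj_iff_exists_iso F).1 hXX'
  have hX'c := tCentric_of_isConj hT hXc hXX'
  have : Finite X' := finite_of_le ‹_› hX'.1
  have hge := natGroup_congr he hg
  have hgp : IsPGroup p (Subgroup.zpowers (MulAut.congr e g)) :=
    isPGroup_zpowers (k := k) (by rw [← map_pow, hk, map_one])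
  obtain ⟨χ, hχ, hχe⟩ := (natGroup_sylow_fn hd hX' hX'c).exists_conj_le
    (Subgroup.zpowers_le.2 hge) hgp
  have hχF : IsIso F (χ : X' ≃* X') :=
    (mem_autGroup F hX'.1).1 (natGroup_le hd hX'c.1 hχ).1
  refine ⟨X', e.trans χ, hX'c.1, he.trans hχF, ?_⟩
  rw [← congr_trans, congr_self]
  exact hχe _ (Subgroup.mem_zpowers _)

/-- An element of the natural group of `X ≤ N_T(R)` fixing `R` is inner from `Z(R)`. -/
theorem fix_eq_inner (hd : Data p F E₁ E₂) {R X : Subgroup Ω}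
    (hRc : TCentric F (T₁ ⊓ T₂) R) (hRX : R ≤ X) (hXT : X ≤ T₁ ⊓ T₂)
    (hXN : X ≤ Subgroup.normalizer (R : Set Ω)) {g : MulAut X} (hg : g ∈ natGroup p F E₁ E₂ X)
    (hfix : ∀ x : X, (x : Ω) ∈ R → g x = x) :
    ∃ z ∈ R, z ∈ Subgroup.centralizer (R : Set Ω) ∧ ∀ x : X, (g x : Ω) = z * x * z⁻¹ := by
  have hT := hd.sc
  obtain ⟨k, hk⟩ := fix_pow_eq_one hd.pgroup (hXT.trans hT.1) hfix
    (fix_disp hT hRc hRX hXT hXN hfix)
  obtain ⟨X', f, hX'T, hf, hft⟩ :=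
    exists_transport_autT hd (tCentric_mono hRc hRX hXT) hg hk
  obtain ⟨t, ht, hte⟩ := mem_autInducedBy.1 hft
  have hr : (restr hRX (X'.subtype.comp f.toMonoidHom)).range ≤ T₁ ⊓ T₂ := by
    rintro _ ⟨x, rfl⟩
    exact hX'T (f _).2
  have hRc' : TCentric F (T₁ ⊓ T₂) (restr hRX (X'.subtype.comp f.toMonoidHom)).range :=
    tCentric_of_isConj hT hRc ⟨_, restr_mem F hRX hf, rfl⟩
  have htfix : ∀ x : X, (x : Ω) ∈ R → t * (f x : Ω) * t⁻¹ = f x := fun x hx => by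
    rw [← hte (f x), autCongr_apply, MulEquiv.symm_apply_apply, hfix x hx]
  obtain ⟨z, hz⟩ := isConj_rfl_T hT hRc' ⟨ht, Subgroup.mem_centralizer_iff.2 (by
    rintro _ ⟨x, rfl⟩
    have h := htfix ⟨x, hRX x.2⟩ x.2
    show (f ⟨x, _⟩ : Ω) * t = t * f ⟨x, _⟩
    calc (f ⟨x, _⟩ : Ω) * t = t * f ⟨x, hRX x.2⟩ * t⁻¹ * t := by rw [h]
      _ = t * f ⟨x, hRX x.2⟩ := by group)⟩
  set zX : X := ⟨z, hRX z.2⟩
  have hzt : (f zX : Ω) = t := hz
  have hgx : ∀ x : X, g x = zX * x * zX⁻¹ := fun x => by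
    apply f.injective
    refine Subtype.ext ?_
    have h := hte (f x)
    rw [autCongr_apply, MulEquiv.symm_apply_apply] at h
    rw [h, map_mul, map_mul, map_inv, Subgroup.coe_mul, Subgroup.coe_mul, Subgroup.coe_inv, hzt]
  refine ⟨z, z.2, Subgroup.mem_centralizer_iff.2 fun x hx => ?_, fun x =>
    congrArg Subtype.val (hgx x)⟩
  have h := congrArg Subtype.val ((hgx ⟨x, hRX hx⟩).symm.trans (hfix ⟨x, hRX hx⟩ hx))
  change (z : Ω) * x * (z : Ω)⁻¹ = x at h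
  calc x * (z : Ω) = (z : Ω) * x * (z : Ω)⁻¹ * z := by rw [h]
    _ = z * x := by group

/-- The restriction to `R` of a `p`-element of a natural group is natural. -/
theorem restrict_pElem (hd : Data p F E₁ E₂) {R X : Subgroup Ω}
    (hRc : TCentric F (T₁ ⊓ T₂) R) (hRX : R ≤ X) (hXT : X ≤ T₁ ⊓ T₂) {g : MulAut X}
    (hg : g ∈ natGroup p F E₁ E₂ X) {k : ℕ} (hk : g ^ p ^ k = 1) {r : MulAut R}
    (hgr : ∀ x : R, (g ⟨x, hRX x.2⟩ : Ω) = r x) : r ∈ natGroup p F E₁ E₂ R := by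
  have hT := hd.sc
  obtain ⟨X', f, hX'T, hf, hft⟩ := exists_transport_autT hd (tCentric_mono hRc hRX hXT) hg hk
  obtain ⟨t, ht, hte⟩ := mem_autInducedBy.1 hft
  set R' := (restr hRX (X'.subtype.comp f.toMonoidHom)).range
  set f₀ := toIso F (restr_mem F hRX hf) (rfl : _ = R')
  have hR'T : R' ≤ T₁ ⊓ T₂ := by
    rintro _ ⟨x, rfl⟩
    exact hX'T (f _).2
  have hmem : MulAut.congr f₀ r ∈ autInducedBy (T₁ ⊓ T₂) R' := by
    refine mem_autInducedBy.2 ⟨t, ht, fun y => ?_⟩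
    obtain ⟨x, rfl⟩ := f₀.surjective y
    rw [autCongr_apply, MulEquiv.symm_apply_apply]
    show (f ⟨r x, hRX (r x).2⟩ : Ω) = t * f ⟨x, hRX x.2⟩ * t⁻¹
    rw [← hte, autCongr_apply, MulEquiv.symm_apply_apply]
    exact congrArg (fun w => ((f w : X') : Ω)) (Subtype.ext (hgr x).symm)
  have h := natGroup_congr (toIso_isIso F (restr_mem F hRX hf) (rfl : _ = R')).symm
    (autT_le_natGroup hd hR'T hmem)
  rwa [congr_symm_congr] at h

/-- `DOWN` for elements of order prime to `p` and fully normalized `R`. -/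
theorem restrict_coprime (hd : Data p F E₁ E₂) {R : Subgroup Ω} (hR : F.IsFullyNormalized R)
    (hRc : TCentric F (T₁ ⊓ T₂) R) {N : Subgroup Ω} (hNdef : N = normalizerIn (T₁ ⊓ T₂) R)
    (hRN : R ≤ N) {g : MulAut N} (hg : g ∈ natGroup p F E₁ E₂ N)
    (ho : Nat.Coprime (orderOf g) p) {r : MulAut R}
    (hgr : ∀ x : R, (g ⟨x, hRN x.2⟩ : Ω) = r x) :
    r ∈ natGroup p F E₁ E₂ R := by
  have hS := hd.pgroup
  have hF := hd.sat
  have hT := hd.sc
  have hRS := hR.1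
  have hNT : N ≤ T₁ ⊓ T₂ := hNdef ▸ normalizerIn_le R
  have hNR : N ≤ Subgroup.normalizer (R : Set Ω) := hNdef ▸ inf_le_right
  have hNS : N ≤ S := hNT.trans hT.1
  have hNc := tCentric_mono hRc hRN hNT
  have : Finite N := finite_of_le ‹_› hNS
  have : Finite R := finite_of_le ‹_› hRS
  obtain ⟨Ns, hNNs, hNs⟩ := exists_fullyNormalized F hNS
  have hNsc := tCentric_of_isConj hT hNc hNNs
  obtain ⟨χ, hχ, -, hχm⟩ := exists_normalizer_map_fullyNormalized hS hF hNs hNNs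
  have hNN := le_normalizerIn (S := S) hNS
  have hχc : Carries χ N Ns := ⟨hNN, hχm⟩
  set e := toIso F (restr_mem F hNN hχ) hχc.range_restr_eq
  have he : IsIso F e := toIso_isIso F _ _
  have hev : ∀ x : N, (e x : Ω) = χ (Subgroup.inclusion hNN x) := fun _ => rfl
  have hgs := natGroup_le_good hd hNs hNsc (natGroup_congr he hg)
  have hos : Nat.Coprime (orderOf (MulAut.congr e g)) p := by
    rw [MulEquiv.orderOf_eq]; exact ho
  set Q := Ns ⊔ centralizerIn S Ns with hQdef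
  have hQS : Q ≤ S := sup_le hNs.1 (centralizerIn_le Ns)
  obtain ⟨B, hB, hBa, hBm, hBo⟩ := exists_coprime_lift hgs.1.1 hos hQS
  -- `C_S(R)` normalizes `N`
  have hVN : centralizerIn S R ≤ normalizerIn S N := by
    intro v hv
    have key : ∀ v ∈ centralizerIn S R, ∀ t ∈ N, v * t * v⁻¹ ∈ N := fun v hv t ht => by
      rw [hNdef] at ht ⊢
      exact ⟨sc_conj_mem hT hv.1 ht.1, (Subgroup.normalizer _).mul_mem
        ((Subgroup.normalizer _).mul_mem (centralizerIn_le_normalizerIn R hv).2 ht.2)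
        ((Subgroup.normalizer _).inv_mem (centralizerIn_le_normalizerIn R hv).2)⟩
    refine ⟨hv.1, Subgroup.mem_normalizer_iff.2 fun t => ⟨key v hv t, fun h => ?_⟩⟩
    have := key v⁻¹ ((centralizerIn S R).inv_mem hv) _ h
    simpa [mul_assoc] using this
  set V' := ((centralizerIn S R).subgroupOf (normalizerIn S N)).map χ
  set W := Q ⊔ V' with hWdef
  have hV'N : V' ≤ normalizerIn S Ns := by
    rintro _ ⟨x, -, rfl⟩
    exact hχc.mem_normalizerIn hχ le_rfl x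
  have hQW : Q ≤ W := le_sup_left
  have hQN : Q ≤ normalizerIn S Ns :=
    sup_le (le_normalizerIn hNs.1) (centralizerIn_le_normalizerIn Ns)
  have hWN : W ≤ normalizerIn S Q := sup_le (le_normalizerIn hQS) fun w hw =>
    ⟨(hV'N hw).1, mem_normalizer_lift (hV'N hw)⟩
  have hNsfc := fc_of_fn hd hNs
  -- conjugates by `B`
  have hBconj : ∀ w ∈ V', ∀ hwQ : w ∈ Subgroup.normalizer (Q : Set Ω),
      ∃ q ∈ Q, ∀ y : Q, (B (Q.normalizerMonoidHom ⟨w, hwQ⟩ (B.symm y)) : Ω) =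
        (q * w) * y * (q * w)⁻¹ := by
    intro w hw hwQ
    obtain ⟨v, hv, hvw⟩ := hw
    have hvR : (v : Ω) ∈ centralizerIn S R := hv
    set cv := N.normalizerMonoidHom ⟨v, v.2.2⟩
    have hcv : cv ∈ F.autGroup N :=
      autInducedBy_le_autGroup F hNS (mem_autInducedBy.2 ⟨v, v.2.1, fun _ => rfl⟩)
    have hm : g * cv * g⁻¹ * cv⁻¹ ∈ natGroup p F E₁ E₂ N := by
      have h1 := natGroup_conj hd hNT hcv ((natGroup p F E₁ E₂ N).inv_mem hg)
      have h2 := (natGroup p F E₁ E₂ N).mul_mem hg h1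
      simpa [mul_assoc] using h2
    have hcvfix : ∀ x : N, (x : Ω) ∈ R → cv x = x := fun x hx => Subtype.ext (by
      show (v : Ω) * x * (v : Ω)⁻¹ = x
      rw [← Subgroup.mem_centralizer_iff.1 hvR.2 _ hx, mul_inv_cancel_right])
    have hmfix : ∀ x : N, (x : Ω) ∈ R → (g * cv * g⁻¹ * cv⁻¹) x = x := fun x hx => by
      have h1 : cv⁻¹ x = x := by
        rw [MulAut.inv_def, MulEquiv.symm_apply_eq, hcvfix x hx]
      have h2 : ((g.symm x : N) : Ω) ∈ R := by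
        have e1 : g ⟨(r.symm ⟨x, hx⟩ : R), hRN (r.symm ⟨x, hx⟩).2⟩ = x :=
          Subtype.ext ((hgr _).trans (congrArg Subtype.val (r.apply_symm_apply ⟨x, hx⟩)))
        rw [← e1, MulEquiv.symm_apply_apply]
        exact (r.symm ⟨x, hx⟩).2
      rw [MulAut.mul_apply, MulAut.mul_apply, MulAut.mul_apply, h1, MulAut.inv_def, hcvfix _ h2,
        MulEquiv.apply_symm_apply]
    obtain ⟨z, hz, -, hze⟩ := fix_eq_inner hd hRc hRN hNT hNR hm hmfix
    set z' : Ω := (e ⟨z, hRN hz⟩ : Ω)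
    set cw := Q.normalizerMonoidHom ⟨w, hwQ⟩
    set β := B * cw * B⁻¹ * cw⁻¹ with hβdef
    have hcw : cw ∈ F.autGroup Q := autInducedBy_le_autGroup F hQS
      (mem_autInducedBy.2 ⟨w, hvw ▸ map_mem_S F hχ v, fun _ => rfl⟩)
    have hβF : β ∈ F.autGroup Q :=
      mul_mem (mul_mem (mul_mem hB hcw) ((F.autGroup Q).inv_mem hB)) ((F.autGroup Q).inv_mem hcw)
    have hwNs : w ∈ normalizerIn S Ns := hvw ▸ hχc.mem_normalizerIn hχ le_rfl v
    -- conjugates of displacements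
    have hcwm : ∀ y : Q, (y : Ω)⁻¹ * ((cw * B⁻¹ * cw⁻¹) y : Ω) ∈ Ns := fun y => by
      set u := cw.symm y
      have h1 : (u : Ω)⁻¹ * (B.symm u : Ω) ∈ Ns := by
        have := Ns.inv_mem (hBm (B.symm u))
        simpa using this
      have h2 := (Subgroup.mem_normalizer_iff.1 hwNs.2 _).1 h1
      have e1 : (y : Ω) = w * u * w⁻¹ := by
        show _ = ((cw u : Q) : Ω)
        rw [MulEquiv.apply_symm_apply]
      show (y : Ω)⁻¹ * (w * (B.symm u : Ω) * w⁻¹) ∈ Ns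
      rw [e1]
      simpa [mul_assoc] using h2
    have hβm : ∀ y : Q, (y : Ω)⁻¹ * (β y : Ω) ∈ Ns := fun y => by
      have e1 : β y = B ((cw * B⁻¹ * cw⁻¹) y) := by
        simp [hβdef, MulAut.mul_apply]
      rw [e1]
      have := Ns.mul_mem (hcwm y) (hBm ((cw * B⁻¹ * cw⁻¹) y))
      simpa [mul_assoc] using this
    have hz' : z' ∈ normalizerIn S Ns := le_normalizerIn hNs.1 (e ⟨z, hRN hz⟩).2
    have hres : ∀ x : Q, (x : Ω) ∈ Ns → (β x : Ω) = z' * x * z'⁻¹ := by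
      intro x hx
      obtain ⟨n, hn⟩ := e.surjective ⟨x, hx⟩
      have hxn : (x : Ω) = χ (Subgroup.inclusion hNN n) := by rw [← hev, hn]
      have hcwe : ∀ (m : N) (hm : (e m : Ω) ∈ Q),
          (cw ⟨e m, hm⟩ : Ω) = e (cv m) := fun m hm => by
        show w * (e m : Ω) * w⁻¹ = _
        rw [hev, hev, ← hvw, ← map_inv, ← map_mul, ← map_mul]
        exact congrArg χ (Subtype.ext rfl)
      have hBe : ∀ (m : N) (hm : (e m : Ω) ∈ Q), (B ⟨e m, hm⟩ : Ω) = e (g m) := fun m hm => by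
        refine (hBa (e m)).trans ?_
        rw [autCongr_apply, MulEquiv.symm_apply_apply]
      have hQe : ∀ m : N, (e m : Ω) ∈ Q := fun m => Subgroup.mem_sup_left (e m).2
      have hcwi : ∀ m : N, cw⁻¹ ⟨e m, hQe m⟩ = ⟨e (cv⁻¹ m), hQe _⟩ := fun m => by
        rw [MulAut.inv_def, MulEquiv.symm_apply_eq]
        refine Subtype.ext ?_
        rw [hcwe, MulAut.inv_def, MulEquiv.apply_symm_apply]
      have hBi : ∀ m : N, B⁻¹ ⟨e m, hQe m⟩ = ⟨e (g⁻¹ m), hQe _⟩ := fun m => by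
        rw [MulAut.inv_def, MulEquiv.symm_apply_eq]
        refine Subtype.ext ?_
        rw [hBe, MulAut.inv_def, MulEquiv.apply_symm_apply]
      have hxe : x = ⟨e n, hQe n⟩ := Subtype.ext (congrArg Subtype.val hn).symm
      have e2 : (β x : Ω) = e ((g * cv * g⁻¹ * cv⁻¹) n) := by
        rw [hxe, hβdef, MulAut.mul_apply, MulAut.mul_apply, MulAut.mul_apply, hcwi, hBi]
        have e3 : cw ⟨e (g⁻¹ (cv⁻¹ n)), hQe _⟩ = ⟨e (cv (g⁻¹ (cv⁻¹ n))), hQe _⟩ :=
          Subtype.ext (hcwe _ _)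
        rw [e3, hBe]
        rfl
      have e4 : (g * cv * g⁻¹ * cv⁻¹) n = ⟨z, hRN hz⟩ * n * ⟨z, hRN hz⟩⁻¹ :=
        Subtype.ext (hze n)
      rw [e2, e4, map_mul, map_mul, map_inv, hn]
      simp [z']
    obtain ⟨c, hc, hce⟩ := lift_conj hS hF hNsfc hβF hβm hz' hres
    refine ⟨c * z', Q.mul_mem (Subgroup.mem_sup_right hc) (Subgroup.mem_sup_left (e _).2),
      fun y => ?_⟩
    have h := hce (cw y)
    have e1 : β (cw y) = B (cw (B.symm y)) := by
      simp [hβdef, MulAut.mul_apply, MulAut.inv_def]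
    rw [e1] at h
    rw [h]
    show c * z' * (w * (y : Ω) * w⁻¹) * (c * z')⁻¹ = _
    group
  -- extend `B` over `W`
  have hcar : W ≤ carried S Q B := by
    refine sup_le (le_carried_self F hQS B) fun w hw => ?_
    have hwQ := mem_normalizer_lift (hV'N hw)
    obtain ⟨q, hq, hqe⟩ := hBconj w hw hwQ
    refine ⟨⟨w, hwQ⟩, ?_, rfl⟩
    show B * Q.normalizerMonoidHom ⟨w, hwQ⟩ * B⁻¹ ∈ autInducedBy S Q
    exact mem_autInducedBy.2 ⟨q * w, S.mul_mem (hQS hq) (hV'N hw).1, fun y => hqe y⟩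
  obtain ⟨φ, hφ, hφe⟩ := exists_ext_aut' (lift_receptive hS hF hNsfc) hB hQW hWN hcar
  have hQc := centric_lift hNsfc
  have hφV : ∀ (w : Ω) (hw : w ∈ V'), w⁻¹ * φ ⟨w, Subgroup.mem_sup_right hw⟩ ∈ Q := by
    intro w hw
    have hwQ := mem_normalizer_lift (hV'N hw)
    obtain ⟨q, hq, hqe⟩ := hBconj w hw hwQ
    set u := φ ⟨w, Subgroup.mem_sup_right hw⟩
    have hd' : (q * w)⁻¹ * u ∈ centralizerIn S Q := by
      refine ⟨S.mul_mem (S.inv_mem (S.mul_mem (hQS hq) (hV'N hw).1)) (map_mem_S F hφ _),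
        Subgroup.mem_centralizer_iff.2 fun y hy => ?_⟩
      have h1 : u * y * u⁻¹ = (q * w) * y * (q * w)⁻¹ := by
        rw [← hqe ⟨y, hy⟩]
        obtain ⟨y₀, hy₀⟩ := B.surjective ⟨y, hy⟩
        rw [← hy₀, MulEquiv.symm_apply_apply, ← hφe,
          show y = φ (Subgroup.inclusion hQW y₀) by rw [hφe, hy₀], ← map_inv, ← map_mul, ← map_mul]
        exact congrArg φ (Subtype.ext rfl)
      calc y * ((q * w)⁻¹ * u) = (q * w)⁻¹ * ((q * w) * y * (q * w)⁻¹) * u := by group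
        _ = (q * w)⁻¹ * u * y := by rw [← h1]; group
    have h2 : (q * w)⁻¹ * u ∈ Q := hQc.2 Q (isConj_refl F hQS) hd'
    have h3 : w⁻¹ * q * w ∈ Q := by
      have := (Subgroup.mem_normalizer_iff.1 ((Subgroup.normalizer _).inv_mem hwQ) q).1 hq
      simpa using this
    have := Q.mul_mem h3 h2
    simpa [mul_assoc] using this
  have hWS : W ≤ S := hWN.trans (normalizerIn_le Q)
  have : Finite W := finite_of_le ‹_› hWS
  have hr : φ.range = W := by
    refine range_eq_of_image_le (F.injective_of_mem hφ) (range_le_sup_of_le φ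
      (fun x hx => hQW ((hφe ⟨x, hx⟩).symm ▸ (B _).2)) fun x hx => ?_) le_rfl
    have := W.mul_mem (Subgroup.mem_sup_right hx) (hQW (hφV x hx))
    simpa using this
  set Φ := toIso F hφ hr
  have hΦF : Φ ∈ F.autGroup W := toIso_mem_autGroup F hφ hr
  obtain ⟨k, a, m, hom, hmp, hek, hk1⟩ :=
    exists_exponent (o := orderOf Φ) (orderOf_pos Φ).ne' (Fact.out : p.Prime) hBo
  have hBk : B ^ k = B := by
    conv_rhs => rw [← pow_one B]
    exact pow_eq_pow_iff_modEq.2 hk1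
  have hΦQ : ∀ x : Q, ((Φ ^ k : MulAut W) (Subgroup.inclusion hQW x) : Ω) = B x := fun x => by
    rw [pow_ext_apply hQW (α := Φ) (a := B) hφe k x, hBk]
  have hΦo : Nat.Coprime (orderOf (Φ ^ k)) p := by
    refine Nat.Coprime.coprime_dvd_left (orderOf_dvd_of_pow_eq_one (n := m) ?_) hmp
    obtain ⟨l, rfl⟩ := hek
    rw [← pow_mul, show p ^ a * l * m = orderOf Φ * l by rw [hom]; ring, pow_mul, pow_orderOf_eq_one,
      one_pow]
  -- displacements of `Φ^k` lie in `Ns`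
  have hdispV : ∀ (w : Ω) (hw : w ∈ V'),
      w⁻¹ * ((Φ ^ k : MulAut W) ⟨w, Subgroup.mem_sup_right hw⟩ : Ω) ∈ Ns := by
    intro w hw
    set x : W := ⟨w, Subgroup.mem_sup_right hw⟩
    have hpow : ∀ i : ℕ, w⁻¹ * ((Φ ^ i : MulAut W) x : Ω) ∈ Q := by
      intro i
      induction i with
      | zero => simp [x]
      | succ i ih =>
        rw [pow_succ', MulAut.mul_apply]
        have e1 : (Φ ^ i : MulAut W) x = x * ⟨_, hQW ih⟩ := Subtype.ext (mul_inv_cancel_left _ _).symm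
        rw [e1, map_mul, Subgroup.coe_mul]
        have h2 : (Φ ⟨_, hQW ih⟩ : Ω) ∈ Q := by
          show φ ⟨_, _⟩ ∈ Q
          rw [show φ ⟨_, hQW ih⟩ = B ⟨_, ih⟩ from hφe ⟨_, ih⟩]
          exact (B _).2
        have := Q.mul_mem (hφV w hw) h2
        simpa [mul_assoc, x, Φ] using this
    haveI : (Ns.subgroupOf W).Normal := by
      refine (Subgroup.normal_subgroupOf_iff_le_normalizer
        ((le_sup_left : Ns ≤ Q).trans hQW)).2 (sup_le ?_ ?_)
      · exact hQN.trans inf_le_right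
      · exact hV'N.trans inf_le_right
    obtain ⟨j, hj⟩ := hS ⟨_, hQS (hpow k)⟩
    have hj' := congrArg Subtype.val hj
    refine disp_mem_of_coprime (N := Ns.subgroupOf W) (α := Φ ^ k) (x := x) (k := j) ?_ hΦo ?_ ?_
    · intro n hn
      have h1 := hBm ⟨n, Subgroup.mem_sup_left hn⟩
      show ((Φ ^ k : MulAut W) n : Ω) ∈ Ns
      rw [show ((Φ ^ k : MulAut W) n : Ω) = B ⟨n, Subgroup.mem_sup_left hn⟩ from
        hΦQ ⟨n, Subgroup.mem_sup_left hn⟩]
      simpa using Ns.mul_mem hn h1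
    · refine Subtype.ext ?_
      simpa using hj'
    · set c : Q := ⟨w⁻¹ * ((Φ ^ k : MulAut W) x : Ω), hpow k⟩
      have e1 : x⁻¹ * (Φ ^ k : MulAut W) x = Subgroup.inclusion hQW c := Subtype.ext rfl
      rw [e1, Subgroup.mem_subgroupOf, Subgroup.coe_mul, Subgroup.coe_inv, hΦQ c]
      exact hBm c
  -- pull back to `R C_S(R)`
  set U := R ⊔ centralizerIn S R with hUdef
  have hUN : U ≤ normalizerIn S N := sup_le (hRN.trans hNN) hVN
  have hθ := restr_mem F hUN hχ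
  set U' := (restr hUN χ).range
  set ι := toIso F hθ (rfl : (restr hUN χ).range = U') with hιdef
  have hU'W : U' ≤ W := by
    refine range_le_sup_of_le _ (fun x hx => hQW (Subgroup.mem_sup_left ?_))
      fun x hx => Subgroup.mem_sup_right ⟨Subgroup.inclusion hUN x, hx, rfl⟩
    show χ (Subgroup.inclusion hUN x) ∈ Ns
    exact hev ⟨x, hRN hx⟩ ▸ (e _).2
  have hιv : ∀ x : U, (ι x : Ω) = χ (Subgroup.inclusion hUN x) := fun x =>
    (toIso_coe F hθ (rfl : (restr hUN χ).range = U') x).trans (restr_apply hUN χ x)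
  have hstabR : ∀ (x : U) (hx : (x : Ω) ∈ R), ((Φ ^ k : MulAut W) ⟨ι x, hU'W (ι x).2⟩ : Ω) =
      χ (Subgroup.inclusion hNN (Subgroup.inclusion hRN (r ⟨x, hx⟩))) := by
    intro x hx
    have h1 : (ι x : Ω) = e ⟨x, hRN hx⟩ := rfl
    have h2 := hΦQ ⟨e ⟨x, hRN hx⟩, Subgroup.mem_sup_left (e _).2⟩
    have h3 := hBa (e ⟨x, hRN hx⟩)
    rw [autCongr_apply, MulEquiv.symm_apply_apply] at h3
    have e2 : g ⟨x, hRN hx⟩ = Subgroup.inclusion hRN (r ⟨x, hx⟩) := Subtype.ext (hgr ⟨x, hx⟩)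
    rw [e2] at h3
    refine Eq.trans ?_ (h2.trans h3)
    exact congrArg (fun w => (((Φ ^ k : MulAut W) w : W) : Ω)) (Subtype.ext h1)
  have hstabV : ∀ (x : U) (hx : (x : Ω) ∈ centralizerIn S R),
      ∃ n : Ω, ∃ hn : n ∈ R, ((Φ ^ k : MulAut W) ⟨ι x, hU'W (ι x).2⟩ : Ω) =
        χ ⟨x * n, (normalizerIn S N).mul_mem (hUN x.2) (hNN (hRN hn))⟩ := by
    intro x hx
    have hxV' : (ι x : Ω) ∈ V' := ⟨Subgroup.inclusion hUN x, hx, rfl⟩
    have h1 := hdispV _ hxV'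
    obtain ⟨n, hn⟩ := e.surjective ⟨_, h1⟩
    have hn' : χ (Subgroup.inclusion hNN n) =
        (ι x : Ω)⁻¹ * ((Φ ^ k : MulAut W) ⟨ι x, hU'W (ι x).2⟩ : Ω) := by rw [← hev, hn]
    have hval : ((Φ ^ k : MulAut W) ⟨ι x, hU'W (ι x).2⟩ : Ω) =
        χ (Subgroup.inclusion hUN x * Subgroup.inclusion hNN n) := by
      rw [map_mul, ← hιv, hn', mul_inv_cancel_left]
    have hcent : ∀ s ∈ R, s * ((x : Ω) * n) = (x : Ω) * n * s := by
      intro s hs
      obtain ⟨s₀, hs₀⟩ := r.surjective ⟨s, hs⟩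
      set y : U := ⟨s₀, Subgroup.mem_sup_left s₀.2⟩
      have hcomm : (⟨ι y, hU'W (ι y).2⟩ : W) * ⟨ι x, hU'W (ι x).2⟩ =
          ⟨ι x, hU'W (ι x).2⟩ * ⟨ι y, hU'W (ι y).2⟩ := by
        refine Subtype.ext ?_
        show (ι y : Ω) * ι x = ι x * ι y
        rw [← Subgroup.coe_mul, ← Subgroup.coe_mul, ← map_mul, ← map_mul]
        exact congrArg (fun w => ((ι w : U') : Ω))
          (Subtype.ext (Subgroup.mem_centralizer_iff.1 hx.2 _ s₀.2))
      have h2 := congrArg (fun w => (((Φ ^ k : MulAut W) w : W) : Ω)) hcomm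
      simp only [map_mul, Subgroup.coe_mul] at h2
      rw [hval, hstabR y s₀.2] at h2
      have h3 := F.injective_of_mem hχ ((map_mul χ _ _).trans (h2.trans (map_mul χ _ _).symm))
      have h4 := congrArg Subtype.val h3
      have e5 : ((r ⟨y, s₀.2⟩ : R) : Ω) = s := by
        rw [show (⟨(y : Ω), s₀.2⟩ : R) = s₀ from rfl, hs₀]
      simpa [e5] using h4
    have hnC : (n : Ω) ∈ centralizerIn (T₁ ⊓ T₂) R := by
      refine ⟨hNT n.2, Subgroup.mem_centralizer_iff.2 fun s hs => ?_⟩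
      have hxs := Subgroup.mem_centralizer_iff.1 hx.2 s hs
      calc s * (n : Ω) = (x : Ω)⁻¹ * ((x : Ω) * s) * n := by group
        _ = (x : Ω)⁻¹ * (s * ((x : Ω) * n)) := by rw [← hxs]; group
        _ = n * s := by rw [hcent s hs]; group
    exact ⟨n, isConj_rfl_T hT hRc hnC, hval⟩
  have hΦkF : (Φ ^ k : MulAut W) ∈ F.autGroup W := pow_mem hΦF k
  have hU'S : U' ≤ S := hU'W.trans hWS
  have : Finite U' := finite_of_le ‹_› hU'S
  set ψ := restr hU'W (W.subtype.comp (Φ ^ k : MulAut W).toMonoidHom) with hψdef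
  have hψ : ψ ∈ F.Hom U' := restr_mem F hU'W (autGroup_mem_hom F hWS hΦkF)
  have hψι : ∀ x : U, ∃ y : U, ψ (ι x) = ι y ∧
      (((x : Ω) ∈ R → (y : Ω) ∈ R) ∧ ((x : Ω) ∈ centralizerIn S R → (x : Ω)⁻¹ * y ∈ R)) := by
    intro x
    by_cases hxR : (x : Ω) ∈ R
    · refine ⟨⟨r ⟨x, hxR⟩, Subgroup.mem_sup_left (r _).2⟩, (hstabR x hxR).trans rfl,
        fun _ => (r _).2, fun _ => ?_⟩
      exact R.mul_mem (R.inv_mem hxR) (r ⟨x, hxR⟩).2
    · by_cases hxV : (x : Ω) ∈ centralizerIn S R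
      · obtain ⟨n, hn, hval⟩ := hstabV x hxV
        refine ⟨⟨x * n, U.mul_mem x.2 (Subgroup.mem_sup_left hn)⟩, hval.trans rfl,
          fun h => absurd h hxR, fun _ => ?_⟩
        simpa using hn
      · obtain ⟨a, ha, c, hc, hac⟩ := exists_mul_of_mem_sup (T := R) (K := centralizerIn S R)
          (fun s hs b hb => Subgroup.mem_centralizer_iff.1 hb.2 s hs) x.2
        obtain ⟨n, hn, hval⟩ := hstabV ⟨c, Subgroup.mem_sup_right hc⟩ hc
        refine ⟨⟨r ⟨a, ha⟩, Subgroup.mem_sup_left (r _).2⟩ *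
          ⟨c * n, U.mul_mem (Subgroup.mem_sup_right hc) (Subgroup.mem_sup_left hn)⟩, ?_,
          fun h => absurd h hxR, fun h => absurd h hxV⟩
        have ex : x = ⟨a, Subgroup.mem_sup_left ha⟩ * ⟨c, Subgroup.mem_sup_right hc⟩ :=
          Subtype.ext hac
        rw [ex, map_mul, map_mul, map_mul, Subgroup.coe_mul]
        have h1 : ψ (ι ⟨a, Subgroup.mem_sup_left ha⟩) =
            ι ⟨r ⟨a, ha⟩, Subgroup.mem_sup_left (r _).2⟩ :=
          (hstabR ⟨a, Subgroup.mem_sup_left ha⟩ ha).trans rfl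
        have h2 : ψ (ι ⟨c, Subgroup.mem_sup_right hc⟩) =
            ι ⟨c * n, U.mul_mem (Subgroup.mem_sup_right hc) (Subgroup.mem_sup_left hn)⟩ :=
          hval.trans rfl
        rw [h1, h2]
  have hψr : ψ.range = U' := by
    refine range_eq_of_image_le (F.injective_of_mem hψ) ?_ le_rfl
    rintro _ ⟨w, rfl⟩
    obtain ⟨x, rfl⟩ := ι.surjective w
    obtain ⟨y, hy, -⟩ := hψι x
    rw [hy]
    exact (ι y).2
  set A := MulAut.congr ι.symm (toIso F hψ hψr)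
  have hAF : A ∈ F.autGroup U :=
    autCongr_mem F (toIso_isIso F hθ (rfl : _ = U')).symm (toIso_mem_autGroup F hψ hψr)
  have hAval : ∀ x : U, ∀ y : U, ψ (ι x) = ι y → A x = y := fun x y h => by
    rw [autCongr_apply, MulEquiv.symm_symm, MulEquiv.symm_apply_eq]
    exact Subtype.ext h
  have hAr : ∀ x : R, (A ⟨x, Subgroup.mem_sup_left x.2⟩ : Ω) = r x := fun x => by
    rw [hAval ⟨x, Subgroup.mem_sup_left x.2⟩ ⟨r x, Subgroup.mem_sup_left (r x).2⟩
      ((hstabR ⟨x, Subgroup.mem_sup_left x.2⟩ x.2).trans rfl)]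
  have hAm : ∀ y : U, (y : Ω)⁻¹ * (A y : Ω) ∈ R := fun y => by
    refine disp_mem_sup comm_centralizerIn (U.subtype.comp A.toMonoidHom) (fun x hx => ?_)
      (fun x hx => ?_) y
    · show (A x : Ω) ∈ R
      rw [show (A x : Ω) = r ⟨x, hx⟩ from hAr ⟨x, hx⟩]
      exact (r _).2
    · obtain ⟨y, hy, -, hy2⟩ := hψι x
      show (x : Ω)⁻¹ * (A x : Ω) ∈ R
      rw [hAval x y hy]
      exact hy2 hx
  have hgE := natGroup_le hd hNT hg
  have hrE : ∀ {T' : Subgroup Ω} (E' : FusionSystem T'), T₁ ⊓ T₂ ≤ T' → g ∈ E'.autGroup N →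
      r ∈ E'.autGroup R := fun {T'} E' hle hgE' => by
    refine (mem_autGroup_iff_hom E' (hRc.1.trans hle)).2 ?_
    exact mem_hom_congr E' (restr_mem E' hRN (autGroup_mem_hom E' (hNT.trans hle) hgE'))
      fun x => (hgr x).symm
  refine good_le_natGroup hd hR
    ⟨⟨⟨A, hAF, hAr, hAm⟩, hrE E₁ inf_le_left hgE.2.1⟩, hrE E₂ inf_le_right hgE.2.2⟩ ?_
  refine Nat.Coprime.coprime_dvd_left (orderOf_dvd_of_pow_eq_one ?_) ho
  refine MulEquiv.ext fun x => Subtype.ext ?_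
  have h := pow_ext_apply hRN (α := g) (a := r) hgr (orderOf g) x
  rw [pow_orderOf_eq_one] at h
  exact h.symm

/-- An element of the natural group of `N_T(P)` stabilizing `P` restricts to a natural one. -/
theorem restrict_mem (hd : Data p F E₁ E₂) {P : Subgroup Ω} (hP : TFN F (T₁ ⊓ T₂) P)
    (hPc : TCentric F (T₁ ⊓ T₂) P) {g : MulAut ↥(normalizerIn (T₁ ⊓ T₂) P)}
    (hg : g ∈ natGroup p F E₁ E₂ (normalizerIn (T₁ ⊓ T₂) P)) {r : MulAut P}
    (hgr : ∀ x : P, (g ⟨x, le_normalizerIn hP.1 x.2⟩ : Ω) = r x) :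
    r ∈ natGroup p F E₁ E₂ P := by
  have hT := hd.sc
  have : Finite ↥(normalizerIn (T₁ ⊓ T₂) P) := finite_of_le hd.finite (normalizerIn_le P)
  obtain ⟨R, hR, θ, hθ, hc, hθr⟩ := exists_chart hd hP
  have hPN : P ≤ normalizerIn (T₁ ⊓ T₂) P := le_normalizerIn hP.1
  set eN := toIso F hθ hθr
  have heN : IsIso F eN := toIso_isIso F hθ hθr
  set eP := toIso F (restr_mem F hPN hθ) hc.range_restr_eq
  have heP : IsIso F eP := toIso_isIso F _ _
  have hRc := tCentric_of_isConj hT hPc heP.isConj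
  -- split into powers
  obtain ⟨a, m, hm, ho⟩ := Nat.exists_eq_pow_mul_and_not_dvd (orderOf_pos g).ne' p
    (Fact.out : p.Prime).ne_one
  have hcop : Nat.Coprime m p := (((Fact.out : p.Prime).coprime_iff_not_dvd).2 hm).symm
  obtain ⟨i, hi0, hi1⟩ := Nat.chineseRemainder (Nat.Coprime.pow_left a hcop.symm) 0 1
  obtain ⟨j, hj0, hj1⟩ := Nat.chineseRemainder (Nat.Coprime.pow_left a hcop.symm) 1 0
  have hsum : i + j ≡ 1 [MOD orderOf g] := by
    rw [ho]
    refine (Nat.modEq_and_modEq_iff_modEq_mul (Nat.Coprime.pow_left a hcop.symm)).1 ⟨?_, ?_⟩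
    · simpa using hi0.add hj0
    · simpa using hi1.add hj1
  have hgij : g ^ i * g ^ j = g := by
    rw [← pow_add]
    conv_rhs => rw [← pow_one g]
    exact pow_eq_pow_iff_modEq.2 hsum
  have hrij : r ^ i * r ^ j = r := MulEquiv.ext fun x => Subtype.ext (by
    rw [← pow_add, ← pow_ext_apply hPN (α := g) (a := r) hgr (i + j) x, pow_add, hgij]
    exact hgr x)
  have hri : r ^ i ∈ natGroup p F E₁ E₂ P := by
    have h1 : MulAut.congr eP (r ^ i) ∈ natGroup p F E₁ E₂ R := by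
      refine restrict_coprime hd hR hRc rfl (le_normalizerIn hRc.1) (g := MulAut.congr eN (g ^ i))
        (natGroup_congr heN (pow_mem hg i)) ?_ fun y => ?_
      · rw [MulEquiv.orderOf_eq]
        refine Nat.Coprime.coprime_dvd_left (orderOf_dvd_of_pow_eq_one (n := m) ?_) hcop
        rw [← pow_mul]
        obtain ⟨l, hl⟩ := Nat.modEq_zero_iff_dvd.1 hi0
        rw [hl, show p ^ a * l * m = orderOf g * l by rw [ho]; ring, pow_mul, pow_orderOf_eq_one,
          one_pow]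
      · obtain ⟨x, rfl⟩ := eP.surjective y
        have e1 : (⟨(eP x : Ω), le_normalizerIn hRc.1 (eP x).2⟩ : ↥(normalizerIn (T₁ ⊓ T₂) R)) =
            eN ⟨x, hPN x.2⟩ := Subtype.ext rfl
        rw [e1, autCongr_apply, autCongr_apply, MulEquiv.symm_apply_apply,
          MulEquiv.symm_apply_apply]
        exact congrArg θ (Subtype.ext (pow_ext_apply hPN (α := g) (a := r) hgr i x))
    have h2 := natGroup_congr heP.symm h1
    rwa [congr_symm_congr] at h2
  have hrj : r ^ j ∈ natGroup p F E₁ E₂ P := by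
    refine restrict_pElem hd hPc hPN (normalizerIn_le P) (pow_mem hg j) (k := a) ?_
      fun x => pow_ext_apply hPN (α := g) (a := r) hgr j x
    rw [← pow_mul]
    obtain ⟨l, hl⟩ := Nat.modEq_zero_iff_dvd.1 hj1
    rw [hl, show m * l * p ^ a = orderOf g * l by rw [ho]; ring, pow_mul, pow_orderOf_eq_one,
      one_pow]
  rw [← hrij]
  exact mul_mem hri hrj

end Cfsg.Agent.Tech.Meet
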