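import Cfsg.Agent.Tech.MeetFusion

/-!
Saturation of the meet: its automizer of a `T`-centric subgroup is the natural group.
-/

set_option autoImplicit false

open Cfsg Cfsg.FusionSystem
open Cfsg.Agent.FusionSys Cfsg.Agent.FusionAlperin

namespace Cfsg.Agent.Tech.Meet

universe u

variable {Ω : Type u} [Group Ω] {S T₁ T₂ : Subgroup Ω} {p : ℕ} {F : FusionSystem S}
  {E₁ : FusionSystem T₁} {E₂ : FusionSystem T₂}

/-- The isomorphism `f` onto `P` is the restriction of a map on the normalizer. -/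
def NiceIso {T : Subgroup Ω} (U : FusionSystem T) (P R : Subgroup Ω) (f : R ≃* P) : Prop :=
  ∃ h : R ≤ normalizerIn T R, ∃ ψ ∈ U.Hom (normalizerIn T R),
    ∀ x : R, ψ (Subgroup.inclusion h x) = f x

theorem NiceIso.isIso {T : Subgroup Ω} {U : FusionSystem T} {P R : Subgroup Ω} {f : R ≃* P}
    (h : NiceIso U P R f) : IsIso U f := by
  obtain ⟨hle, ψ, hψ, he⟩ := h
  exact mem_hom_congr U (restr_mem U hle hψ) fun x => (he x).symm

theorem NiceIso.nice {T : Subgroup Ω} {U : FusionSystem T} {P R : Subgroup Ω} {f : R ≃* P}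
    (h : NiceIso U P R f) : Nice U P R := by
  obtain ⟨hle, ψ, hψ, he⟩ := h
  exact ⟨ψ, hψ, hle, (map_subgroupOf_eq_range R hle (φ := P.subtype.comp f.toMonoidHom)
    he).trans (range_subtype_comp f)⟩

theorem exists_niceIso {T : Subgroup Ω} {U : FusionSystem T} {P R : Subgroup Ω}
    (h : Nice U P R) : ∃ f : R ≃* P, NiceIso U P R f := by
  obtain ⟨ψ, hψ, hc⟩ := h
  exact ⟨toIso U (restr_mem U hc.1 hψ) hc.range_restr_eq, hc.1, ψ, hψ, fun _ => rfl⟩

theorem niceIso_refl {T : Subgroup Ω} (U : FusionSystem T) {P : Subgroup Ω} (hP : P ≤ T) :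
    NiceIso U P P (MulEquiv.refl P) :=
  ⟨le_normalizerIn hP, _, subtype_mem U (normalizerIn_le P), fun _ => rfl⟩

/-- The classes above `P` are saturated with natural automizers. -/
def Above (p : ℕ) (F : FusionSystem S) (E₁ : FusionSystem T₁) (E₂ : FusionSystem T₂)
    (P : Subgroup Ω) : Prop :=
  ∀ X : Subgroup Ω, TCentric F (T₁ ⊓ T₂) X → Nat.card P < Nat.card X →
    (meetSystem p F E₁ E₂).autGroup X ≤ natGroup p F E₁ E₂ X ∧
      ClassSaturated (meetSystem p F E₁ E₂) p X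

variable [Finite S] [Fact p.Prime]

/-- A map of the meet on a subgroup of `N_T(P)` properly above `P` restricts on `P` to an element of
the natural group. -/
theorem restrict_mem_meet (hd : Data p F E₁ E₂) {P : Subgroup Ω} (hP : TFN F (T₁ ⊓ T₂) P)
    (hPc : TCentric F (T₁ ⊓ T₂) P) (hab : Above p F E₁ E₂ P) {X : Subgroup Ω} (hPX : P < X)
    (hX : X ≤ normalizerIn (T₁ ⊓ T₂) P) {lam : X →* Ω}
    (hlam : lam ∈ (meetSystem p F E₁ E₂).Hom X) {l : MulAut P}
    (hl : ∀ x : P, lam (Subgroup.inclusion hPX.le x) = l x) : l ∈ natGroup p F E₁ E₂ P := by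
  have hT := hd.sc
  have hTp := hd.pgroup.to_le hT.1
  have hfinT := hd.finite
  have hPS : P ≤ S := hP.1.trans hT.1
  have : Finite P := finite_of_le ‹_› hPS
  set U := meetSystem p F E₁ E₂
  set N := normalizerIn (T₁ ⊓ T₂) P
  have hNT : N ≤ T₁ ⊓ T₂ := normalizerIn_le P
  have : Finite N := finite_of_le hfinT hNT
  set AT := autInducedBy (T₁ ⊓ T₂) P
  set M := natGroup p F E₁ E₂ P
  have hlF : l ∈ F.autGroup P := (mem_autGroup_iff_hom F hPS).2
    (mem_hom_congr F (restr_mem F hPX.le (meet_sub hd X hlam)) fun x => (hl x).symm)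
  obtain ⟨m, hm, hmAT⟩ := (natGroup_sylow hd hP hPc).frattini (a := l)
    fun k hk => natGroup_conj hd hP.1 hlF hk
  -- the element to prove
  suffices hmem : m * l ∈ M by
    have := M.mul_mem (M.inv_mem hm) hmem
    rwa [inv_mul_cancel_left] at this
  set h := m * l with hh
  -- a map restricting to `h`
  have hval := fun y => ext_conj U hPX.le hX hlam hl y
  set D₁ := autInducedBy lam.range P
  have hI : Inn P ≤ D₁ := (inn_eq_autInducedBy P).le.trans (autInducedBy_mono (by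
    intro y hy
    obtain ⟨x, hx⟩ := l.surjective ⟨y, hy⟩
    exact ⟨Subgroup.inclusion hPX.le x, (hl x).trans (congrArg Subtype.val hx)⟩) P)
  have hD₁ : D₁ ≤ AT := autInducedBy_mono (by rintro _ ⟨y, rfl⟩; exact (hval y).1.1) P
  have hmD : conjSub m D₁ ≤ AT := by
    rintro _ ⟨c, hc, rfl⟩
    obtain ⟨t, ⟨y, rfl⟩, hte⟩ := mem_autInducedBy.1 hc
    have e : c = l * P.normalizerMonoidHom ⟨y, (hX y.2).2⟩ * l⁻¹ :=
      MulEquiv.ext fun x => Subtype.ext ((hte x).trans ((hval y).2 x).symm)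
    show m * c * m⁻¹ ∈ AT
    rw [e]
    have h2 := hmAT _ (mem_autInducedBy.2 ⟨(y : Ω), (hX y.2).1, fun _ => rfl⟩ :
      P.normalizerMonoidHom ⟨(y : Ω), (hX y.2).2⟩ ∈ AT)
    simpa [hh, mul_assoc] using h2
  obtain ⟨e, he, hee⟩ := exists_ext hd hP hPc hm hI hD₁ hmD
  have hlamD : ∀ y, lam y ∈ preAut (T₁ ⊓ T₂) P D₁ := fun y =>
    mem_preAut.2 ⟨(hval y).1.1, (hval y).1.2, mem_autInducedBy.2 ⟨lam y, ⟨y, rfl⟩, fun _ => rfl⟩⟩
  have hΨ₀ := U.comp_mem hlam he hlamD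
  -- climb to `N_T(P)`
  suffices key : ∀ Y, Y ≤ N → P < Y → ∀ (hPY : P ≤ Y) (ψ : Y →* Ω), ψ ∈ U.Hom Y →
      (∀ x : P, ψ (Subgroup.inclusion hPY x) = h x) → h ∈ M by
    refine key X hX hPX hPX.le _ hΨ₀ fun x => ?_
    show (e ⟨lam (Subgroup.inclusion hPX.le x), _⟩ : Ω) = h x
    have e1 : (⟨lam (Subgroup.inclusion hPX.le x), hlamD _⟩ : preAut (T₁ ⊓ T₂) P D₁) =
        ⟨l x, le_preAut hP.1 hI (l x).2⟩ := Subtype.ext (hl x)
    rw [e1, hee]
    rfl
  intro Y hY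
  refine downward_induction (S := N) (motive := fun Y => P < Y → ∀ (hPY : P ≤ Y) (ψ : Y →* Ω),
      ψ ∈ U.Hom Y → (∀ x : P, ψ (Subgroup.inclusion hPY x) = h x) → h ∈ M) ?_ hY
  intro Y hY ih hlt hPY ψ hψ hψh
  have hYv := fun y => ext_conj U hPY hY hψ hψh y
  rcases eq_or_lt_of_le hY with rfl | hYlt
  · have hr : ψ.range = normalizerIn (T₁ ⊓ T₂) P := range_eq_of_image_le (U.injective_of_mem hψ)
      (by rintro _ ⟨y, rfl⟩; exact (hYv y).1) le_rfl
    have ha := (hab _ (tCentric_mono hPc hPY hNT) (card_lt_of_lt hNT hlt)).1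
      (toIso_mem_autGroup U hψ hr)
    exact restrict_mem hd hP hPc ha hψh
  set X' := ψ.range
  have hX'N : X' ≤ N := by
    rintro _ ⟨y, rfl⟩
    exact (hYv y).1
  have hPX' : P ≤ X' := by
    intro y hy
    obtain ⟨x, hx⟩ := h.surjective ⟨y, hy⟩
    exact ⟨Subgroup.inclusion hPY x, (hψh x).trans (congrArg Subtype.val hx)⟩
  have hX'T := hX'N.trans hNT
  have hX'c : TCentric F (T₁ ⊓ T₂) X' := tCentric_mono hPc hPX' hX'T
  set eψ := toIso U hψ (rfl : ψ.range = X')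
  have heψ : IsIso U eψ := toIso_isIso U hψ _
  have hcardY : Nat.card Y = Nat.card X' := Nat.card_congr eψ.toEquiv
  have hcardX' : Nat.card P < Nat.card X' := hcardY ▸ card_lt_of_lt (hY.trans hNT) hlt
  have hrec : U.IsReceptive X' := receptive_of_classSaturated hTp (hab X' hX'c hcardX').2
    (centric_fullyCentralized (centric_of_tCentric (meet_sub hd) hX'c))
  obtain ⟨n₀, hn₀, hn₀Y, hn₀'⟩ := exists_normalizer_mem_not_mem (hTp.to_le hNT) hYlt
  set Y₂ := N ⊓ Subgroup.normalizer (Y : Set Ω)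
  have hYY₂ : Y < Y₂ := lt_of_le_of_ne (le_inf hY Subgroup.le_normalizer)
    fun e => hn₀' (e.ge ⟨hn₀, hn₀Y⟩)
  -- conjugation by elements of `N`
  have hnorm : ∀ (n n' : Ω) (hn : n ∈ N) (hn' : n' ∈ N), n ∈ Subgroup.normalizer (Y : Set Ω) →
      h * P.normalizerMonoidHom ⟨n, hn.2⟩ * h⁻¹ = P.normalizerMonoidHom ⟨n', hn'.2⟩ →
      ∀ z ∈ X', n' * z * n'⁻¹ ∈ X' := by
    rintro n n' hn hn' hnY hnn' _ ⟨y, rfl⟩
    have hy₂ : n * y * n⁻¹ ∈ Y := (Subgroup.mem_normalizer_iff.1 hnY _).1 y.2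
    set w := ψ ⟨n * y * n⁻¹, hy₂⟩
    have hC : w⁻¹ * (n' * ψ y * n'⁻¹) ∈ centralizerIn (T₁ ⊓ T₂) P := by
      refine ⟨(T₁ ⊓ T₂).mul_mem ((T₁ ⊓ T₂).inv_mem (hYv _).1.1)
        ((T₁ ⊓ T₂).mul_mem ((T₁ ⊓ T₂).mul_mem hn'.1 (hYv y).1.1) ((T₁ ⊓ T₂).inv_mem hn'.1)),
        Subgroup.mem_centralizer_iff.2 fun r hr => ?_⟩
      have h1 := (hYv ⟨n * y * n⁻¹, hy₂⟩).2 ⟨r, hr⟩
      have e1 : P.normalizerMonoidHom ⟨n * y * n⁻¹, (hY hy₂).2⟩ =
          P.normalizerMonoidHom ⟨n, hn.2⟩ * P.normalizerMonoidHom ⟨y, (hY y.2).2⟩ *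
            (P.normalizerMonoidHom ⟨n, hn.2⟩)⁻¹ := by
        rw [← map_inv, ← map_mul, ← map_mul]
        rfl
      have e2 : h * P.normalizerMonoidHom ⟨n * y * n⁻¹, (hY hy₂).2⟩ * h⁻¹ =
          P.normalizerMonoidHom ⟨n', hn'.2⟩ * P.normalizerMonoidHom ⟨ψ y, (hYv y).1.2⟩ *
            (P.normalizerMonoidHom ⟨n', hn'.2⟩)⁻¹ := by
        have e3 : h * P.normalizerMonoidHom ⟨y, (hY y.2).2⟩ * h⁻¹ =
            P.normalizerMonoidHom ⟨ψ y, (hYv y).1.2⟩ :=
          MulEquiv.ext fun x => Subtype.ext ((hYv y).2 x)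
        rw [e1, ← hnn', ← e3]
        group
      rw [e2] at h1
      have h2 : n' * ψ y * n'⁻¹ * r * (n' * ψ y * n'⁻¹)⁻¹ = w * r * w⁻¹ := by
        refine Eq.trans ?_ h1
        rw [← map_inv P.normalizerMonoidHom, ← map_mul P.normalizerMonoidHom,
          ← map_mul P.normalizerMonoidHom]
        rfl
      calc r * (w⁻¹ * (n' * ψ y * n'⁻¹)) = w⁻¹ * (w * r * w⁻¹) * (n' * ψ y * n'⁻¹) := by group
        _ = w⁻¹ * (n' * ψ y * n'⁻¹) * r := by rw [← h2]; group
    have := X'.mul_mem (⟨_, rfl⟩ : w ∈ X') (hPX' (isConj_rfl_T hT hPc hC))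
    rwa [mul_inv_cancel_left] at this
  have hext : Y₂ ≤ extender (T₁ ⊓ T₂) Y ψ := by
    rintro n ⟨hn, hnY⟩
    obtain ⟨n', hn'T, hn'e⟩ := mem_autInducedBy.1 (hmAT _
      (mem_autInducedBy.2 ⟨n, hn.1, fun _ => rfl⟩ : P.normalizerMonoidHom ⟨n, hn.2⟩ ∈ AT))
    have hn' : n' ∈ N := ⟨hn'T, mem_normalizer_of_conj_eq _ hn'e⟩
    have hnn' : h * P.normalizerMonoidHom ⟨n, hn.2⟩ * h⁻¹ = P.normalizerMonoidHom ⟨n', hn'.2⟩ :=
      MulEquiv.ext fun x => Subtype.ext (hn'e x)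
    have hn'X : n' ∈ Subgroup.normalizer (X' : Set Ω) := by
      refine Subgroup.mem_normalizer_iff.2 fun z => ⟨hnorm n n' hn hn' hnY hnn' z, fun hz => ?_⟩
      have h3 := hnorm n⁻¹ n'⁻¹ (N.inv_mem hn) (N.inv_mem hn') ((Subgroup.normalizer _).inv_mem hnY)
        (by
          have h4 : (h * P.normalizerMonoidHom ⟨n, hn.2⟩ * h⁻¹)⁻¹ =
              (P.normalizerMonoidHom ⟨n', hn'.2⟩)⁻¹ := by rw [hnn']
          rw [← map_inv, conj_inv, ← map_inv] at h4
          exact h4) _ hz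
      simpa [mul_assoc] using h3
    set a := MulAut.congr eψ (Y.normalizerMonoidHom ⟨n, hnY⟩)
    set b := X'.normalizerMonoidHom ⟨n', hn'X⟩
    have haM : a ∈ natGroup p F E₁ E₂ X' :=
      natGroup_congr ((meet_sub hd) _ heψ : IsIso F eψ)
        (autT_le_natGroup hd (hY.trans hNT) (mem_autInducedBy.2 ⟨n, hn.1, fun _ => rfl⟩))
    have hbM : b ∈ natGroup p F E₁ E₂ X' :=
      autT_le_natGroup hd hX'T (mem_autInducedBy.2 ⟨n', hn'.1, fun _ => rfl⟩)
    have hfix : ∀ z : X', (z : Ω) ∈ P → (b⁻¹ * a) z = z := by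
      intro z hz
      obtain ⟨r₀, hr₀⟩ := h.surjective ⟨z, hz⟩
      have hz' : eψ (Subgroup.inclusion hPY r₀) = z :=
        Subtype.ext ((hψh r₀).trans (congrArg Subtype.val hr₀))
      rw [MulAut.mul_apply, MulAut.inv_def, MulEquiv.symm_apply_eq, ← hz', autCongr_apply,
        MulEquiv.symm_apply_apply]
      refine Subtype.ext ?_
      show ψ _ = n' * ψ (Subgroup.inclusion hPY r₀) * n'⁻¹
      rw [hψh, ← hn'e, MulAut.mul_apply, MulAut.mul_apply, MulAut.inv_def,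
        MulEquiv.symm_apply_apply, ← hψh]
      exact congrArg ψ (Subtype.ext rfl)
    obtain ⟨z, hzP, -, hze⟩ := fix_eq_inner hd hPc hPX' hX'T (hX'N.trans inf_le_right)
      ((natGroup p F E₁ E₂ X').mul_mem ((natGroup p F E₁ E₂ X').inv_mem hbM) haM) hfix
    refine mem_extender.2 ⟨hn.1, hnY, n' * z, (T₁ ⊓ T₂).mul_mem hn'T (hP.1 hzP), fun x hx => ?_⟩
    have h5 : (a (eψ x) : Ω) = n' * (z * (eψ x : Ω) * z⁻¹) * n'⁻¹ := by
      have e1 : a (eψ x) = b ((b⁻¹ * a) (eψ x)) := by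
        rw [MulAut.mul_apply, MulAut.inv_def, MulEquiv.apply_symm_apply]
      rw [e1]
      show n' * ((b⁻¹ * a) (eψ x) : Ω) * n'⁻¹ = _
      rw [hze]
    rw [autCongr_apply, MulEquiv.symm_apply_apply] at h5
    show ψ ⟨n * x * n⁻¹, hx⟩ = n' * z * ψ x * (n' * z)⁻¹
    have h6 : ψ ⟨n * x * n⁻¹, hx⟩ = n' * (z * ψ x * z⁻¹) * n'⁻¹ := h5
    rw [h6]
    group
  obtain ⟨φ, hφ, hφe, -, -⟩ := receptive_extend hrec hψ rfl
  exact ih Y₂ inf_le_left (card_lt_of_lt inf_le_left hYY₂) (hlt.trans hYY₂) (hPY.trans hYY₂.le)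
    (restr hext φ) (restr_mem U hext hφ) fun x =>
      (hφe (Subgroup.inclusion hPY x)).trans (hψh x)

/-- The automizer and the saturation of the class of a proper `T`-centric subgroup. -/
theorem step_proper (hd : Data p F E₁ E₂) {P : Subgroup Ω} (hP : TFN F (T₁ ⊓ T₂) P)
    (hPc : TCentric F (T₁ ⊓ T₂) P) (hab : Above p F E₁ E₂ P) (hPlt : P < T₁ ⊓ T₂) :
    (meetSystem p F E₁ E₂).autGroup P ≤ natGroup p F E₁ E₂ P ∧
      ClassSaturated (meetSystem p F E₁ E₂) p P := by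
  have hT := hd.sc
  have hTp := hd.pgroup.to_le hT.1
  have hfinT := hd.finite
  set U := meetSystem p F E₁ E₂
  set M := natGroup p F E₁ E₂ P
  have hUn : U.IsFullyNormalized P := tfn_fullyNormalized (meet_sub hd) hP
  have hbig : ∀ Y R, Y ≤ T₁ ⊓ T₂ → R ≤ Y → U.IsConj R P → Nat.card P < Nat.card Y →
      ClassSaturated U p Y := by
    intro Y R hY hRY hRP hcard
    have hRc : TCentric F (T₁ ⊓ T₂) R := tCentric_of_isConj hT hPc (isConj_symm (by
      obtain ⟨φ, hφ, h⟩ := hRP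
      exact ⟨φ, meet_sub hd R hφ, h⟩))
    exact (hab Y (tCentric_mono hRc hRY hY) hcard).2
  let Good : ∀ R : Subgroup Ω, (R →* Ω) → Prop := fun R φ => Nat.card R = Nat.card P →
    (Nice U P R ↔ Nice U P φ.range) ∧ ∀ (f : R ≃* P) (g : φ.range ≃* P), NiceIso U P R f →
      NiceIso U P φ.range g → ∀ m : MulAut P, (∀ x : R, m (f x) = g ⟨φ x, x, rfl⟩) → m ∈ M
  -- restrictions of maps with larger source
  have hstep : ∀ {Q R : Subgroup Ω} {θ : Q →* Ω}, θ ∈ U.Hom Q → ∀ hlt : R < Q,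
      Good R (restr hlt.le θ) := by
    intro Q R θ hθ hlt hcard
    have hQT := le_S U hθ
    have : Finite Q := finite_of_le hfinT hQT
    have hc : Carries θ R (restr hlt.le θ).range := ⟨hlt.le, (range_restr hlt.le θ).symm⟩
    have hlt' : (restr hlt.le θ).range < θ.range := by
      refine lt_of_le_of_ne hc.le_range fun e => hlt.ne (eq_of_le_of_card_le hlt.le ?_)
      rw [hc.card_eq (U.injective_of_mem hθ), e]
      exact (Nat.card_congr (toIso U hθ rfl).toEquiv).le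
    refine ⟨⟨fun hn => niceOn_of_step hTp hbig hUn (toIso_isIso U hθ rfl).symm
      (carries_symm U hθ rfl hc) hlt' hn, fun hn => niceOn_of_step hTp hbig hUn hθ hc hlt hn⟩,
      fun f g hf hg m hm => ?_⟩
    obtain ⟨hRN, a, ha, hae⟩ := hf
    obtain ⟨hR'N, b, hb, hbe⟩ := hg
    set Y := Q ⊓ Subgroup.normalizer (R : Set Ω)
    have hRY : R < Y := lt_inf_normalizer_of_lt (hTp.to_le hQT) hlt
    have hYN : Y ≤ normalizerIn (T₁ ⊓ T₂) R := inf_le_inf_right _ hQT
    have hca : Carries a R P := ⟨hRN, (map_subgroupOf_eq_range R hRN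
      (φ := P.subtype.comp f.toMonoidHom) hae).trans (range_subtype_comp f)⟩
    have ha' := restr_mem U hYN ha
    set eY := toIso U ha' (rfl : _ = (restr hYN a).range)
    have heY : IsIso U eY := toIso_isIso U ha' _
    have hXN : (restr hYN a).range ≤ normalizerIn (T₁ ⊓ T₂) P := by
      rintro _ ⟨y, rfl⟩
      exact hca.mem_normalizerIn ha le_rfl _
    have : Finite Y := finite_of_le (inferInstance : Finite Q) inf_le_left
    have hPX : P < (restr hYN a).range := by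
      refine lt_of_le_of_ne ?_ fun e => hRY.ne (eq_of_le_of_card_le hRY.le ?_)
      · intro y hy
        obtain ⟨x, hx⟩ := f.surjective ⟨y, hy⟩
        exact ⟨Subgroup.inclusion hRY.le x, (hae x).trans (congrArg Subtype.val hx)⟩
      · rw [hcard, e]
        exact (Nat.card_congr eY.toEquiv).le
    have hθY := restr_mem U (inf_le_left : Y ≤ Q) hθ
    have hθv : ∀ y, restr (inf_le_left : Y ≤ Q) θ y ∈
        normalizerIn (T₁ ⊓ T₂) (restr hlt.le θ).range := fun y =>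
      (hc.restrict hRY.le inf_le_left).mem_normalizerIn hθY hYN y
    have hlam := U.comp_mem heY.symm (U.comp_mem hθY hb hθv) fun y => (eY.symm y).2
    refine restrict_mem_meet hd hP hPc hab hPX hXN hlam fun x => ?_
    obtain ⟨r, rfl⟩ := f.surjective x
    have e1 : Subgroup.inclusion hPX.le (f r) = eY (Subgroup.inclusion hRY.le r) :=
      Subtype.ext (hae r).symm
    show b ⟨restr inf_le_left θ (eY.symm (Subgroup.inclusion hPX.le (f r))), _⟩ = _
    rw [hm r, ← hbe]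
    refine congrArg b (Subtype.ext ?_)
    show restr inf_le_left θ (eY.symm (Subgroup.inclusion hPX.le (f r))) = θ _
    rw [e1, MulEquiv.symm_apply_apply]
    exact congrArg θ (Subtype.ext rfl)
  let N₀ : FusionSystem (T₁ ⊓ T₂) :=
    { Hom := fun R => {φ | φ ∈ U.Hom R ∧ Good R φ}
      le_of_mem := fun h => U.le_of_mem h.1
      injective_of_mem := fun h => U.injective_of_mem h.1
      conj_mem := fun {R g} hR hg => by
        refine ⟨U.conj_mem hR hg, fun hcard => ?_⟩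
        have hRlt : R < T₁ ⊓ T₂ := lt_of_le_of_ne hR fun e => by
          have h1 := card_lt_of_lt le_rfl hPlt
          rw [e] at hcard
          omega
        exact hstep (U.conj_mem (P := T₁ ⊓ T₂) le_rfl hg) hRlt hcard
      comp_mem := by
        intro R Q φ ψ hφ hψ h
        refine ⟨U.comp_mem hφ.1 hψ.1 h, fun hcard => ?_⟩
        have hQ : φ.range ≤ Q := by
          rintro _ ⟨x, rfl⟩
          exact h x
        have hcard' : Nat.card φ.range = Nat.card P :=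
          ((Nat.card_congr (toIso U hφ.1 rfl).toEquiv).symm).trans hcard
        have hψ2 : Good φ.range (restr hQ ψ) := by
          rcases eq_or_lt_of_le hQ with rfl | hlt
          · exact hψ.2
          · exact hstep hψ.1 hlt
        have hr : (restr hQ ψ).range = (ψ.comp (φ.codRestrict Q h)).range := by
          ext y
          constructor
          · rintro ⟨⟨_, x, rfl⟩, rfl⟩
            exact ⟨x, rfl⟩
          · rintro ⟨x, rfl⟩
            exact ⟨⟨_, x, rfl⟩, rfl⟩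
        obtain ⟨hn1, ht1⟩ := hφ.2 hcard
        obtain ⟨hn2, ht2⟩ := hψ2 hcard'
        rw [hr] at hn2
        refine ⟨hn1.trans hn2, fun f g hf hg m hm => ?_⟩
        obtain ⟨k, hk⟩ := exists_niceIso (hn1.1 hf.nice)
        set m₁ : MulAut P := f.symm.trans ((toIso U hφ.1 rfl).trans k) with hm₁
        have h1 : m₁ ∈ M := ht1 f k hf hk m₁ fun x => by
          show k (toIso U hφ.1 rfl (f.symm (f x))) = _
          rw [MulEquiv.symm_apply_apply]
          rfl
        have hg' : ∃ g' : (restr hQ ψ).range ≃* P, NiceIso U P (restr hQ ψ).range g' ∧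
            ∀ (y : Ω) (hy : y ∈ (restr hQ ψ).range), g' ⟨y, hy⟩ = g ⟨y, hr ▸ hy⟩ := by
          have gen : ∀ (A : Subgroup Ω) (hA : (ψ.comp (φ.codRestrict Q h)).range = A),
              ∃ g' : A ≃* P, NiceIso U P A g' ∧
                ∀ (y : Ω) (hy : y ∈ A), g' ⟨y, hy⟩ = g ⟨y, hA.symm ▸ hy⟩ := by
            rintro _ rfl
            exact ⟨g, hg, fun _ _ => rfl⟩
          exact gen _ hr.symm
        obtain ⟨g', hg', hg'e⟩ := hg'
        have h2 : m * m₁⁻¹ ∈ M := ht2 k g' hk hg' _ fun y => by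
          obtain ⟨x, rfl⟩ := (toIso U hφ.1 rfl).surjective y
          have e1 : k (toIso U hφ.1 rfl x) = m₁ (f x) := by
            show _ = k (toIso U hφ.1 rfl (f.symm (f x)))
            rw [MulEquiv.symm_apply_apply]
          rw [MulAut.mul_apply, e1, MulAut.inv_def, MulEquiv.symm_apply_apply, hm]
          exact Eq.trans (congrArg g (Subtype.ext rfl)) (hg'e _ _).symm
        have := M.mul_mem h2 h1
        rwa [inv_mul_cancel_right] at this
      inv_mem := by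
        intro R φ hφ
        obtain ⟨ψ, hψ, he⟩ := U.inv_mem hφ.1
        refine ⟨ψ, ⟨hψ, fun hcard => ?_⟩, he⟩
        have hcard' : Nat.card R = Nat.card P :=
          ((Nat.card_congr (toIso U hφ.1 rfl).toEquiv)).trans hcard
        obtain ⟨hn, ht⟩ := hφ.2 hcard'
        have hr : ψ.range = R := by
          ext y
          constructor
          · rintro ⟨⟨_, x, rfl⟩, rfl⟩
            rw [he]
            exact x.2
          · intro hy
            exact ⟨_, he ⟨y, hy⟩⟩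
        refine ⟨hr.symm ▸ hn.symm, fun f g hf hg m hm => ?_⟩
        have gen : ∀ (A : Subgroup Ω) (hA : ψ.range = A),
            ∃ g' : A ≃* P, NiceIso U P A g' ∧
              ∀ (y : Ω) (hy : y ∈ A), g' ⟨y, hy⟩ = g ⟨y, hA.symm ▸ hy⟩ := by
          rintro _ rfl
          exact ⟨g, hg, fun _ _ => rfl⟩
        obtain ⟨g', hg', hg'e⟩ := gen R hr
        have h1 := ht g' f hg' hf m⁻¹ fun x => by
          have h2 : m (f ⟨φ x, x, rfl⟩) = g' x := by
            rw [hm, hg'e x x.2]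
            exact congrArg g (Subtype.ext (he x))
          rw [← h2, MulAut.inv_def, MulEquiv.symm_apply_apply]
        exact M.inv_mem_iff.1 h1 }
  have hN₀ : U ≤ N₀ := meet_le fun Q hQ α hα => by
    have hαU := autGroup_mem_hom U hQ.1 (meet_contains hd Q hQ hα)
    refine (mem_autGroup_iff_hom N₀ hQ.1).2 ⟨hαU, fun hcard => ?_⟩
    have hr : (Q.subtype.comp α.toMonoidHom).range = Q := range_subtype_comp α
    refine ⟨by rw [hr], fun f g hf hg m hm => ?_⟩
    have gen : ∀ (A : Subgroup Ω) (hA : (Q.subtype.comp α.toMonoidHom).range = A),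
        ∃ g' : A ≃* P, NiceIso U P A g' ∧
          ∀ (y : Ω) (hy : y ∈ A), g' ⟨y, hy⟩ = g ⟨y, hA.symm ▸ hy⟩ := by
      rintro _ rfl
      exact ⟨g, hg, fun _ _ => rfl⟩
    obtain ⟨g', hg', hg'e⟩ := gen Q hr
    have hQlt : Q < T₁ ⊓ T₂ := lt_of_le_of_ne hQ.1 fun e => by
      have h1 := card_lt_of_lt le_rfl hPlt
      rw [e] at hcard
      omega
    -- change of transport
    set c : MulAut P := f.symm.trans g'
    have hc : c ∈ M := by
      have h0 : ∀ (A : Subgroup Ω) (θ : Q →* Ω), Good Q θ → θ.range = A → A = Q →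
          (∀ x, θ x = x) → c ∈ M := by
        intro A θ hgood hA hAQ hθ
        obtain ⟨-, ht⟩ := hgood hcard
        have gen2 : ∀ (B : Subgroup Ω) (hB : Q = B),
            ∃ g'' : B ≃* P, NiceIso U P B g'' ∧
              ∀ (y : Ω) (hy : y ∈ B), g'' ⟨y, hy⟩ = g' ⟨y, hB.symm ▸ hy⟩ := by
          rintro _ rfl
          exact ⟨g', hg', fun _ _ => rfl⟩
        obtain ⟨g'', hg'', hg''e⟩ := gen2 θ.range (hA.trans hAQ).symm
        refine ht f g'' hf hg'' c fun x => ?_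
        show g' (f.symm (f x)) = _
        rw [MulEquiv.symm_apply_apply]
        exact (congrArg g' (Subtype.ext (hθ x).symm)).trans (hg''e _ _).symm
      exact h0 Q (restr hQlt.le (T₁ ⊓ T₂).subtype) (hstep (subtype_mem U le_rfl) hQlt)
        (by rw [range_restr, Subgroup.map_subgroupOf_eq_of_le hQlt.le]) rfl fun _ => rfl
    have hfa : MulAut.congr f α ∈ M := natGroup_congr
      ((meet_sub hd) _ hf.isIso : IsIso F f) hα
    have e : m = c * MulAut.congr f α := by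
      refine MulEquiv.ext fun y => ?_
      obtain ⟨x, rfl⟩ := f.surjective y
      rw [hm, MulAut.mul_apply, autCongr_apply, MulEquiv.symm_apply_apply]
      show _ = g' (f.symm (f (α x)))
      rw [MulEquiv.symm_apply_apply, hg'e]
      rfl
    rw [e]
    exact M.mul_mem hc hfa
  have haut : U.autGroup P ≤ M := fun a ha => by
    obtain ⟨-, ht⟩ := (hN₀ P (autGroup_mem_hom U hP.1 ha)).2 rfl
    have gen : ∀ (A : Subgroup Ω) (hA : P = A),
        ∃ g' : A ≃* P, NiceIso U P A g' ∧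
          ∀ (y : Ω) (hy : y ∈ A), g' ⟨y, hy⟩ = ⟨y, hA.symm ▸ hy⟩ := by
      rintro _ rfl
      exact ⟨MulEquiv.refl P, niceIso_refl U hP.1, fun _ _ => rfl⟩
    obtain ⟨g', hg', hg'e⟩ := gen _ (range_subtype_comp a).symm
    exact ht (MulEquiv.refl P) g' (niceIso_refl U hP.1) hg' a fun x => Eq.trans rfl (hg'e _ _).symm
  have hsyl : SylIn p (autInducedBy (T₁ ⊓ T₂) P) (U.autGroup P) := by
    rw [le_antisymm haut (meet_contains hd P hPc)]
    exact natGroup_sylow hd hP hPc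
  refine ⟨haut, P, isConj_refl U hP.1, ⟨hP.1, hsyl.2⟩, hP.1, fun X φ hφ hrange => ?_⟩
  have hXP : U.IsConj X P := ⟨φ, hφ, hrange⟩
  have hcard : Nat.card X = Nat.card P := isConj_card_eq hXP
  obtain ⟨hn, ht⟩ := (hN₀ X hφ).2 hcard
  obtain ⟨f, hf⟩ := exists_niceIso (hn.2 (hrange.symm ▸ nice_self hP.1))
  have gen : ∀ (A : Subgroup Ω) (hA : P = A),
      ∃ g' : A ≃* P, NiceIso U P A g' ∧
        ∀ (y : Ω) (hy : y ∈ A), g' ⟨y, hy⟩ = ⟨y, hA.symm ▸ hy⟩ := by
    rintro _ rfl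
    exact ⟨MulEquiv.refl P, niceIso_refl U hP.1, fun _ _ => rfl⟩
  obtain ⟨g, hg, hge⟩ := gen φ.range hrange.symm
  set m : MulAut P := f.symm.trans (toIso U hφ hrange) with hmdef
  have hmM : m ∈ M := ht f g hf hg m fun x => by
    show toIso U hφ hrange (f.symm (f x)) = _
    rw [MulEquiv.symm_apply_apply]
    exact Eq.trans (Subtype.ext rfl) (hge _ _).symm
  have hmφ : ∀ x : X, (m (f x) : Ω) = φ x := fun x => by
    show (toIso U hφ hrange (f.symm (f x)) : Ω) = _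
    rw [MulEquiv.symm_apply_apply]
    rfl
  obtain ⟨hXN, a, ha, hae⟩ := hf
  set Z := extender (T₁ ⊓ T₂) X φ
  have hXT := le_S U hφ
  have hXZ : X ≤ Z := le_extender hXT (map_mem_S U hφ)
  have hZN : Z ≤ normalizerIn (T₁ ⊓ T₂) X := extender_le_normalizerIn φ
  have ha' := restr_mem U hZN ha
  set A := (restr hZN a).range
  have hca : Carries a X P := ⟨hXN, (map_subgroupOf_eq_range X hXN
    (φ := P.subtype.comp f.toMonoidHom) hae).trans (range_subtype_comp f)⟩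
  have hAN : A ≤ normalizerIn (T₁ ⊓ T₂) P := by
    rintro _ ⟨y, rfl⟩
    exact hca.mem_normalizerIn ha le_rfl _
  set D := autInducedBy A P
  have hI : Inn P ≤ D := (inn_eq_autInducedBy P).le.trans (autInducedBy_mono (by
    intro y hy
    obtain ⟨x, hx⟩ := f.surjective ⟨y, hy⟩
    exact ⟨Subgroup.inclusion hXZ x, (hae x).trans (congrArg Subtype.val hx)⟩) P)
  have hD : D ≤ autInducedBy (T₁ ⊓ T₂) P := autInducedBy_mono (hAN.trans (normalizerIn_le P)) P
  have hmD : conjSub m D ≤ autInducedBy (T₁ ⊓ T₂) P := by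
    rintro _ ⟨c, hc, rfl⟩
    obtain ⟨t, ⟨z, rfl⟩, hte⟩ := mem_autInducedBy.1 hc
    obtain ⟨-, hzX, k, hk, hke⟩ := mem_extender.1 z.2
    refine mem_autInducedBy.2 ⟨k, hk, fun y => ?_⟩
    obtain ⟨x, rfl⟩ := (f.trans m).surjective y
    have hzx : (z : Ω) * x * (z : Ω)⁻¹ ∈ X := (Subgroup.mem_normalizer_iff.1 hzX _).1 x.2
    show ((m * c * m⁻¹) (m (f x)) : Ω) = k * (m (f x) : Ω) * k⁻¹
    have e1 : c (f x) = f ⟨(z : Ω) * x * (z : Ω)⁻¹, hzx⟩ := by
      refine Subtype.ext ?_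
      rw [hte, ← hae, ← hae]
      show a (Subgroup.inclusion hZN z) * a (Subgroup.inclusion hXN x) *
        (a (Subgroup.inclusion hZN z))⁻¹ = a _
      rw [← map_inv, ← map_mul, ← map_mul]
      exact congrArg a (Subtype.ext rfl)
    rw [MulAut.mul_apply, MulAut.mul_apply, MulAut.inv_def, MulEquiv.symm_apply_apply, e1, hmφ,
      hmφ]
    exact hke x hzx
  obtain ⟨e, he, hee⟩ := exists_ext hd hP hPc hmM hI hD hmD
  have hval : ∀ z, restr hZN a z ∈ preAut (T₁ ⊓ T₂) P D := fun z =>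
    mem_preAut.2 ⟨(hAN ⟨z, rfl⟩).1, (hAN ⟨z, rfl⟩).2,
      mem_autInducedBy.2 ⟨restr hZN a z, ⟨z, rfl⟩, fun _ => rfl⟩⟩
  refine ⟨_, U.comp_mem ha' he hval, fun x hx hxZ => ?_⟩
  have e1 : (⟨restr hZN a ⟨x, hxZ⟩, hval _⟩ : preAut (T₁ ⊓ T₂) P D) =
      ⟨f ⟨x, hx⟩, le_preAut hP.1 hI (f ⟨x, hx⟩).2⟩ := Subtype.ext (hae ⟨x, hx⟩)
  show (e ⟨restr hZN a ⟨x, hxZ⟩, _⟩ : Ω) = φ ⟨x, hx⟩
  rw [e1, hee, hmφ]

/-- The automizer and the saturation of the class of `T`. -/
theorem step_top (hd : Data p F E₁ E₂) :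
    (meetSystem p F E₁ E₂).autGroup (T₁ ⊓ T₂) ≤ natGroup p F E₁ E₂ (T₁ ⊓ T₂) ∧
      ClassSaturated (meetSystem p F E₁ E₂) p (T₁ ⊓ T₂) := by
  have hT := hd.sc
  have hfinT := hd.finite
  set U := meetSystem p F E₁ E₂
  set M := natGroup p F E₁ E₂ (T₁ ⊓ T₂)
  let N₀ : FusionSystem (T₁ ⊓ T₂) :=
    subSystem U (fun R φ => ∀ hR : T₁ ⊓ T₂ ≤ R, ∃ a ∈ M, ∀ x : ↥(T₁ ⊓ T₂),
        φ ⟨x, hR x.2⟩ = (a x : Ω))
      (fun {R g} _ hg _ => ⟨(T₁ ⊓ T₂).normalizerMonoidHom ⟨g, Subgroup.le_normalizer hg⟩,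
        autT_le_natGroup hd le_rfl (mem_autInducedBy.2 ⟨g, hg, fun _ => rfl⟩), fun _ => rfl⟩)
      (fun {R Q φ ψ} _ _ hφ hψ h hR => by
        obtain ⟨a, ha, hae⟩ := hφ hR
        have hQ : T₁ ⊓ T₂ ≤ Q := fun t ht => by
          obtain ⟨x, hx⟩ := a.surjective ⟨t, ht⟩
          have h2 := h ⟨x, hR x.2⟩
          rwa [hae x, hx] at h2
        obtain ⟨b, hb, hbe⟩ := hψ hQ
        refine ⟨b * a, M.mul_mem hb ha, fun x => ?_⟩
        refine Eq.trans ?_ (hbe (a x))
        exact congrArg ψ (Subtype.ext (hae x)))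
      (fun {R φ} hφU hφ ψ hψ he hR => by
        have hRT : T₁ ⊓ T₂ ≤ R := by
          have hRle : R ≤ T₁ ⊓ T₂ := le_S U hφU
          have : Finite R := finite_of_le hfinT hRle
          have : Finite φ.range := Finite.of_equiv _ (toIso U hφU rfl).toEquiv
          refine (eq_of_le_of_card_le hRle ?_).ge
          refine (Subgroup.card_le_of_le hR).trans ?_
          exact (Nat.card_congr (toIso U hφU rfl).toEquiv).ge
        obtain ⟨a, ha, hae⟩ := hφ hRT
        refine ⟨a⁻¹, M.inv_mem ha, fun x => ?_⟩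
        obtain ⟨y, rfl⟩ := a.surjective x
        rw [MulAut.inv_def, MulEquiv.symm_apply_apply]
        refine Eq.trans ?_ (he ⟨y, hRT y.2⟩)
        exact congrArg ψ (Subtype.ext (hae y).symm))
  have hN₀ : U ≤ N₀ := meet_le fun Q hQ α hα => by
    refine (mem_autGroup_iff_hom N₀ hQ.1).2
      ⟨autGroup_mem_hom U hQ.1 (meet_contains hd Q hQ hα), fun hQT => ?_⟩
    obtain rfl : Q = T₁ ⊓ T₂ := le_antisymm hQ.1 hQT
    exact ⟨α, hα, fun _ => rfl⟩
  have haut : U.autGroup (T₁ ⊓ T₂) ≤ M := fun a ha => by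
    obtain ⟨b, hb, hbe⟩ := (hN₀ _ (autGroup_mem_hom U le_rfl ha)).2 le_rfl
    rwa [show a = b from MulEquiv.ext fun x => Subtype.ext (hbe x)]
  have hTc : TCentric F (T₁ ⊓ T₂) (T₁ ⊓ T₂) := ⟨le_rfl, fun R hR => by
    obtain ⟨χ, hχ, rfl⟩ := hR
    rw [range_eq_of_image_le (F.injective_of_mem hχ)
      (by rintro _ ⟨x, rfl⟩; exact sc_map_mem hT hχ x.2) le_rfl]
    exact centralizerIn_le _⟩
  have hsyl : SylIn p (autInducedBy (T₁ ⊓ T₂) (T₁ ⊓ T₂)) (U.autGroup (T₁ ⊓ T₂)) := by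
    rw [le_antisymm haut (meet_contains hd _ hTc)]
    refine natGroup_sylow hd ⟨le_rfl, fun R hR => ?_⟩ hTc
    obtain ⟨χ, hχ, rfl⟩ := hR
    rw [range_eq_of_image_le (F.injective_of_mem hχ)
      (by rintro _ ⟨x, rfl⟩; exact sc_map_mem hT hχ x.2) le_rfl]
  refine ⟨haut, T₁ ⊓ T₂, isConj_refl U le_rfl, ⟨le_rfl, hsyl.2⟩, le_rfl, fun X φ hφ hr => ?_⟩
  have hle : extender (T₁ ⊓ T₂) X φ ≤ X := by
    refine ((extender_le_normalizerIn φ).trans (normalizerIn_le X)).trans ?_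
    exact (eq_of_le_of_card_le (le_S U hφ) (isConj_card_eq ⟨φ, hφ, hr⟩).ge).ge
  exact ⟨_, restr_mem U hle hφ, fun x hx hxE => rfl⟩

theorem classSaturated_of_isConj {T : Subgroup Ω} {U : FusionSystem T} {X P : Subgroup Ω}
    (h : U.IsConj X P) (hP : ClassSaturated U p P) : ClassSaturated U p X := by
  obtain ⟨Q, hQ, h1, h2⟩ := hP
  exact ⟨Q, isConj_trans h hQ, h1, h2⟩

theorem meet_classes (hd : Data p F E₁ E₂) {X : Subgroup Ω} (hX : TCentric F (T₁ ⊓ T₂) X) :
    (meetSystem p F E₁ E₂).autGroup X ≤ natGroup p F E₁ E₂ X ∧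
      ClassSaturated (meetSystem p F E₁ E₂) p X := by
  have hT := hd.sc
  have := hd.finite
  set U := meetSystem p F E₁ E₂
  induction hd' : Nat.card ↥(T₁ ⊓ T₂) - Nat.card X using Nat.strong_induction_on generalizing X with
  | _ d IH =>
  obtain ⟨P, hXP, hP⟩ := exists_meet_tfn hd hX.1
  have hXPF : F.IsConj X P := by
    obtain ⟨φ, hφ, h⟩ := hXP
    exact ⟨φ, meet_sub hd X hφ, h⟩
  have hPc := tCentric_of_isConj hT hX hXPF
  have hcard : Nat.card X = Nat.card P := isConj_card_eq hXP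
  have hab : Above p F E₁ E₂ P := fun Y hY hlt => IH _ (by
    have h := Subgroup.card_le_of_le (H := Y) (K := T₁ ⊓ T₂) hY.1
    omega) hY rfl
  have hstep : U.autGroup P ≤ natGroup p F E₁ E₂ P ∧ ClassSaturated U p P := by
    rcases eq_or_lt_of_le hP.1 with rfl | hlt
    · exact step_top hd
    · exact step_proper hd hP hPc hab hlt
  refine ⟨fun a ha => ?_, classSaturated_of_isConj hXP hstep.2⟩
  obtain ⟨e, he⟩ := (isConj_iff_exists_iso U).1 hXP
  have heF : IsIso F e := meet_sub hd X he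
  have h1 := natGroup_congr heF.symm (hstep.1 (autCongr_mem U he ha))
  rwa [congr_symm_congr] at h1

theorem meet_saturated (hd : Data p F E₁ E₂) : (meetSystem p F E₁ E₂).IsSaturated p := by
  have hT := hd.sc
  have := hd.finite
  set U := meetSystem p F E₁ E₂
  have hconjF : ∀ {P Q : Subgroup Ω}, U.IsConj P Q → F.IsConj P Q :=
    fun {P Q} ⟨φ, hφ, h⟩ => ⟨φ, meet_sub hd P hφ, h⟩
  refine saturated_of_generated (hd.pgroup.to_le hT.1) (ℋ := {P | TCentric F (T₁ ⊓ T₂) P})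
    (fun P hP Q hQ => tCentric_of_isConj hT hP (hconjF hQ)) (fun P hP => (meet_classes hd hP).2)
    (fun E' hE' => meet_le fun P hP α hα => (mem_autGroup_iff_hom E' hP.1).2
      (hE' P hP (autGroup_mem_hom U hP.1 (meet_contains hd P hP hα))))
    (fun P hP hPn => absurd (tCentric_of_centric (meet_invariant hd) hP) hPn)

end Cfsg.Agent.Tech.Meet
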