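import Cfsg.Agent.FusionAlperin.MinimalNormal
import Cfsg.Agent.FusionAlperin.NormalMoves
import Cfsg.Agent.FusionSys.Focal

/-!
Natural local groups for the meet of two weakly normal subsystems `E₁`, `E₂` over `T₁`, `T₂`.

For a fully normalized `R ≤ T = T₁ ⊓ T₂` the good group consists of the automorphisms in both
subsystems with a lift to `R C_S(R)` trivial modulo `R`; the natural group of any `X ≤ T` is generated
by the transports of `Aut_T(R)` and of the good automorphisms of order prime to `p`.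
-/

set_option autoImplicit false

open Cfsg Cfsg.FusionSystem
open Cfsg.Agent.FusionSys Cfsg.Agent.FusionAlperin

namespace Cfsg.Agent.Tech.Meet

universe u

variable {Ω : Type u} [Group Ω] {S T₁ T₂ : Subgroup Ω} {p : ℕ} {F : FusionSystem S}
  {E₁ : FusionSystem T₁} {E₂ : FusionSystem T₂}

/-- The standing hypotheses: two weakly normal subsystems of a saturated system. -/
structure Data (p : ℕ) (F : FusionSystem S) (E₁ : FusionSystem T₁) (E₂ : FusionSystem T₂) :
    Prop where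
  pgroup : IsPGroup p S
  sat : F.IsSaturated p
  inv₁ : E₁.IsInvariantIn F
  sat₁ : E₁.IsSaturated p
  inv₂ : E₂.IsInvariantIn F
  sat₂ : E₂.IsSaturated p

theorem Data.sc (hd : Data p F E₁ E₂) : F.StronglyClosed (T₁ ⊓ T₂) :=
  sc_inf hd.inv₁.2.1 hd.inv₂.2.1

theorem Data.finite [Finite S] (hd : Data p F E₁ E₂) : Finite ↥(T₁ ⊓ T₂) :=
  finite_of_le ‹_› hd.sc.1

theorem le_of_iso {T : Subgroup Ω} (hT : F.StronglyClosed T) {X R : Subgroup Ω} (hX : X ≤ T)
    {e : X ≃* R} (he : IsIso F e) : R ≤ T := fun y hy => by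
  have := sc_map_mem hT he (x := e.symm ⟨y, hy⟩) (hX (e.symm ⟨y, hy⟩).2)
  simpa using this

theorem congr_trans {X Y Z : Subgroup Ω} (f : X ≃* Y) (g : Y ≃* Z) (a : MulAut X) :
    MulAut.congr g (MulAut.congr f a) = MulAut.congr (f.trans g) a := by
  ext z
  simp [autCongr_apply]

theorem congr_symm_congr {X Y : Subgroup Ω} (f : X ≃* Y) (a : MulAut X) :
    MulAut.congr f.symm (MulAut.congr f a) = a := by
  ext z
  simp [autCongr_apply]

theorem congr_self {X : Subgroup Ω} (a b : MulAut X) :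
    MulAut.congr (a : X ≃* X) b = a * b * a⁻¹ := by
  ext x
  simp [autCongr_apply, MulAut.inv_def]

/-- Some power of an automorphism that fixes `B` pointwise and moves only into `B` is trivial. -/
theorem pow_card_eq_one_of_stab {G : Type*} [Group G] [Finite G] (δ : MulAut G) {B : Subgroup G}
    (hB : ∀ y ∈ B, δ y = y) (h : ∀ x, x⁻¹ * δ x ∈ B) : δ ^ Nat.card B = 1 :=
  MulEquiv.ext fun x => iterate_eq_of_stab δ hB (h x)

/-- The automorphisms in both subsystems with a good lift. -/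
def good (F : FusionSystem S) (E₁ : FusionSystem T₁) (E₂ : FusionSystem T₂) (R : Subgroup Ω) :
    Subgroup (MulAut R) :=
  goodLift F R ⊓ E₁.autGroup R ⊓ E₂.autGroup R

/-- The generators of the natural group of `X`. -/
def genSet (p : ℕ) (F : FusionSystem S) (E₁ : FusionSystem T₁) (E₂ : FusionSystem T₂)
    (X : Subgroup Ω) : Set (MulAut X) :=
  {a | ∃ (R : Subgroup Ω) (e : X ≃* R), F.IsFullyNormalized R ∧ IsIso F e ∧
    (MulAut.congr e a ∈ autInducedBy (T₁ ⊓ T₂) R ∨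
      (Nat.Coprime (orderOf a) p ∧ MulAut.congr e a ∈ good F E₁ E₂ R))}

/-- The natural group of `X`. -/
def natGroup (p : ℕ) (F : FusionSystem S) (E₁ : FusionSystem T₁) (E₂ : FusionSystem T₂)
    (X : Subgroup Ω) : Subgroup (MulAut X) :=
  Subgroup.closure (genSet p F E₁ E₂ X)

theorem natGroup_congr {X Y : Subgroup Ω} {f : X ≃* Y} (hf : IsIso F f) {a : MulAut X}
    (ha : a ∈ natGroup p F E₁ E₂ X) : MulAut.congr f a ∈ natGroup p F E₁ E₂ Y := by
  have : natGroup p F E₁ E₂ X ≤ (natGroup p F E₁ E₂ Y).comap (MulAut.congr f).toMonoidHom := by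
    refine (Subgroup.closure_le _).2 ?_
    rintro a ⟨R, e, hR, he, h⟩
    have e1 : MulAut.congr (f.symm.trans e) (MulAut.congr f a) = MulAut.congr e a := by
      rw [← congr_trans, congr_symm_congr]
    refine Subgroup.subset_closure ⟨R, f.symm.trans e, hR, hf.symm.trans he, ?_⟩
    rcases h with h | ⟨ho, h⟩
    · exact Or.inl (e1.symm ▸ h)
    · exact Or.inr ⟨(MulEquiv.orderOf_eq (MulAut.congr f) a).symm ▸ ho, e1.symm ▸ h⟩
  exact this ha

variable [Finite S]

theorem natGroup_conj (hd : Data p F E₁ E₂) {X : Subgroup Ω} (hX : X ≤ T₁ ⊓ T₂) {g a : MulAut X}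
    (hg : g ∈ F.autGroup X) (ha : a ∈ natGroup p F E₁ E₂ X) :
    g * a * g⁻¹ ∈ natGroup p F E₁ E₂ X := by
  rw [← congr_self]
  exact natGroup_congr ((mem_autGroup F (hX.trans hd.sc.1)).1 hg) ha

variable [Fact p.Prime]

theorem fc_of_fn (hd : Data p F E₁ E₂) {R : Subgroup Ω} (hR : F.IsFullyNormalized R) :
    F.IsFullyCentralized R :=
  (saturated_fullyNormalized hd.pgroup hd.sat hR).1

/-- Transport of good lifts between fully centralized subgroups. -/
theorem goodLift_congr (hS : IsPGroup p S) (hF : F.IsSaturated p) {R R' : Subgroup Ω}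
    (hR : F.IsFullyCentralized R) (hR' : F.IsFullyCentralized R') {e : R ≃* R'} (he : IsIso F e)
    {a : MulAut R} (ha : a ∈ goodLift F R) : MulAut.congr e a ∈ goodLift F R' := by
  set U := R ⊔ centralizerIn S R with hU
  set U' := R' ⊔ centralizerIn S R' with hU'
  have hU'S : U' ≤ S := sup_le hR'.1 (centralizerIn_le R')
  have hUS : U ≤ S := sup_le hR.1 (centralizerIn_le R)
  have : Finite U' := finite_of_le ‹_› hU'S
  obtain ⟨ψ, hψ, hψe, -, hψm⟩ := receptive_extend (saturated_fullyCentralized hS hF hR')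
    (show R'.subtype.comp e.toMonoidHom ∈ F.Hom R from he) (range_subtype_comp e)
  have hle : U ≤ extender S R (R'.subtype.comp e.toMonoidHom) :=
    sup_le (le_extender hR.1 fun x => hR'.1 (e x).2) (centralizerIn_le_extender _)
  set θ := restr hle ψ
  have hθ : θ ∈ F.Hom U := restr_mem F hle hψ
  have hθR : ∀ x : R, θ ⟨x, Subgroup.mem_sup_left x.2⟩ = e x := fun x => hψe x
  have hθC : ∀ (x : U), (x : Ω) ∈ centralizerIn S R → θ x ∈ centralizerIn S R' := by
    intro x hx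
    refine ⟨map_mem_S F hθ x, Subgroup.mem_centralizer_iff.2 fun r hr => ?_⟩
    obtain ⟨r₀, hr₀⟩ := e.surjective ⟨r, hr⟩
    have e1 : r = θ ⟨r₀, Subgroup.mem_sup_left r₀.2⟩ := by rw [hθR, hr₀]
    rw [e1, ← map_mul, ← map_mul]
    exact congrArg θ (Subtype.ext (Subgroup.mem_centralizer_iff.1 hx.2 _ r₀.2))
  have hC : Finite (centralizerIn S R') := finite_of_le ‹_› (centralizerIn_le R')
  have hr : θ.range = U' := by
    have hC' := range_eq_of_image_le (φ := restr (le_sup_right : centralizerIn S R ≤ U) θ)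
      (Q := centralizerIn S R') (F.injective_of_mem (restr_mem F le_sup_right hθ))
      (by rintro _ ⟨x, rfl⟩; exact hθC (Subgroup.inclusion le_sup_right x) x.2)
      (hR.2 R' ⟨_, he, range_subtype_comp e⟩)
    refine le_antisymm (range_le_sup_of_le θ
      (fun x hx => Subgroup.mem_sup_left (by rw [hθR ⟨x, hx⟩]; exact (e _).2))
      (fun x hx => Subgroup.mem_sup_right (hθC x hx))) (sup_le ?_ ?_)
    · intro y hy
      obtain ⟨x, hx⟩ := e.surjective ⟨y, hy⟩
      exact ⟨⟨x, Subgroup.mem_sup_left x.2⟩, by rw [hθR, hx]⟩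
    · intro y hy
      obtain ⟨x, hx⟩ := hC'.ge hy
      exact ⟨Subgroup.inclusion le_sup_right x, hx⟩
  set E := toIso F hθ hr
  have hE : ∀ x : U, (E x : Ω) = θ x := fun _ => rfl
  obtain ⟨A, hA, hAa, hAm⟩ := ha
  refine ⟨MulAut.congr E A, autCongr_mem F (toIso_isIso F hθ hr) hA, fun x => ?_, fun y => ?_⟩
  · obtain ⟨x₀, rfl⟩ := e.surjective x
    have e1 : (⟨(e x₀ : Ω), Subgroup.mem_sup_left (e x₀).2⟩ : U') =
        E ⟨x₀, Subgroup.mem_sup_left x₀.2⟩ := Subtype.ext (hθR x₀).symm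
    rw [e1, autCongr_apply, autCongr_apply, MulEquiv.symm_apply_apply, MulEquiv.symm_apply_apply,
      hE, ← hθR (a x₀)]
    exact congrArg θ (Subtype.ext (hAa x₀))
  · obtain ⟨y₀, rfl⟩ := E.surjective y
    rw [autCongr_apply, MulEquiv.symm_apply_apply, ← Subgroup.coe_inv, ← map_inv, ← Subgroup.coe_mul,
      ← map_mul, hE]
    have e2 : y₀⁻¹ * A y₀ = ⟨_, Subgroup.mem_sup_left (hAm y₀)⟩ := Subtype.ext rfl
    rw [e2, hθR ⟨_, hAm y₀⟩]
    exact (e _).2

theorem good_congr (hd : Data p F E₁ E₂) {R R' : Subgroup Ω} (hR : F.IsFullyNormalized R)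
    (hR' : F.IsFullyNormalized R') (hRT : R ≤ T₁ ⊓ T₂) {e : R ≃* R'} (he : IsIso F e)
    {a : MulAut R} (ha : a ∈ good F E₁ E₂ R) : MulAut.congr e a ∈ good F E₁ E₂ R' :=
  ⟨⟨goodLift_congr hd.pgroup hd.sat (fc_of_fn hd hR) (fc_of_fn hd hR') he ha.1.1,
    autCongr_mem_of_invariant hd.pgroup hd.sat hd.inv₁ (hRT.trans inf_le_left) he ha.1.2⟩,
    autCongr_mem_of_invariant hd.pgroup hd.sat hd.inv₂ (hRT.trans inf_le_right) he ha.2⟩

/-- An element of `N_T(X)` induces an element of the natural group. -/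
theorem autT_le_natGroup (hd : Data p F E₁ E₂) {X : Subgroup Ω} (hX : X ≤ T₁ ⊓ T₂) :
    autInducedBy (T₁ ⊓ T₂) X ≤ natGroup p F E₁ E₂ X := by
  intro a ha
  obtain ⟨t, ht, hta⟩ := mem_autInducedBy.1 ha
  have hT := hd.sc
  obtain ⟨R, hXR, hR⟩ := exists_fullyNormalized F (hX.trans hT.1)
  obtain ⟨θ, hθ, -, hm⟩ := exists_normalizer_map_fullyNormalized hd.pgroup hd.sat hR hXR
  have hXN := le_normalizerIn (S := S) (hX.trans hT.1)
  have hr : (restr hXN θ).range = R := by rw [range_restr, hm]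
  refine Subgroup.subset_closure ⟨R, toIso F (restr_mem F hXN hθ) hr, hR, toIso_isIso F _ _,
    Or.inl ?_⟩
  have htN : t ∈ normalizerIn S X := ⟨hT.1 ht, mem_normalizer_of_conj_eq a hta⟩
  refine mem_autInducedBy.2 ⟨θ ⟨t, htN⟩, sc_map_mem hT hθ (x := ⟨t, htN⟩) ht, fun y => ?_⟩
  obtain ⟨x, rfl⟩ := (toIso F (restr_mem F hXN hθ) hr).surjective y
  rw [autCongr_apply, MulEquiv.symm_apply_apply]
  show θ ⟨a x, _⟩ = θ _ * θ ⟨x, _⟩ * (θ _)⁻¹
  rw [← map_inv, ← map_mul, ← map_mul]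
  exact congrArg θ (Subtype.ext (hta x))

theorem natGroup_le (hd : Data p F E₁ E₂) {X : Subgroup Ω} (hX : X ≤ T₁ ⊓ T₂) :
    natGroup p F E₁ E₂ X ≤ F.autGroup X ⊓ (E₁.autGroup X ⊓ E₂.autGroup X) := by
  refine (Subgroup.closure_le _).2 ?_
  rintro a ⟨R, e, hR, he, h⟩
  have hRT := le_of_iso hd.sc hX he
  have hR₁ := hRT.trans (inf_le_left : T₁ ⊓ T₂ ≤ T₁)
  have hR₂ := hRT.trans (inf_le_right : T₁ ⊓ T₂ ≤ T₂)
  have h1 : MulAut.congr e a ∈ E₁.autGroup R ∧ MulAut.congr e a ∈ E₂.autGroup R := by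
    rcases h with h | ⟨-, h⟩
    · exact ⟨autInducedBy_le_autGroup E₁ hR₁ (autInducedBy_mono inf_le_left R h),
        autInducedBy_le_autGroup E₂ hR₂ (autInducedBy_mono inf_le_right R h)⟩
    · exact ⟨h.1.2, h.2⟩
  have h2 := autCongr_mem_of_invariant hd.pgroup hd.sat hd.inv₁ hR₁ he.symm h1.1
  have h3 := autCongr_mem_of_invariant hd.pgroup hd.sat hd.inv₂ hR₂ he.symm h1.2
  rw [congr_symm_congr] at h2 h3
  have hX₁ := hX.trans (inf_le_left : T₁ ⊓ T₂ ≤ T₁)
  exact ⟨(mem_autGroup F (hX.trans hd.sc.1)).2 (hd.inv₁.1 X (autGroup_mem_hom E₁ hX₁ h2)), h2, h3⟩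

/-- The displacement of a map on `R C_S(R)` lies in `R` if it does on both factors. -/
theorem disp_mem_sup {R C : Subgroup Ω} (hcomm : ∀ r ∈ R, ∀ c ∈ C, r * c = c * r)
    (φ : ↥(R ⊔ C) →* Ω) (hR : ∀ x : ↥(R ⊔ C), (x : Ω) ∈ R → φ x ∈ R)
    (hC : ∀ x : ↥(R ⊔ C), (x : Ω) ∈ C → (x : Ω)⁻¹ * φ x ∈ R) (y : ↥(R ⊔ C)) :
    (y : Ω)⁻¹ * φ y ∈ R := by
  obtain ⟨r, hr, c, hc, hy⟩ := exists_mul_of_mem_sup (T := R) (K := C)
    (fun x hx b hb => hcomm x hx b hb) y.2
  have e : y = ⟨r, Subgroup.mem_sup_left hr⟩ * ⟨c, Subgroup.mem_sup_right hc⟩ := Subtype.ext hy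
  have hrr := R.mul_mem (R.inv_mem hr) (hR ⟨r, Subgroup.mem_sup_left hr⟩ hr)
  have hcc := hC ⟨c, Subgroup.mem_sup_right hc⟩ hc
  rw [e, map_mul, Subgroup.coe_mul]
  have := R.mul_mem hrr hcc
  have h2 : c⁻¹ * ((r : Ω)⁻¹ * φ ⟨r, Subgroup.mem_sup_left hr⟩) =
      ((r : Ω)⁻¹ * φ ⟨r, Subgroup.mem_sup_left hr⟩) * c⁻¹ :=
    (hcomm _ hrr c⁻¹ (C.inv_mem hc)).symm
  show (r * c)⁻¹ * (φ ⟨r, Subgroup.mem_sup_left hr⟩ * φ ⟨c, Subgroup.mem_sup_right hc⟩) ∈ R
  rw [show (r * c)⁻¹ * (φ ⟨r, Subgroup.mem_sup_left hr⟩ * φ ⟨c, Subgroup.mem_sup_right hc⟩) =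
    c⁻¹ * ((r : Ω)⁻¹ * φ ⟨r, Subgroup.mem_sup_left hr⟩) * φ ⟨c, Subgroup.mem_sup_right hc⟩ by group,
    h2, mul_assoc]
  exact this

theorem comm_centralizerIn {R : Subgroup Ω} :
    ∀ r ∈ R, ∀ c ∈ centralizerIn S R, r * c = c * r :=
  fun _ hr _ hc => Subgroup.mem_centralizer_iff.1 hc.2 _ hr

theorem conj_mem_centralizerIn {R : Subgroup Ω} {g : Ω} (hg : g ∈ normalizerIn S R) {c : Ω}
    (hc : c ∈ centralizerIn S R) : g * c * g⁻¹ ∈ centralizerIn S R := by
  refine ⟨S.mul_mem (S.mul_mem hg.1 hc.1) (S.inv_mem hg.1),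
    Subgroup.mem_centralizer_iff.2 fun r hr => ?_⟩
  have h1 := (Subgroup.mem_normalizer_iff.1 ((Subgroup.normalizer _).inv_mem hg.2) r).1 hr
  rw [inv_inv] at h1
  calc r * (g * c * g⁻¹) = g * ((g⁻¹ * r * g) * c) * g⁻¹ := by group
    _ = g * (c * (g⁻¹ * r * g)) * g⁻¹ := by rw [Subgroup.mem_centralizer_iff.1 hc.2 _ h1]
    _ = g * c * g⁻¹ * r := by group

theorem mem_normalizer_lift {R : Subgroup Ω} {g : Ω} (hg : g ∈ normalizerIn S R) :
    g ∈ Subgroup.normalizer ((R ⊔ centralizerIn S R : Subgroup Ω) : Set Ω) := by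
  refine FusionAlperin.mem_normalizer_sup hg.2 (Subgroup.mem_normalizer_iff.2 fun x =>
    ⟨conj_mem_centralizerIn hg, fun hx => ?_⟩)
  have := conj_mem_centralizerIn ((normalizerIn S R).inv_mem hg) hx
  simpa [mul_assoc] using this

/-- For a `T`-centric fully normalized subgroup, `Aut_T` is good. -/
theorem autT_le_good (hd : Data p F E₁ E₂) {R : Subgroup Ω} (hRS : R ≤ S)
    (hRc : TCentric F (T₁ ⊓ T₂) R) : autInducedBy (T₁ ⊓ T₂) R ≤ good F E₁ E₂ R := by
  intro a ha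
  obtain ⟨t, ht, hta⟩ := mem_autInducedBy.1 ha
  refine ⟨⟨?_, autInducedBy_le_autGroup E₁ (hRc.1.trans inf_le_left)
    (autInducedBy_mono inf_le_left R ha)⟩, autInducedBy_le_autGroup E₂ (hRc.1.trans inf_le_right)
    (autInducedBy_mono inf_le_right R ha)⟩
  have hT := hd.sc
  have htR : t ∈ normalizerIn S R := ⟨hT.1 ht, mem_normalizer_of_conj_eq a hta⟩
  have hUS : R ⊔ centralizerIn S R ≤ S := sup_le hRS (centralizerIn_le R)
  set A := (R ⊔ centralizerIn S R).normalizerMonoidHom ⟨t, mem_normalizer_lift htR⟩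
  refine ⟨A, autInducedBy_le_autGroup F hUS (mem_autInducedBy.2 ⟨t, htR.1, fun _ => rfl⟩),
    fun x => (hta x).symm, fun y => ?_⟩
  refine disp_mem_sup comm_centralizerIn ((R ⊔ centralizerIn S R).subtype.comp A.toMonoidHom)
    (fun x hx => (Subgroup.mem_normalizer_iff.1 htR.2 _).1 hx) (fun x hx => ?_) y
  refine isConj_rfl_T hT hRc ⟨?_, ?_⟩
  · show (x : Ω)⁻¹ * (t * x * t⁻¹) ∈ T₁ ⊓ T₂
    have h1 := (T₁ ⊓ T₂).mul_mem (sc_conj_mem hT (S.inv_mem hx.1) ht) ((T₁ ⊓ T₂).inv_mem ht)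
    simpa [mul_assoc] using h1
  · exact (Subgroup.centralizer _).mul_mem ((Subgroup.centralizer _).inv_mem hx.2)
      (conj_mem_centralizerIn htR hx).2

theorem natGroup_le_good (hd : Data p F E₁ E₂) {R : Subgroup Ω} (hR : F.IsFullyNormalized R)
    (hRc : TCentric F (T₁ ⊓ T₂) R) : natGroup p F E₁ E₂ R ≤ good F E₁ E₂ R := by
  refine (Subgroup.closure_le _).2 ?_
  rintro a ⟨R', e, hR', he, h⟩
  have hR'c := tCentric_of_isConj hd.sc hRc he.isConj
  have h1 : MulAut.congr e a ∈ good F E₁ E₂ R' := by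
    rcases h with h | ⟨-, h⟩
    · exact autT_le_good hd hR'.1 hR'c h
    · exact h
  have := good_congr hd hR' hR hR'c.1 he.symm h1
  rwa [congr_symm_congr] at this

theorem good_le_natGroup (hd : Data p F E₁ E₂) {R : Subgroup Ω} (hR : F.IsFullyNormalized R)
    {a : MulAut R} (ha : a ∈ good F E₁ E₂ R) (ho : Nat.Coprime (orderOf a) p) :
    a ∈ natGroup p F E₁ E₂ R := by
  refine Subgroup.subset_closure ⟨R, MulEquiv.refl R, hR, IsIso.refl F hR.1, Or.inr ⟨ho, ?_⟩⟩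
  have e : MulAut.congr (MulEquiv.refl R) a = a := by
    ext x
    simp [autCongr_apply]
  rwa [e]

/-- `R C_S(R)` is centric for fully centralized `R`. -/
theorem centric_lift {R : Subgroup Ω} (hR : F.IsFullyCentralized R) :
    F.IsCentric (R ⊔ centralizerIn S R) := by
  refine ⟨sup_le hR.1 (centralizerIn_le R), ?_⟩
  rintro _ ⟨φ, hφ, rfl⟩ y hy
  have hrC := restr_mem F (le_sup_right : centralizerIn S R ≤ R ⊔ centralizerIn S R) hφ
  have hrR := restr_mem F (le_sup_left : R ≤ R ⊔ centralizerIn S R) hφ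
  set R' := (restr (le_sup_left : R ≤ R ⊔ centralizerIn S R) φ).range
  have : Finite (centralizerIn S R') := finite_of_le ‹_› (centralizerIn_le R')
  have hC' := range_eq_of_image_le (φ := restr (le_sup_right : centralizerIn S R ≤ _) φ)
    (Q := centralizerIn S R') (F.injective_of_mem hrC) (by
      rintro _ ⟨x, rfl⟩
      refine ⟨map_mem_S F hrC x, Subgroup.mem_centralizer_iff.2 ?_⟩
      rintro _ ⟨r, rfl⟩
      show φ _ * φ _ = φ _ * φ _
      rw [← map_mul, ← map_mul]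
      exact congrArg φ (Subtype.ext (Subgroup.mem_centralizer_iff.1 x.2.2 _ r.2)))
    (hR.2 R' ⟨_, hrR, rfl⟩)
  have hy' : y ∈ centralizerIn S R' := ⟨hy.1, Subgroup.mem_centralizer_iff.2 fun r hr => by
    obtain ⟨x, rfl⟩ := hr
    exact Subgroup.mem_centralizer_iff.1 hy.2 _ ⟨Subgroup.inclusion le_sup_left x, rfl⟩⟩
  obtain ⟨x, hx⟩ := hC'.ge hy'
  exact ⟨Subgroup.inclusion le_sup_right x, hx⟩

theorem lift_receptive (hS : IsPGroup p S) (hF : F.IsSaturated p) {R : Subgroup Ω}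
    (hR : F.IsFullyCentralized R) : F.IsReceptive (R ⊔ centralizerIn S R) :=
  saturated_fullyCentralized hS hF (centric_fullyCentralized (centric_lift hR))

/-- A `p`-element of `Aut_F(R C_S(R))` fixing `R` pointwise is inner. -/
theorem pElem_fix_inner (hS : IsPGroup p S) (hF : F.IsSaturated p) {R : Subgroup Ω}
    (hR : F.IsFullyCentralized R) {δ : MulAut ↥(R ⊔ centralizerIn S R)}
    (hδ : δ ∈ F.autGroup (R ⊔ centralizerIn S R))
    (hfix : ∀ x : ↥(R ⊔ centralizerIn S R), (x : Ω) ∈ R → δ x = x) {k : ℕ} (hk : δ ^ p ^ k = 1) :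
    ∃ v ∈ centralizerIn S R, ∀ y : ↥(R ⊔ centralizerIn S R), (δ y : Ω) = v * y * v⁻¹ := by
  have hCU : centralizerIn S R ≤ R ⊔ centralizerIn S R := le_sup_right
  have hUS : R ⊔ centralizerIn S R ≤ S := sup_le hR.1 (centralizerIn_le R)
  have : Finite (centralizerIn S R) := finite_of_le ‹_› (centralizerIn_le R)
  set φ := (R ⊔ centralizerIn S R).subtype.comp δ.toMonoidHom
  have hφ : φ ∈ F.Hom _ := autGroup_mem_hom F hUS hδ
  have hrC := restr_mem F hCU hφ
  have hr : (restr hCU φ).range = centralizerIn S R := by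
    refine range_eq_of_image_le (F.injective_of_mem hrC) ?_ le_rfl
    rintro _ ⟨x, rfl⟩
    refine ⟨map_mem_S F hrC x, Subgroup.mem_centralizer_iff.2 fun r hr => ?_⟩
    have e : δ ⟨r, Subgroup.mem_sup_left hr⟩ = ⟨r, Subgroup.mem_sup_left hr⟩ := hfix _ hr
    have e1 : r = φ ⟨r, Subgroup.mem_sup_left hr⟩ := (congrArg Subtype.val e).symm
    show r * φ _ = φ _ * r
    rw [e1, ← map_mul, ← map_mul]
    exact congrArg φ (Subtype.ext (Subgroup.mem_centralizer_iff.1 x.2.2 _ hr))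
  set d : MulAut (centralizerIn S R) := toIso F hrC hr
  have hd : ∀ x : centralizerIn S R, (d x : Ω) = δ (Subgroup.inclusion hCU x) := fun _ => rfl
  set C := centSys F R hR.1
  have hdC : d ∈ C.autGroup (centralizerIn S R) := by
    refine (mem_autGroup C le_rfl).2 ⟨hrC, le_rfl, fun x => (d x).2,
      restr (sup_comm _ _).le φ, restr_mem F _ hφ, fun x => rfl, fun x => ?_⟩
    exact congrArg Subtype.val (hfix ⟨x, Subgroup.mem_sup_left x.2⟩ x.2)
  have hCsat : C.IsSaturated p := centralizerSystem_saturated hS hF hR (centSys_spec F R _)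
  have hCp : IsPGroup p (centralizerIn S R) := hS.to_le (centralizerIn_le R)
  have hdp : IsPGroup p (Subgroup.zpowers d) := by
    have hpow : ∀ (i : ℕ) (x : centralizerIn S R), ((d ^ i) x : Ω) =
        (δ ^ i) (Subgroup.inclusion hCU x) := by
      intro i
      induction i with
      | zero => intro x; rfl
      | succ i ih =>
        intro x
        rw [pow_succ', pow_succ', MulAut.mul_apply, MulAut.mul_apply, hd]
        exact congrArg (fun w => ((δ w : ↥(R ⊔ centralizerIn S R)) : Ω)) (Subtype.ext (ih x))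
    have h1 : d ^ p ^ k = 1 := MulEquiv.ext fun x => Subtype.ext (by rw [hpow, hk]; rfl)
    obtain ⟨j, -, hj⟩ := (Nat.dvd_prime_pow (Fact.out : p.Prime)).1 (orderOf_dvd_of_pow_eq_one h1)
    exact IsPGroup.of_card (n := j) (by rw [Nat.card_zpowers, hj])
  obtain ⟨χ, -, hconj⟩ := exists_conj_le_autInducedBy
    (saturated_fullyNormalized hCp hCsat (fullyNormalized_self C)).2 hdp
    (Subgroup.zpowers_le.2 hdC)
  obtain ⟨w, hw, hwe⟩ := mem_autInducedBy.1 (hconj d (Subgroup.mem_zpowers d))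
  set v := χ.symm ⟨w, hw⟩
  have hdv : ∀ x : centralizerIn S R, d x = v * x * v⁻¹ := fun x => by
    apply χ.injective
    rw [map_mul, map_mul, map_inv, MulEquiv.apply_symm_apply]
    have h := hwe (χ x)
    rw [MulAut.mul_apply, MulAut.mul_apply, MulAut.inv_def, MulEquiv.symm_apply_apply] at h
    exact Subtype.ext h
  refine ⟨v, v.2, fun y => ?_⟩
  have e : φ = conjHom (R ⊔ centralizerIn S R) v := by
    refine hom_ext_sup (fun x => ?_) fun x => ?_
    · show (δ _ : Ω) = (v : Ω) * x * (v : Ω)⁻¹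
      rw [hfix _ x.2, ← Subgroup.mem_centralizer_iff.1 v.2.2 _ x.2, mul_inv_cancel_right]
    · show (δ _ : Ω) = (v : Ω) * x * (v : Ω)⁻¹
      exact (hd x).symm.trans (congrArg Subtype.val (hdv x))
  exact DFunLike.congr_fun e y

/-- A lift trivial modulo `R` of an automorphism induced by `S` is induced by `S`. -/
theorem lift_conj (hS : IsPGroup p S) (hF : F.IsSaturated p) {R : Subgroup Ω}
    (hR : F.IsFullyCentralized R) {β : MulAut ↥(R ⊔ centralizerIn S R)}
    (hβ : β ∈ F.autGroup (R ⊔ centralizerIn S R))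
    (hmove : ∀ y : ↥(R ⊔ centralizerIn S R), (y : Ω)⁻¹ * (β y : Ω) ∈ R) {s : Ω}
    (hs : s ∈ normalizerIn S R)
    (hres : ∀ x : ↥(R ⊔ centralizerIn S R), (x : Ω) ∈ R → (β x : Ω) = s * x * s⁻¹) :
    ∃ v ∈ centralizerIn S R, ∀ y : ↥(R ⊔ centralizerIn S R),
      (β y : Ω) = (v * s) * y * (v * s)⁻¹ := by
  have hUS : R ⊔ centralizerIn S R ≤ S := sup_le hR.1 (centralizerIn_le R)
  have : Finite ↥(R ⊔ centralizerIn S R) := finite_of_le ‹_› hUS
  set cs := (R ⊔ centralizerIn S R).normalizerMonoidHom ⟨s, mem_normalizer_lift hs⟩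
  have hcs : cs ∈ F.autGroup (R ⊔ centralizerIn S R) :=
    autInducedBy_le_autGroup F hUS (mem_autInducedBy.2 ⟨s, hs.1, fun _ => rfl⟩)
  have hcs' : ∀ y, (cs.symm y : Ω) = s⁻¹ * y * s := fun y => by
    have h : (cs (cs.symm y) : Ω) = s * (cs.symm y : Ω) * s⁻¹ := rfl
    rw [MulEquiv.apply_symm_apply] at h
    rw [h]
    group
  set δ := β * cs⁻¹ with hδdef
  have hδF : δ ∈ F.autGroup _ := mul_mem hβ ((F.autGroup _).inv_mem hcs)
  have hfix : ∀ x : ↥(R ⊔ centralizerIn S R), (x : Ω) ∈ R → δ x = x := fun x hx => by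
    refine Subtype.ext ?_
    show (β (cs.symm x) : Ω) = x
    have h1 : (cs.symm x : Ω) ∈ R := by
      rw [hcs']
      have := (Subgroup.mem_normalizer_iff.1 ((Subgroup.normalizer _).inv_mem hs.2) (x : Ω)).1 hx
      simpa using this
    rw [hres _ h1, hcs']
    group
  set B := R.subgroupOf (R ⊔ centralizerIn S R) with hB
  obtain ⟨k, hk⟩ := hS ⟨s, hs.1⟩
  have hk' : s ^ p ^ k = 1 := by
    have := congrArg Subtype.val hk
    simpa using this
  -- the powers of `δ` act modulo `R` as those of conjugation by `s⁻¹`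
  have hmod : ∀ n : ℕ, ∀ y : ↥(R ⊔ centralizerIn S R),
      ((cs⁻¹ ^ n) y)⁻¹ * (δ ^ n) y ∈ B := by
    intro n
    induction n with
    | zero => intro y; simp
    | succ n ih =>
      intro y
      rw [pow_succ', pow_succ', MulAut.mul_apply, MulAut.mul_apply]
      set z := (cs⁻¹ ^ n) y
      have h1 : (cs⁻¹ z)⁻¹ * δ z ∈ B := hmove (cs⁻¹ z)
      have h2 : z⁻¹ * (δ ^ n) y ∈ B := ih y
      have e : δ ((δ ^ n) y) = δ z * (z⁻¹ * (δ ^ n) y) := by
        rw [← hfix _ (Subgroup.mem_subgroupOf.1 h2), ← map_mul, mul_inv_cancel_left]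
      rw [e, ← mul_assoc]
      exact B.mul_mem h1 h2
  have hcp : cs ^ p ^ k = 1 := by
    rw [← map_pow]
    have e : (⟨s, mem_normalizer_lift hs⟩ : Subgroup.normalizer
        ((R ⊔ centralizerIn S R : Subgroup Ω) : Set Ω)) ^ p ^ k = 1 := Subtype.ext (by simpa using hk')
    rw [e, map_one]
  have hstab : ∀ y, y⁻¹ * (δ ^ p ^ k) y ∈ B := fun y => by
    have := hmod (p ^ k) y
    rwa [inv_pow, hcp, inv_one, MulAut.one_apply] at this
  have hfixk : ∀ y ∈ B, (δ ^ p ^ k) y = y := fun y hy => fixes_of_pow δ (hfix y hy) _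
  have h1 := pow_card_eq_one_of_stab (δ ^ p ^ k) hfixk hstab
  obtain ⟨j, hj⟩ := ((hS.to_le hUS).to_subgroup B).exists_card_eq
  rw [hj, ← pow_mul, ← pow_add] at h1
  obtain ⟨v, hv, hve⟩ := pElem_fix_inner hS hF hR hδF hfix h1
  refine ⟨v, hv, fun y => ?_⟩
  have h2 := hve (cs y)
  rw [hδdef, MulAut.mul_apply, MulAut.inv_def, MulEquiv.symm_apply_apply] at h2
  rw [h2]
  show v * (s * y * s⁻¹) * v⁻¹ = _
  group

end Cfsg.Agent.Tech.Meet
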