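import Cfsg.Agent.Tech.MeetSetup

/-!
Sylow subgroups of the natural groups: `Aut_T(R)` is Sylow in the natural group of a `T`-centric
subgroup `R` with largest normalizer in `T`.
-/

set_option autoImplicit false

open Cfsg Cfsg.FusionSystem
open Cfsg.Agent.FusionSys Cfsg.Agent.FusionAlperin
open scoped Pointwise

namespace Cfsg.Agent.Tech.Meet

universe u

/-- A bound on `P ∩ O^p(G)` from the elements of order prime to `p` normalizing subgroups of `P`. -/
theorem sylow_inf_pResidual_le {G : Type u} [Group G] [Finite G] {p : ℕ} [Fact p.Prime]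
    (P : Sylow p G) (H : Subgroup G)
    (h : ∀ U : Subgroup G, U ≤ (P : Subgroup G) → ∀ g : G, Nat.Coprime (orderOf g) p →
      g ∈ Subgroup.normalizer (U : Set G) → ∀ x ∈ U, x⁻¹ * (g * x * g⁻¹) ∈ H) :
    (P : Subgroup G) ⊓ pResidual p G ≤ H := by
  rw [← hyperfocal_group_eq, hyperfocalSubgroup, Subgroup.closure_le]
  rintro _ ⟨U, α, x, hU, hα, rfl⟩
  suffices hs : ∀ β ∈ pResidual p ((groupFusionSystem (P : Subgroup G)).autGroup U),
      ∀ y : U, (y : G)⁻¹ * ((β : MulAut U) y : U) ∈ H from hs α hα x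
  intro β hβ
  induction hβ using Subgroup.closure_induction with
  | mem β hβ =>
    intro y
    obtain ⟨n, hn⟩ := autGroup_group_le_range _ _ β.2
    have hβ' : Nat.Coprime (orderOf (β : MulAut U)) p := by rw [Subgroup.orderOf_coe]; exact hβ
    obtain ⟨k, e, m, ho, hmp, hek, hk1⟩ :=
      exists_exponent (o := orderOf n) (orderOf_pos n).ne' (Fact.out : p.Prime) hβ'
    have e1 : U.normalizerMonoidHom (n ^ k) = (β : MulAut U) := by
      rw [map_pow, hn]
      conv_rhs => rw [← pow_one (β : MulAut U)]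
      exact pow_eq_pow_iff_modEq.2 hk1
    have hcop : Nat.Coprime (orderOf ((n ^ k : Subgroup.normalizer (U : Set G)) : G)) p := by
      rw [Subgroup.orderOf_coe]
      refine Nat.Coprime.coprime_dvd_left (orderOf_dvd_of_pow_eq_one (n := m) ?_) hmp
      obtain ⟨l, rfl⟩ := hek
      rw [← pow_mul, show p ^ e * l * m = orderOf n * l by rw [ho]; ring, pow_mul, pow_orderOf_eq_one,
        one_pow]
    have := h U hU _ hcop (n ^ k).2 y y.2
    rw [← e1]
    exact this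
  | one => intro y; simp
  | mul a b _ _ iha ihb =>
    intro y
    have := H.mul_mem (ihb y) (iha ((b : MulAut U) y))
    simpa [mul_assoc] using this
  | inv a _ iha =>
    intro y
    have := H.inv_mem (iha ((a : MulAut U)⁻¹ y))
    simpa using this

variable {Ω : Type u} [Group Ω] {S T₁ T₂ : Subgroup Ω} {p : ℕ} {F : FusionSystem S}
  {E₁ : FusionSystem T₁} {E₂ : FusionSystem T₂} [Finite S] [Fact p.Prime]

theorem good_le (hd : Data p F E₁ E₂) {R : Subgroup Ω} (hRT : R ≤ T₁ ⊓ T₂) :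
    good F E₁ E₂ R ≤ F.autGroup R := fun _ ha =>
  (mem_autGroup F (hRT.trans hd.sc.1)).2
    (hd.inv₁.1 R (autGroup_mem_hom E₁ (hRT.trans inf_le_left) ha.1.2))

theorem good_conj (hd : Data p F E₁ E₂) {R : Subgroup Ω} (hR : F.IsFullyNormalized R)
    (hRT : R ≤ T₁ ⊓ T₂) {g a : MulAut R} (hg : g ∈ F.autGroup R) (ha : a ∈ good F E₁ E₂ R) :
    g * a * g⁻¹ ∈ good F E₁ E₂ R := by
  rw [← congr_self]
  exact good_congr hd hR hR hRT ((mem_autGroup F hR.1).1 hg) ha

theorem sylIn_autGroup (hd : Data p F E₁ E₂) {R : Subgroup Ω} (hR : F.IsFullyNormalized R) :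
    SylIn p (autInducedBy S R) (F.autGroup R) :=
  ⟨autInducedBy_le_autGroup F hR.1, (saturated_fullyNormalized hd.pgroup hd.sat hR).2.2⟩

/-- An automorphism in a weakly normal subsystem induced by `S` is induced by its base group. -/
theorem autS_inf_le (hS : IsPGroup p S) (hF : F.IsSaturated p) {T : Subgroup Ω}
    {E : FusionSystem T} (hE : E.IsInvariantIn F) (hEs : E.IsSaturated p) {R : Subgroup Ω}
    (hR : F.IsFullyNormalized R) (hRT : R ≤ T) :
    autInducedBy S R ⊓ E.autGroup R ≤ autInducedBy T R := by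
  have : Finite T := finite_of_le ‹_› hE.2.1.1
  have hsyl : SylIn p (autInducedBy T R) (E.autGroup R) :=
    ⟨autInducedBy_le_autGroup E hRT, (saturated_fullyNormalized (hS.to_le hE.2.1.1) hEs
      (tfn_fullyNormalized hE.1 (tfn_of_fullyNormalized hS hF hE.2.1 hR hRT))).2.2⟩
  exact hsyl.le_of_ge inf_le_right ((isPGroup_autInducedBy hS R).to_le inf_le_left)
    (le_inf (autInducedBy_mono hE.2.1.1 R) (autInducedBy_le_autGroup E hRT))

/-- The automorphisms of `R C_S(R)` trivial modulo `R` restricting to good automorphisms. -/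
def liftGroup (F : FusionSystem S) (E₁ : FusionSystem T₁) (E₂ : FusionSystem T₂) (R : Subgroup Ω) :
    Subgroup (MulAut ↥(R ⊔ centralizerIn S R)) where
  carrier := {A | A ∈ F.autGroup (R ⊔ centralizerIn S R) ∧
    (∀ y : ↥(R ⊔ centralizerIn S R), (y : Ω)⁻¹ * (A y : Ω) ∈ R) ∧
    ∃ a ∈ good F E₁ E₂ R, ∀ x : R, (A ⟨x, Subgroup.mem_sup_left x.2⟩ : Ω) = a x}
  one_mem' := ⟨one_mem _, fun y => by simp, 1, one_mem _, fun _ => rfl⟩
  mul_mem' := by
    rintro A B ⟨hA, hAm, a, ha, hAa⟩ ⟨hB, hBm, b, hb, hBb⟩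
    refine ⟨mul_mem hA hB, fun y => ?_, a * b, mul_mem ha hb, fun x => ?_⟩
    · have h := R.mul_mem (hBm y) (hAm (B y))
      simpa [mul_assoc] using h
    · rw [MulAut.mul_apply, MulAut.mul_apply]
      exact (congrArg (fun w => ((A w : ↥(R ⊔ centralizerIn S R)) : Ω))
        (Subtype.ext (hBb x) : B ⟨x, _⟩ = ⟨b x, Subgroup.mem_sup_left (b x).2⟩)).trans (hAa (b x))
  inv_mem' := by
    rintro A ⟨hA, hAm, a, ha, hAa⟩
    refine ⟨(F.autGroup _).inv_mem hA, fun y => ?_, a⁻¹, inv_mem ha, fun x => ?_⟩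
    · have h := R.inv_mem (hAm (A.symm y))
      simpa using h
    · have e : A ⟨(a.symm x : R), Subgroup.mem_sup_left (a.symm x).2⟩ =
          ⟨x, Subgroup.mem_sup_left x.2⟩ := Subtype.ext (by rw [hAa, MulEquiv.apply_symm_apply])
      show ((A.symm _ : ↥(R ⊔ centralizerIn S R)) : Ω) = (a.symm x : R)
      rw [← e, MulEquiv.symm_apply_apply]

/-- An element of `O^p` of the good group induced by `S` is induced by `T`. -/
theorem residual_inf_le (hd : Data p F E₁ E₂) {R : Subgroup Ω} (hR : F.IsFullyNormalized R)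
    (hRc : TCentric F (T₁ ⊓ T₂) R) :
    Subgroup.closure {a : MulAut R | a ∈ good F E₁ E₂ R ∧ Nat.Coprime (orderOf a) p} ⊓
      autInducedBy S R ≤ autInducedBy (T₁ ⊓ T₂) R := by
  have hS := hd.pgroup
  have hF := hd.sat
  have hT := hd.sc
  have hRT : R ≤ T₁ ⊓ T₂ := hRc.1
  have hRfc := fc_of_fn hd hR
  have hRS := hR.1
  set Q := R ⊔ centralizerIn S R with hQdef
  have hRQ : R ≤ Q := le_sup_left
  have hQS : Q ≤ S := sup_le hRS (centralizerIn_le R)
  have : Finite Q := finite_of_le ‹_› hQS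
  have : Finite R := finite_of_le ‹_› hRS
  set K := liftGroup F E₁ E₂ R with hKdef
  have hspec : ∀ β : K, ∃ a ∈ good F E₁ E₂ R,
      ∀ x : R, ((β : MulAut Q) ⟨x, hRQ x.2⟩ : Ω) = a x := fun β => β.2.2.2
  choose ρ₀ hρg hρ using hspec
  let ρ : K →* MulAut R := MonoidHom.mk' ρ₀ fun β γ => MulEquiv.ext fun x => Subtype.ext (by
    refine (hρ (β * γ) x).symm.trans ?_
    show ((β : MulAut Q) ((γ : MulAut Q) _) : Ω) = _
    refine Eq.trans ?_ (hρ β (ρ₀ γ x))
    exact congrArg (fun w => (((β : MulAut Q) w : Q) : Ω)) (Subtype.ext (hρ γ x)))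
  -- elements restricting to conjugations by `S` are conjugations by `S`
  have hconj : ∀ β : K, ρ β ∈ autInducedBy S R → (β : MulAut Q) ∈ autInducedBy S Q := by
    intro β hβ
    obtain ⟨s, hs, hse⟩ := mem_autInducedBy.1 hβ
    have hsN : s ∈ normalizerIn S R := ⟨hs, mem_normalizer_of_conj_eq _ hse⟩
    obtain ⟨v, hv, hve⟩ := lift_conj hS hF hRfc β.2.1 β.2.2.1 hsN fun x hx =>
      (hρ β ⟨x, hx⟩).trans (hse ⟨x, hx⟩)
    exact mem_autInducedBy.2 ⟨v * s, S.mul_mem hv.1 hs, hve⟩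
  set Ps : Subgroup K := (autInducedBy S Q).subgroupOf K
  have hPs : IsPGroup p Ps := (isPGroup_autInducedBy hS Q).comap_of_injective _ K.subtype_injective
  obtain ⟨P₀, hP₀⟩ := hPs.exists_le_sylow
  have hnorm : ∀ g ∈ F.autGroup R, ∀ a ∈ good F E₁ E₂ R, g * a * g⁻¹ ∈ good F E₁ E₂ R :=
    fun g hg a ha => good_conj hd hR hRT hg ha
  have hsyl := (sylIn_autGroup hd hR).inf_normal (good_le hd hRT) hnorm
  have himg : (P₀ : Subgroup K).map ρ ≤ autInducedBy S R ⊓ good F E₁ E₂ R := by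
    refine hsyl.le_of_ge ?_ (P₀.2.map ρ) ?_
    · rintro _ ⟨β, -, rfl⟩
      exact hρg β
    · rintro a ⟨haS, ha⟩
      obtain ⟨A, hA, hAa, hAm⟩ := ha.1.1
      let β : K := ⟨A, hA, hAm, a, ha, hAa⟩
      have e : ρ β = a := MulEquiv.ext fun x => Subtype.ext ((hρ β x).symm.trans (hAa x))
      exact ⟨β, hP₀ (hconj β (e.symm ▸ haS)), e⟩
  have hP₀s : (P₀ : Subgroup K) ≤ Ps := fun β hβ => hconj β (himg ⟨β, hβ, rfl⟩).1
  -- the hyperfocal bound
  have hbound : (P₀ : Subgroup K) ⊓ pResidual p K ≤ (autInducedBy (T₁ ⊓ T₂) Q).subgroupOf K := by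
    refine sylow_inf_pResidual_le P₀ _ fun U hU g _ hgU x hx => ?_
    obtain ⟨s, hs, hse⟩ := mem_autInducedBy.1 (hP₀s (hU hx))
    have hsQ : s ∈ Subgroup.normalizer (Q : Set Ω) := mem_normalizer_of_conj_eq _ hse
    set Z : Subgroup Ω :=
      (((U.map K.subtype).comap Q.normalizerMonoidHom).map
        (Subgroup.normalizer (Q : Set Ω)).subtype) ⊓ S ⊔ Q
    have hsZ : s ∈ Z := by
      refine Subgroup.mem_sup_left ⟨⟨⟨s, hsQ⟩, ⟨x, hx, ?_⟩, rfl⟩, hs⟩
      exact MulEquiv.ext fun y => Subtype.ext (hse y)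
    have hZ : Z ≤ normalizerIn S Q := by
      refine sup_le ?_ (le_normalizerIn hQS)
      rintro _ ⟨⟨z, -, rfl⟩, hzS⟩
      exact ⟨hzS, z.2⟩
    have hgF : (g : MulAut Q) ∈ F.autGroup Q := g.2.1
    have hcar : Z ≤ carried S Q (g : MulAut Q) := by
      refine sup_le ?_ (le_carried_self F hQS _)
      rintro _ ⟨⟨z, ⟨u, hu, hue⟩, rfl⟩, -⟩
      refine ⟨z, ?_, rfl⟩
      have h1 : g * u * g⁻¹ ∈ U := (Subgroup.mem_normalizer_iff.1 hgU u).1 hu
      show (g : MulAut Q) * Q.normalizerMonoidHom z * (g : MulAut Q)⁻¹ ∈ autInducedBy S Q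
      rw [← hue]
      exact hP₀s (hU h1)
    obtain ⟨φ, hφ, hφe⟩ := exists_ext_aut' (lift_receptive hS hF hRfc) hgF
      (le_sup_right : Q ≤ Z) hZ hcar
    set t := s⁻¹ * φ ⟨s, hsZ⟩ with htdef
    have hval : ∀ y : Q, (((x⁻¹ * (g * x * g⁻¹) : K) : MulAut Q) y : Ω) = t * y * t⁻¹ := by
      intro y
      obtain ⟨y₀, rfl⟩ := (g : MulAut Q).surjective y
      set z := (g : MulAut Q) ((x : MulAut Q) y₀)
      have hz : (z : Ω) = φ ⟨s, hsZ⟩ * ((g : MulAut Q) y₀ : Ω) * (φ ⟨s, hsZ⟩)⁻¹ := by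
        rw [← hφe, ← hφe, ← map_inv, ← map_mul, ← map_mul]
        exact congrArg φ (Subtype.ext (hse y₀))
      have hx' : ((x : MulAut Q).symm z : Ω) = s⁻¹ * z * s := by
        have h : (((x : MulAut Q) ((x : MulAut Q).symm z) : Q) : Ω) =
          s * ((x : MulAut Q).symm z : Ω) * s⁻¹ := hse _
        rw [MulEquiv.apply_symm_apply] at h
        rw [h]
        group
      have e : ((x⁻¹ * (g * x * g⁻¹) : K) : MulAut Q) ((g : MulAut Q) y₀) =
          (x : MulAut Q).symm z := by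
        simp [z, MulAut.inv_def]
      rw [e, hx', hz, htdef]
      group
    -- membership in each base group
    have key : ∀ {T' : Subgroup Ω} (E' : FusionSystem T'), E'.IsInvariantIn F → E'.IsSaturated p →
        R ≤ T' → ρ x ∈ E'.autGroup R → t ∈ T' := by
      intro T' E' hE' hE's hRT' hxE
      have hT' := hE'.2.1
      have hxS : ρ x ∈ autInducedBy S R := (himg ⟨x, hU hx, rfl⟩).1
      obtain ⟨ti, hti, htie⟩ := mem_autInducedBy.1 (autS_inf_le hS hF hE' hE's hR hRT' ⟨hxS, hxE⟩)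
      set c := ti⁻¹ * s with hcdef
      have hc : c ∈ centralizerIn S R := by
        refine ⟨S.mul_mem (S.inv_mem (hT'.1 hti)) hs, Subgroup.mem_centralizer_iff.2 fun r hr => ?_⟩
        have h1 : ti * r * ti⁻¹ = s * r * s⁻¹ :=
          ((htie ⟨r, hr⟩).symm.trans (hρ x ⟨r, hr⟩).symm).trans (hse ⟨r, hRQ hr⟩)
        calc r * (ti⁻¹ * s) = ti⁻¹ * (ti * r * ti⁻¹) * s := by group
          _ = ti⁻¹ * (s * r * s⁻¹) * s := by rw [h1]
          _ = ti⁻¹ * s * r := by group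
      have hcQ : c ∈ Q := Subgroup.mem_sup_right hc
      have htiZ : ti ∈ Z := by
        have h := Z.mul_mem hsZ (Z.inv_mem (Subgroup.mem_sup_right hcQ))
        simpa [hcdef] using h
      have hs' : φ ⟨s, hsZ⟩ = φ ⟨ti, htiZ⟩ * φ ⟨c, Subgroup.mem_sup_right hcQ⟩ := by
        rw [← map_mul]
        exact congrArg φ (Subtype.ext (by simp [hcdef]))
      have hφti : φ ⟨ti, htiZ⟩ ∈ T' := sc_map_mem hT' hφ (x := ⟨ti, htiZ⟩) hti
      have hφc : φ ⟨c, Subgroup.mem_sup_right hcQ⟩ = (g : MulAut Q) ⟨c, hcQ⟩ := hφe ⟨c, hcQ⟩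
      have hr := hRT' (g.2.2.1 ⟨c, hcQ⟩)
      have h1 := sc_conj_mem hT' (S.inv_mem hc.1) (T'.mul_mem (T'.inv_mem hti) hφti)
      have h2 := T'.mul_mem h1 hr
      have e : t = c⁻¹ * (ti⁻¹ * φ ⟨ti, htiZ⟩) * c⁻¹⁻¹ * (c⁻¹ * ((g : MulAut Q) ⟨c, hcQ⟩ : Ω)) := by
        have hsx : s = ti * c := by simp [hcdef]
        rw [htdef, hs', hφc, hsx]
        group
      rw [e]
      exact h2
    exact mem_autInducedBy.2 ⟨t,
      ⟨key E₁ hd.inv₁ hd.sat₁ (hRT.trans inf_le_left) (hρg x).1.2,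
        key E₂ hd.inv₂ hd.sat₂ (hRT.trans inf_le_right) (hρg x).2⟩, hval⟩
  have hgen : Subgroup.closure {a : MulAut R | a ∈ good F E₁ E₂ R ∧ Nat.Coprime (orderOf a) p} ≤
      (pResidual p K).map ρ := by
    refine (Subgroup.closure_le _).2 ?_
    rintro a ⟨ha, ho⟩
    obtain ⟨A, hA, hAa, hAm, hAo⟩ := exists_coprime_lift ha.1.1 ho hQS
    let β : K := ⟨A, hA, hAm, a, ha, hAa⟩
    refine ⟨β, Subgroup.subset_closure ?_, MulEquiv.ext fun x =>
      Subtype.ext ((hρ β x).symm.trans (hAa x))⟩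
    show Nat.Coprime (orderOf β) p
    rw [← Subgroup.orderOf_coe]
    exact hAo
  rintro a ⟨ha, haS⟩
  obtain ⟨β, hβ, rfl⟩ := hgen ha
  obtain ⟨t, ht, hte⟩ := mem_autInducedBy.1 (hbound ⟨hP₀ (hconj β haS), hβ⟩)
  exact mem_autInducedBy.2 ⟨t, ht, fun x => (hρ β x).symm.trans (hte ⟨x, hRQ x.2⟩)⟩

/-- An automorphism normalizing the good part of `Aut_S(R)` normalizes `Aut_T(R)`. -/
theorem conj_autT_mem (hd : Data p F E₁ E₂) {R : Subgroup Ω} (hR : F.IsFullyNormalized R)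
    (hRc : TCentric F (T₁ ⊓ T₂) R) {n : MulAut R} (hn : n ∈ F.autGroup R)
    (hconj : ∀ c ∈ autInducedBy (T₁ ⊓ T₂) R, n * c * n⁻¹ ∈ autInducedBy S R) {c : MulAut R}
    (hc : c ∈ autInducedBy (T₁ ⊓ T₂) R) : n * c * n⁻¹ ∈ autInducedBy (T₁ ⊓ T₂) R := by
  have hT := hd.sc
  set N := normalizerIn (T₁ ⊓ T₂) R
  have hRN : R ≤ N := le_normalizerIn hRc.1
  have hNS : N ≤ normalizerIn S R := inf_le_inf_right _ hT.1
  obtain ⟨ψ, hψ, hψe⟩ := exists_ext_aut'
    (saturated_fullyCentralized hd.pgroup hd.sat (fc_of_fn hd hR)) hn hRN hNS fun g hg =>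
      ⟨⟨g, hg.2⟩, hconj _ (mem_autInducedBy.2 ⟨g, hg.1, fun _ => rfl⟩), rfl⟩
  obtain ⟨t, ht, hte⟩ := mem_autInducedBy.1 hc
  have htN : t ∈ N := ⟨ht, mem_normalizer_of_conj_eq _ hte⟩
  refine mem_autInducedBy.2 ⟨ψ ⟨t, htN⟩, sc_map_mem hT hψ (x := ⟨t, htN⟩) ht, fun y => ?_⟩
  obtain ⟨y₀, rfl⟩ := n.surjective y
  rw [MulAut.mul_apply, MulAut.mul_apply, MulAut.inv_def, MulEquiv.symm_apply_apply, ← hψe, ← hψe,
    ← map_inv, ← map_mul, ← map_mul]
  exact congrArg ψ (Subtype.ext (hte y₀))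

/-- The natural group of a fully normalized `T`-centric subgroup meets `Aut_S` in `Aut_T`. -/
theorem natGroup_inf (hd : Data p F E₁ E₂) {R : Subgroup Ω} (hR : F.IsFullyNormalized R)
    (hRc : TCentric F (T₁ ⊓ T₂) R) :
    natGroup p F E₁ E₂ R ⊓ autInducedBy S R ≤ autInducedBy (T₁ ⊓ T₂) R := by
  have hS := hd.pgroup
  have hF := hd.sat
  have hT := hd.sc
  have hRT : R ≤ T₁ ⊓ T₂ := hRc.1
  have : Finite R := finite_of_le ‹_› hR.1
  set H := Subgroup.closure {a : MulAut R | a ∈ good F E₁ E₂ R ∧ Nat.Coprime (orderOf a) p}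
  set AT := autInducedBy (T₁ ⊓ T₂) R
  set AS := autInducedBy S R
  have hHgood : H ≤ good F E₁ E₂ R := (Subgroup.closure_le _).2 fun a ha => ha.1
  have hATS : AT ≤ AS := autInducedBy_mono hT.1 R
  have hATgood : AT ≤ good F E₁ E₂ R := autT_le_good hd hR.1 hRc
  have hASF : AS ≤ F.autGroup R := autInducedBy_le_autGroup F hR.1
  have hHnorm : ∀ g ∈ F.autGroup R, ∀ h ∈ H, g * h * g⁻¹ ∈ H := by
    intro g hg h hh
    induction hh using Subgroup.closure_induction with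
    | mem a ha =>
      refine Subgroup.subset_closure ⟨good_conj hd hR hRT hg ha.1, ?_⟩
      rw [show g * a * g⁻¹ = MulAut.conj g a from rfl, MulEquiv.orderOf_eq]
      exact ha.2
    | one => simp
    | mul a b _ _ iha ihb =>
      have := H.mul_mem iha ihb
      simpa [mul_assoc] using this
    | inv a _ iha =>
      have := H.inv_mem iha
      simpa [mul_assoc] using this
  set G := H ⊔ AT
  set P := AS ⊓ good F E₁ E₂ R
  have hPsyl : SylIn p P (good F E₁ E₂ R) := (sylIn_autGroup hd hR).inf_normal (good_le hd hRT)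
    fun g hg a ha => good_conj hd hR hRT hg ha
  -- conjugation by good elements
  have hgoodN : ∀ k ∈ good F E₁ E₂ R, ∀ g ∈ G, k * g * k⁻¹ ∈ G := by
    have hle : good F E₁ E₂ R ≤ H ⊔ P := le_of_sylow_pprime hPsyl le_sup_right
      fun a ha ho => Subgroup.mem_sup_left (Subgroup.subset_closure ⟨ha, ho⟩)
    have hP : ∀ k ∈ P, ∀ g ∈ G, k * g * k⁻¹ ∈ G := by
      rintro k ⟨hkS, -⟩
      have hk : G ≤ G.comap (MulAut.conj k).toMonoidHom := by
        refine sup_le (fun h hh => Subgroup.mem_sup_left (hHnorm k (hASF hkS) h hh)) fun c hc =>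
          Subgroup.mem_sup_right ?_
        exact conj_autT_mem hd hR hRc (hASF hkS)
          (fun c hc => AS.mul_mem (AS.mul_mem hkS (hATS hc)) (AS.inv_mem hkS)) hc
      exact fun g hg => hk hg
    intro k hk
    have hk' := hle hk
    clear hk
    rw [Subgroup.sup_eq_closure] at hk'
    induction hk' using Subgroup.closure_induction'' with
    | one => simp
    | mem a ha =>
      rcases ha with ha | ha
      · exact fun g hg => G.mul_mem (G.mul_mem (Subgroup.mem_sup_left ha) hg)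
          (G.inv_mem (Subgroup.mem_sup_left ha))
      · exact hP a ha
    | inv_mem a ha =>
      rcases ha with ha | ha
      · exact fun g hg => G.mul_mem (G.mul_mem (G.inv_mem (Subgroup.mem_sup_left ha)) hg)
          (G.inv_mem (G.inv_mem (Subgroup.mem_sup_left ha)))
      · exact hP a⁻¹ (P.inv_mem ha)
    | mul a b _ _ iha ihb =>
      intro g hg
      have := iha _ (ihb g hg)
      simpa [mul_assoc] using this
  -- conjugation by `Aut_F(R)`
  have hAN : ∀ a ∈ F.autGroup R, ∀ c ∈ AT, a * c * a⁻¹ ∈ G := by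
    intro a ha c hc
    obtain ⟨k, hk, hkP⟩ := hPsyl.frattini (a := a) fun z hz => good_conj hd hR hRT ha hz
    have hka : k * a ∈ F.autGroup R := mul_mem (good_le hd hRT hk) ha
    have h1 := conj_autT_mem hd hR hRc hka
      (fun c hc => (hkP c ⟨hATS hc, hATgood hc⟩).1) hc
    have h2 := hgoodN k⁻¹ ((good F E₁ E₂ R).inv_mem hk) _ (Subgroup.mem_sup_right h1)
    simpa [mul_assoc] using h2
  have hle : natGroup p F E₁ E₂ R ≤ G := by
    refine (Subgroup.closure_le _).2 ?_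
    rintro a ⟨R', e, hR', he, h⟩
    have hR'c := tCentric_of_isConj hT hRc he.isConj
    rcases h with h | ⟨ho, h⟩
    · obtain ⟨θ, hθ, -, hm⟩ :=
        exists_normalizer_map_fullyNormalized hS hF hR (isConj_symm he.isConj)
      have hR'N := le_normalizerIn (S := S) hR'.1
      have hr : (restr hR'N θ).range = R := by rw [range_restr, hm]
      set f := toIso F (restr_mem F hR'N hθ) hr
      obtain ⟨t, ht, hte⟩ := mem_autInducedBy.1 h
      have htN : t ∈ normalizerIn S R' := ⟨hT.1 ht, mem_normalizer_of_conj_eq _ hte⟩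
      have hc : MulAut.congr f (MulAut.congr e a) ∈ AT := by
        refine mem_autInducedBy.2 ⟨θ ⟨t, htN⟩, sc_map_mem hT hθ (x := ⟨t, htN⟩) ht, fun y => ?_⟩
        obtain ⟨x, rfl⟩ := f.surjective y
        rw [autCongr_apply, MulEquiv.symm_apply_apply]
        show θ ⟨MulAut.congr e a x, _⟩ = θ _ * θ ⟨x, _⟩ * (θ _)⁻¹
        rw [← map_inv, ← map_mul, ← map_mul]
        exact congrArg θ (Subtype.ext (hte x))
      set d : MulAut R := e.trans f
      have hd' : d ∈ F.autGroup R := (mem_autGroup F hR.1).2 (he.trans (toIso_isIso F _ _))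
      have h2 := hAN d⁻¹ ((F.autGroup R).inv_mem hd') _ hc
      rw [congr_trans, show MulAut.congr (e.trans f) a = d * a * d⁻¹ from congr_self d a] at h2
      simpa [mul_assoc] using h2
    · refine Subgroup.mem_sup_left (Subgroup.subset_closure ⟨?_, ho⟩)
      have := good_congr hd hR' hR hR'c.1 he.symm h
      rwa [congr_symm_congr] at this
  rintro g ⟨hg, hgS⟩
  have hATN : AT ≤ Subgroup.normalizer (H : Set (MulAut R)) := fun c hc =>
    Subgroup.mem_normalizer_iff.2 fun h => ⟨hHnorm c (hASF (hATS hc)) h, fun hh => by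
      have := hHnorm c⁻¹ ((F.autGroup R).inv_mem (hASF (hATS hc))) _ hh
      simpa [mul_assoc] using this⟩
  have hg' : g ∈ ((G : Subgroup (MulAut R)) : Set (MulAut R)) := hle hg
  rw [Subgroup.coe_mul_of_right_le_normalizer_left H AT hATN] at hg'
  obtain ⟨h, hh, c, hc, rfl⟩ := hg'
  have hhS : h ∈ AS := by
    have := AS.mul_mem hgS (AS.inv_mem (hATS hc))
    simpa using this
  exact AT.mul_mem (residual_inf_le hd hR hRc ⟨hh, hhS⟩) hc

theorem natGroup_sylow_fn (hd : Data p F E₁ E₂) {R : Subgroup Ω} (hR : F.IsFullyNormalized R)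
    (hRc : TCentric F (T₁ ⊓ T₂) R) :
    SylIn p (autInducedBy (T₁ ⊓ T₂) R) (natGroup p F E₁ E₂ R) := by
  have : Finite R := finite_of_le ‹_› hR.1
  have h := (sylIn_autGroup hd hR).inf_normal ((natGroup_le hd hRc.1).trans inf_le_left)
    fun g hg a ha => natGroup_conj hd hRc.1 hg ha
  have e : autInducedBy S R ⊓ natGroup p F E₁ E₂ R = autInducedBy (T₁ ⊓ T₂) R :=
    le_antisymm (fun a ha => natGroup_inf hd hR hRc ⟨ha.2, ha.1⟩)
      (le_inf (autInducedBy_mono hd.sc.1 R) (autT_le_natGroup hd hRc.1))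
  rwa [e] at h

/-- A fully normalized image with the same normalizer in `T`. -/
theorem exists_chart (hd : Data p F E₁ E₂) {P : Subgroup Ω} (hP : TFN F (T₁ ⊓ T₂) P) :
    ∃ R, F.IsFullyNormalized R ∧ ∃ θ ∈ F.Hom (normalizerIn (T₁ ⊓ T₂) P), Carries θ P R ∧
      θ.range = normalizerIn (T₁ ⊓ T₂) R := by
  have hT := hd.sc
  obtain ⟨R, hPR, hR⟩ := exists_fullyNormalized F (hP.1.trans hT.1)
  obtain ⟨θ, hθ, -, hm⟩ := exists_normalizer_map_fullyNormalized hd.pgroup hd.sat hR hPR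
  have hle : normalizerIn (T₁ ⊓ T₂) P ≤ normalizerIn S P := inf_le_inf_right _ hT.1
  have hθ' := restr_mem F hle hθ
  have hc : Carries (restr hle θ) P R :=
    Carries.restrict ⟨le_normalizerIn (hP.1.trans hT.1), hm⟩ (le_normalizerIn hP.1) hle
  have := hd.finite
  have : Finite ↥(normalizerIn (T₁ ⊓ T₂) R) := finite_of_le hd.finite (normalizerIn_le R)
  refine ⟨R, hR, _, hθ', hc, range_eq_of_image_le (F.injective_of_mem hθ') ?_ (hP.2 R hPR)⟩
  rintro _ ⟨x, rfl⟩
  exact ⟨sc_map_mem hT hθ' x.2.1, hc.mem_normalizer inf_le_right x⟩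

theorem natGroup_sylow (hd : Data p F E₁ E₂) {P : Subgroup Ω} (hP : TFN F (T₁ ⊓ T₂) P)
    (hPc : TCentric F (T₁ ⊓ T₂) P) :
    SylIn p (autInducedBy (T₁ ⊓ T₂) P) (natGroup p F E₁ E₂ P) := by
  have hT := hd.sc
  have hPS := hP.1.trans hT.1
  obtain ⟨R, hR, θ, hθ, hc, hθr⟩ := exists_chart hd hP
  set e := toIso F (restr_mem F hc.1 hθ) hc.range_restr_eq
  have he : IsIso F e := toIso_isIso F _ _
  have hRc := tCentric_of_isConj hT hPc he.isConj
  have : Finite P := finite_of_le ‹_› hPS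
  have : Finite R := finite_of_le ‹_› hR.1
  have hAT := autT_le_natGroup hd hP.1
  obtain ⟨X, hX, hXle⟩ := exists_sylIn_ge (N := natGroup p F E₁ E₂ P) hAT
    ((isPGroup_autInducedBy hd.pgroup P).to_le (autInducedBy_mono hT.1 P))
  suffices hXA : X ≤ autInducedBy (T₁ ⊓ T₂) P by rwa [le_antisymm hXA hXle] at hX
  have hle : X.map (MulAut.congr e).toMonoidHom ≤ autInducedBy (T₁ ⊓ T₂) R := by
    refine (natGroup_sylow_fn hd hR hRc).le_of_ge ?_ (hX.isPGroup.map _) ?_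
    · rintro _ ⟨a, ha, rfl⟩
      exact natGroup_congr he (hX.le ha)
    · intro b hb
      obtain ⟨u, hu, hue⟩ := mem_autInducedBy.1 hb
      have huN : u ∈ normalizerIn (T₁ ⊓ T₂) R := ⟨hu, mem_normalizer_of_conj_eq _ hue⟩
      obtain ⟨⟨t, ht⟩, rfl⟩ := hθr.ge huN
      refine ⟨P.normalizerMonoidHom ⟨t, ht.2⟩,
        hXle (mem_autInducedBy.2 ⟨t, ht.1, fun _ => rfl⟩), MulEquiv.ext fun y => Subtype.ext ?_⟩
      obtain ⟨x, rfl⟩ := e.surjective y
      show (MulAut.congr e (P.normalizerMonoidHom ⟨t, ht.2⟩) (e x) : Ω) = _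
      rw [hue, autCongr_apply, MulEquiv.symm_apply_apply]
      show θ ⟨t * x * t⁻¹, _⟩ = θ _ * θ ⟨x, _⟩ * (θ _)⁻¹
      rw [← map_inv, ← map_mul, ← map_mul]
      exact congrArg θ (Subtype.ext rfl)
  intro a ha
  obtain ⟨u, hu, hue⟩ := mem_autInducedBy.1 (hle ⟨a, ha, rfl⟩)
  have huN : u ∈ normalizerIn (T₁ ⊓ T₂) R := ⟨hu, mem_normalizer_of_conj_eq _ hue⟩
  obtain ⟨⟨t, ht⟩, rfl⟩ := hθr.ge huN
  refine mem_autInducedBy.2 ⟨t, ht.1, fun x => ?_⟩
  have h1 := hue (e x)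
  change ((MulAut.congr e a (e x) : R) : Ω) = _ at h1
  rw [autCongr_apply, MulEquiv.symm_apply_apply] at h1
  have h2 : θ ⟨a x, hc.1 (a x).2⟩ =
      θ (⟨t, ht⟩ * ⟨x, hc.1 x.2⟩ * ⟨t, ht⟩⁻¹) := by
    rw [map_mul, map_mul, map_inv]
    exact h1
  exact congrArg Subtype.val (F.injective_of_mem hθ h2)

end Cfsg.Agent.Tech.Meet
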