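import Cfsg.Agent.Tech.MeetExtend
import Cfsg.Agent.S5141

/-!
The subsystem over `T₁ ⊓ T₂` generated by the natural groups of `T`-centric subgroups, and its
invariance.
-/

set_option autoImplicit false

open Cfsg Cfsg.FusionSystem
open Cfsg.Agent.FusionSys Cfsg.Agent.FusionAlperin
open Cfsg.Agent.S5119 (InvT Decomp autExt_inv autExt_inv' autExt_mul decomp_comp decomp_restrict
  decomp_symm)

namespace Cfsg.Agent.Tech.Meet

universe u

variable {Ω : Type u} [Group Ω] {S : Subgroup Ω} {p : ℕ}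

/-- The maps with source and values in `T₁ ⊓ T₂` that lie in both subsystems. -/
def interSystem {T₁ T₂ : Subgroup Ω} (E₁ : FusionSystem T₁) (E₂ : FusionSystem T₂) :
    FusionSystem (T₁ ⊓ T₂) where
  Hom P := {φ | φ ∈ E₁.Hom P ∧ φ ∈ E₂.Hom P}
  le_of_mem h := ⟨le_inf (le_S E₁ h.1) (le_S E₂ h.2),
    fun x => ⟨map_mem_S E₁ h.1 x, map_mem_S E₂ h.2 x⟩⟩
  injective_of_mem h := E₁.injective_of_mem h.1
  conj_mem := fun hP hg =>
    ⟨E₁.conj_mem (hP.trans inf_le_left) hg.1, E₂.conj_mem (hP.trans inf_le_right) hg.2⟩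
  comp_mem hφ hψ h := ⟨E₁.comp_mem hφ.1 hψ.1 h, E₂.comp_mem hφ.2 hψ.2 h⟩
  inv_mem := fun {P φ} hφ => by
    obtain ⟨ψ, hψ, he⟩ := E₁.inv_mem hφ.1
    obtain ⟨ψ', hψ', he'⟩ := E₂.inv_mem hφ.2
    refine ⟨ψ, ⟨hψ, mem_hom_congr E₂ hψ' fun y => ?_⟩, he⟩
    obtain ⟨x, hx⟩ := y.2
    have hy : y = ⟨φ x, x, rfl⟩ := Subtype.ext hx.symm
    rw [hy, he, he']

variable {T₁ T₂ : Subgroup Ω} {F : FusionSystem S} {E₁ : FusionSystem T₁} {E₂ : FusionSystem T₂}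

/-- A system contains the natural groups of the `T`-centric subgroups. -/
def ContainsNat (p : ℕ) (F : FusionSystem S) (E₁ : FusionSystem T₁) (E₂ : FusionSystem T₂)
    (E' : FusionSystem (T₁ ⊓ T₂)) : Prop :=
  ∀ P : Subgroup Ω, TCentric F (T₁ ⊓ T₂) P → natGroup p F E₁ E₂ P ≤ E'.autGroup P

/-- The least subsystem over `T₁ ⊓ T₂` containing the natural groups. -/
def meetSystem (p : ℕ) (F : FusionSystem S) (E₁ : FusionSystem T₁) (E₂ : FusionSystem T₂) :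
    FusionSystem (T₁ ⊓ T₂) :=
  subSystem (interSystem E₁ E₂)
    (fun P φ => ∀ E', ContainsNat p F E₁ E₂ E' → φ ∈ E'.Hom P)
    (fun hP hg E' _ => E'.conj_mem hP hg)
    (fun _ _ a b h E' hE' => E'.comp_mem (a E' hE') (b E' hE') h)
    (fun {P φ} _ a ψ _ he E' hE' => by
      obtain ⟨c, hc, hce⟩ := E'.inv_mem (a E' hE')
      refine mem_hom_congr E' hc fun y => ?_
      obtain ⟨x, hx⟩ := y.2
      have hy : y = ⟨φ x, x, rfl⟩ := Subtype.ext hx.symm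
      rw [hy, he, hce])

theorem meet_sub_left : (meetSystem p F E₁ E₂).IsSubsystemOf E₁ := fun _ _ h => h.1.1

theorem meet_sub_right : (meetSystem p F E₁ E₂).IsSubsystemOf E₂ := fun _ _ h => h.1.2

theorem meet_le {E' : FusionSystem (T₁ ⊓ T₂)} (hE : ContainsNat p F E₁ E₂ E') :
    meetSystem p F E₁ E₂ ≤ E' := fun _ _ h => h.2 E' hE

theorem meet_sub (hd : Data p F E₁ E₂) : (meetSystem p F E₁ E₂).IsSubsystemOf F :=
  fun P φ h => hd.inv₁.1 P h.1.1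

variable [Finite S] [Fact p.Prime]

theorem natGroup_le_inter (hd : Data p F E₁ E₂) {P : Subgroup Ω} (hP : P ≤ T₁ ⊓ T₂) :
    natGroup p F E₁ E₂ P ≤ (interSystem E₁ E₂).autGroup P := fun a ha => by
  obtain ⟨-, h₁, h₂⟩ := natGroup_le hd hP ha
  exact (mem_autGroup_iff_hom _ hP).2 ⟨autGroup_mem_hom E₁ (hP.trans inf_le_left) h₁,
    autGroup_mem_hom E₂ (hP.trans inf_le_right) h₂⟩

theorem meet_contains (hd : Data p F E₁ E₂) :
    ContainsNat p F E₁ E₂ (meetSystem p F E₁ E₂) := fun P hP a ha =>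
  (mem_autGroup_iff_hom _ hP.1).2 ⟨autGroup_mem_hom _ hP.1 (natGroup_le_inter hd hP.1 ha),
    fun E' hE' => autGroup_mem_hom E' hP.1 (hE' P hP ha)⟩

theorem inter_invT (hd : Data p F E₁ E₂) : InvT F (interSystem E₁ E₂) := by
  intro β hβ P φ hφ
  have hT := hd.sc
  have hP : P ≤ T₁ ⊓ T₂ := le_S (interSystem E₁ E₂) hφ
  have hv : ∀ x : P, φ x ∈ T₁ ⊓ T₂ := map_mem_S (interSystem E₁ E₂) hφ
  set ψ := (T₁ ⊓ T₂).subtype.comp β.toMonoidHom
  have hψ : ψ ∈ F.Hom (T₁ ⊓ T₂) := autGroup_mem_hom F hT.1 hβ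
  obtain ⟨χ, hχ, hχe⟩ := (Cfsg.Agent.S5119.result p hd.pgroup F hd.sat E₁ hd.inv₁.1
    hd.inv₁.2.1).1 hd.inv₁ P (T₁ ⊓ T₂) hP inf_le_left φ hφ.1 hv ψ hψ
  obtain ⟨χ', hχ', hχ'e⟩ := (Cfsg.Agent.S5119.result p hd.pgroup F hd.sat E₂ hd.inv₂.1
    hd.inv₂.2.1).1 hd.inv₂ P (T₁ ⊓ T₂) hP inf_le_right φ hφ.2 hv ψ hψ
  refine ⟨χ, ⟨hχ, mem_hom_congr E₂ hχ' fun y => ?_⟩, fun x h => ?_⟩
  · obtain ⟨x, hx, hxy⟩ := y.2
    have hy : y = ⟨ψ (Subgroup.inclusion hP ⟨x, hx⟩), ⟨_, hx, rfl⟩⟩ := Subtype.ext hxy.symm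
    rw [hy]
    exact (hχe ⟨(x : Ω), hx⟩ _).trans (hχ'e ⟨(x : Ω), hx⟩ _).symm
  · have e : (⟨autExt β x, h⟩ : autImage β P) =
        ⟨ψ (Subgroup.inclusion hP x), ⟨_, x.2, rfl⟩⟩ := Subtype.ext (autExt_of_mem β (hP x.2))
    rw [e]
    exact (hχe x _).trans (autExt_of_mem β (hv x)).symm

theorem meet_invT (hd : Data p F E₁ E₂) : InvT F (meetSystem p F E₁ E₂) := by
  intro β hβ P φ hφ
  have hT := hd.sc
  have hP : P ≤ T₁ ⊓ T₂ := le_S (interSystem E₁ E₂) hφ.1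
  have hcand : ∀ E', ContainsNat p F E₁ E₂ E' →
      ContainsNat p F E₁ E₂ (transportSystem (interSystem E₁ E₂) E' β) := by
    intro E' hE' Q hQ α hα
    refine (mem_autGroup_iff_hom _ hQ.1).2
      ⟨autGroup_mem_hom _ hQ.1 (natGroup_le_inter hd hQ.1 hα), ?_⟩
    have hψ := restr_mem F hQ.1 (autGroup_mem_hom F hT.1 hβ)
    have hr : (restr hQ.1 ((T₁ ⊓ T₂).subtype.comp β.toMonoidHom)).range = autImage β Q :=
      range_restr hQ.1 _
    have hQ' : TCentric F (T₁ ⊓ T₂) (autImage β Q) :=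
      tCentric_of_isConj hT hQ ⟨_, hψ, hr⟩
    have h1 := hE' _ hQ' (natGroup_congr (toIso_isIso F hψ hr) hα)
    refine ⟨_, autGroup_mem_hom E' (autImage_le β Q) h1, fun x h => ?_⟩
    have hx : (⟨autExt β x, h⟩ : autImage β Q) = toIso F hψ hr x :=
      Subtype.ext (autExt_of_mem β (hQ.1 x.2))
    show ((MulAut.congr (toIso F hψ hr) α ⟨autExt β x, h⟩ : autImage β Q) : Ω) = autExt β (α x : Ω)
    rw [hx, autCongr_apply, MulEquiv.symm_apply_apply]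
    exact (autExt_of_mem β (hQ.1 (α x).2)).symm
  obtain ⟨χ, hχ, hχe⟩ := inter_invT hd β hβ P φ hφ.1
  refine ⟨χ, ⟨hχ, fun E' hE' => ?_⟩, hχe⟩
  obtain ⟨-, c, hc, hce⟩ := hφ.2 _ (hcand E' hE')
  refine mem_hom_congr E' hc fun y => ?_
  obtain ⟨x, hx, hxT, hxy⟩ := exists_autExt_eq β y
  have hy : y = ⟨autExt β (⟨x, hx⟩ : P), autExt_mem_autImage β hP hx⟩ := Subtype.ext hxy.symm
  rw [hy, hχe, hce]

/-- The Frattini decomposition from normal subgroups of the automizers with large preimage. -/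
theorem decomp_of_local {S T : Subgroup Ω} [Finite S] {F : FusionSystem S} {E : FusionSystem T}
    (hS : IsPGroup p S) (hF : F.IsSaturated p) (hT : F.StronglyClosed T) (hI : InvT F E)
    (hK : ∀ R, R < T → F.IsFullyNormalized R → ∃ K : Subgroup (MulAut R), K ≤ E.autGroup R ∧
      (K.subgroupOf (F.autGroup R)).Normal ∧ ∃ (t : Ω) (htN : t ∈ Subgroup.normalizer (R : Set Ω)),
        t ∈ T ∧ t ∉ R ∧ R.normalizerMonoidHom ⟨t, htN⟩ ∈ K)
    {P : Subgroup Ω} (hP : P ≤ T) : ∀ φ ∈ F.Hom P, Decomp F E P φ := by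
  haveI : Finite T := finite_of_le ‹_› hT.1
  refine downward_induction (S := T) (motive := fun P => ∀ φ ∈ F.Hom P, Decomp F E P φ) ?_ hP
  intro P hP ih φ hφ
  have hval : ∀ x, φ x ∈ T := fun x => sc_map_mem hT hφ (hP x.2)
  rcases hP.eq_or_lt with rfl | hlt
  · haveI : Finite P := ‹_›
    have hr : φ.range = P := range_eq_of_image_le (F.injective_of_mem hφ)
      (by rintro _ ⟨x, rfl⟩; exact hval x) le_rfl
    exact ⟨_, toIso_mem_autGroup F hφ hr, _, subtype_mem E le_rfl,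
      fun x => (autExt_of_mem (toIso F hφ hr) x.2).symm⟩
  obtain ⟨R, hPR, hR⟩ := exists_fullyNormalized F (hP.trans hT.1)
  obtain ⟨f₀, hf₀, hf₀r⟩ := hPR
  have hRT : R ≤ T := hf₀r ▸ (by rintro _ ⟨x, rfl⟩; exact sc_map_mem hT hf₀ (hP x.2))
  have hcR : Nat.card P = Nat.card R := isConj_card_eq ⟨f₀, hf₀, hf₀r⟩
  have key : ∀ Q, Q ≤ T → F.IsConj Q R → ∃ f : Q ≃* R, IsIso F f ∧ Decomp F E Q (fun x => (f x : Ω)) := by
    intro Q hQT hQ
    obtain ⟨ψ, hψ, -, hψm⟩ := exists_normalizer_map_fullyNormalized hS hF hR hQ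
    have hQlt : Q < T := lt_of_le_of_ne hQT fun h => by
      have h1 := card_lt_of_lt le_rfl hlt
      have h2 := isConj_card_eq hQ
      rw [h] at h2
      omega
    have hNS : normalizerIn T Q ≤ normalizerIn S Q := inf_le_inf_right _ hT.1
    have hle := le_normalizerIn (S := S) (hQT.trans hT.1)
    have hr : (restr hle ψ).range = R := by rw [range_restr, hψm]
    refine ⟨toIso F (restr_mem F hle hψ) hr, toIso_isIso F _ _, ?_⟩
    refine decomp_restrict (ih (normalizerIn T Q) (normalizerIn_le Q) ?_ _ (restr_mem F hNS hψ))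
      (le_normalizerIn hQT) fun x => rfl
    rw [hcR, ← isConj_card_eq hQ]
    exact card_lt_of_lt (normalizerIn_le Q) (lt_normalizerIn (hS.to_le hT.1) hQlt)
  have hQT : φ.range ≤ T := by rintro _ ⟨x, rfl⟩; exact hval x
  obtain ⟨f₁, hf₁, hd₁⟩ := key P hP ⟨f₀, hf₀, hf₀r⟩
  obtain ⟨f₂, hf₂, hd₂⟩ := key φ.range hQT
    (isConj_trans (isConj_symm ⟨φ, hφ, rfl⟩) ⟨f₀, hf₀, hf₀r⟩)
  set a : MulAut R := f₁.symm.trans ((toIso F hφ rfl).trans f₂) with hadef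
  have ha : a ∈ F.autGroup R :=
    (mem_autGroup F hR.1).2 (hf₁.symm.trans ((toIso_isIso F hφ rfl).trans hf₂))
  have hRlt : R < T := lt_of_le_of_ne hRT fun h => by
    have h1 := card_lt_of_lt le_rfl hlt
    rw [← h] at h1
    omega
  -- the automorphism of the fully normalized subgroup
  obtain ⟨K, hKE, hKn, t, htN, htT, htR, htK⟩ := hK R hRlt hR
  haveI := hKn
  obtain ⟨h, k, N, N', en, hRN, hak, hk, hen, -, hNn, hag, hext⟩ :=
    Cfsg.Agent.FusionAux.exists_frattini_extend hS hF hR (K.subgroupOf (F.autGroup R)) ⟨a, ha⟩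
  have htc : R.normalizerMonoidHom ⟨t, htN⟩ ∈ F.autGroup R :=
    autInducedBy_le_autGroup F hR.1 (mem_autInducedBy.2 ⟨t, hT.1 htT, fun _ => rfl⟩)
  have ht : t ∈ N := hext t ⟨hT.1 htT, htN⟩ ⟨⟨_, htc⟩, htK, fun _ => rfl⟩
  have hRY : R < N ⊓ T := lt_of_le_of_ne (le_inf hRN hRT) fun e => htR (e ▸ ⟨ht, htT⟩)
  have hdh : Decomp F E R (fun x => ((h : MulAut R) x : Ω)) := by
    refine decomp_restrict (ih (N ⊓ T) inf_le_right ?_ _
      (restr_mem F (inf_le_left : N ⊓ T ≤ N) hen)) hRY.le fun x => (hag x).symm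
    rw [hcR]
    exact card_lt_of_lt inf_le_right hRY
  have hdk : Decomp F E R (fun x => ((k : MulAut R) x : Ω)) :=
    ⟨1, one_mem _, _, autGroup_mem_hom E hRT (hKE hk),
      fun x => (autExt_of_mem (1 : MulAut T) (hRT ((k : MulAut R) x).2)).symm⟩
  have hda := decomp_comp hI hdk hdh fun x => ((k : MulAut R) x).2
  have h3 := decomp_comp hI hd₁ hda fun x => (f₁ x).2
  have h4 := decomp_comp hI h3 (decomp_symm hI f₂ hd₂) fun x => ((h : MulAut R) _).2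
  refine decomp_restrict h4 le_rfl fun x => ?_
  have hv : ((h : MulAut R) ((k : MulAut R) (f₁ x))) = a (f₁ x) :=
    (congrArg (fun m : F.autGroup R => (m : MulAut R) (f₁ x)) hak).symm
  have hw : a (f₁ x) = f₂ (toIso F hφ rfl x) := by
    show f₂ (toIso F hφ rfl (f₁.symm (f₁ x))) = _
    rw [MulEquiv.symm_apply_apply]
  show φ x = ((f₂.symm ⟨((h : MulAut R) ((k : MulAut R) (f₁ x)) : Ω), _⟩ : φ.range) : Ω)
  have e : (⟨((h : MulAut R) ((k : MulAut R) (f₁ x)) : Ω), ((h : MulAut R) _).2⟩ : R) =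
      f₂ (toIso F hφ rfl x) := Subtype.ext (congrArg Subtype.val (hv.trans hw))
  rw [e, MulEquiv.symm_apply_apply]
  rfl

/-- Invariance from transport and decomposition. -/
theorem invariant_of {S T : Subgroup Ω} {F : FusionSystem S} {E : FusionSystem T}
    (hsub : E.IsSubsystemOf F) (hT : F.StronglyClosed T) (hI : InvT F E)
    (hdec : ∀ P, P ≤ T → ∀ φ ∈ F.Hom P, Decomp F E P φ) : E.IsInvariantIn F := by
  refine ⟨hsub, hT, fun P hPT φ hφ α hα => ?_, fun P hP φ hφ => ?_⟩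
  · obtain ⟨χ, hχ, hχe⟩ := hI α hα P φ hφ
    refine ⟨χ, hχ, fun x hφx hαx => ?_⟩
    have e : (⟨_, hαx⟩ : autImage α P) = ⟨autExt α x, autExt_mem_autImage α hPT x.2⟩ :=
      Subtype.ext (autExt_of_mem α (hPT x.2)).symm
    rw [e, hχe, autExt_of_mem α hφx]
  · obtain ⟨α, hα, φ₀, hφ₀, he⟩ := hdec P hP φ hφ
    exact ⟨α, hα, φ₀, hφ₀, fun x hx => (he x).trans (autExt_of_mem α hx)⟩

/-- A fully normalized subgroup containing its `T`-centralizer is `T`-centric. -/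
theorem centralizer_le_of_conj {S T : Subgroup Ω} [Finite S] {F : FusionSystem S}
    (hS : IsPGroup p S) (hF : F.IsSaturated p) (hT : F.StronglyClosed T) {R : Subgroup Ω}
    (hR : F.IsFullyNormalized R) (hC : centralizerIn T R ≤ R) {R' : Subgroup Ω}
    (hR' : F.IsConj R R') : centralizerIn T R' ≤ R' := by
  obtain ⟨θ, hθ, -, hm⟩ := exists_normalizer_map_fullyNormalized hS hF hR (isConj_symm hR')
  have hc : Carries θ R' R := ⟨le_normalizerIn (isConj_le_right hR'), hm⟩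
  intro c hcC
  have hcN : c ∈ normalizerIn S R' :=
    centralizerIn_le_normalizerIn R' ⟨hT.1 hcC.1, hcC.2⟩
  refine (hc.mem_iff (F.injective_of_mem hθ) ⟨c, hcN⟩).1 (hC ⟨sc_map_mem hT hθ hcC.1,
    Subgroup.mem_centralizer_iff.2 fun r hr => ?_⟩)
  obtain ⟨x, hx, hxr⟩ := hc.exists_preimage hr
  rw [← hxr, ← map_mul, ← map_mul]
  exact congrArg θ (Subtype.ext (Subgroup.mem_centralizer_iff.1 hcC.2 _ hx))

/-- The local normal subgroups of the meet in a system in which it is to be invariant. -/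
theorem local_groups (hd : Data p F E₁ E₂) {S' : Subgroup Ω} {F' : FusionSystem S'}
    (hF' : F'.IsSubsystemOf F) (hTS' : T₁ ⊓ T₂ ≤ S')
    (hcent : ∀ R, R ≤ T₁ ⊓ T₂ → F'.IsFullyNormalized R → centralizerIn (T₁ ⊓ T₂) R ≤ R →
      TCentric F (T₁ ⊓ T₂) R) :
    ∀ R, R < T₁ ⊓ T₂ → F'.IsFullyNormalized R → ∃ K : Subgroup (MulAut R),
      K ≤ (meetSystem p F E₁ E₂).autGroup R ∧ (K.subgroupOf (F'.autGroup R)).Normal ∧
      ∃ (t : Ω) (htN : t ∈ Subgroup.normalizer (R : Set Ω)), t ∈ T₁ ⊓ T₂ ∧ t ∉ R ∧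
        R.normalizerMonoidHom ⟨t, htN⟩ ∈ K := by
  intro R hR hRn
  by_cases hC : centralizerIn (T₁ ⊓ T₂) R ≤ R
  · have hRc := hcent R hR.le hRn hC
    have := hd.finite
    obtain ⟨t, htT, htN, htR⟩ := exists_normalizer_mem_not_mem (hd.pgroup.to_le hd.sc.1) hR
    refine ⟨natGroup p F E₁ E₂ R, meet_contains hd R hRc, ⟨fun n hn g => ?_⟩, t, htN, htT, htR,
      autT_le_natGroup hd hR.le (mem_autInducedBy.2 ⟨t, htT, fun _ => rfl⟩)⟩
    refine natGroup_conj hd hR.le ?_ hn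
    exact (mem_autGroup_iff_hom F (hR.le.trans hd.sc.1)).2
      (hF' R (autGroup_mem_hom F' (hR.le.trans hTS') g.2))
  · obtain ⟨t, ht, htR⟩ := SetLike.not_le_iff_exists.1 hC
    refine ⟨⊥, bot_le, ⟨fun n hn g => ?_⟩, t, (centralizerIn_le_normalizerIn R ht).2, ht.1, htR, ?_⟩
    · rw [Subgroup.mem_subgroupOf] at hn ⊢
      rw [Subgroup.mem_bot] at hn ⊢
      simp [hn]
    · refine Subgroup.mem_bot.2 (MulEquiv.ext fun x => Subtype.ext ?_)
      show t * (x : Ω) * t⁻¹ = x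
      rw [← Subgroup.mem_centralizer_iff.1 ht.2 _ x.2, mul_inv_cancel_right]

theorem meet_invariant (hd : Data p F E₁ E₂) : (meetSystem p F E₁ E₂).IsInvariantIn F :=
  invariant_of (meet_sub hd) hd.sc (meet_invT hd) fun _ hP =>
    decomp_of_local hd.pgroup hd.sat hd.sc (meet_invT hd)
      (local_groups hd (fun _ _ h => h) hd.sc.1 fun _ hR hRn hC =>
        ⟨hR, fun _ hR' => centralizer_le_of_conj hd.pgroup hd.sat hd.sc hRn hC hR'⟩) hP

/-- The meet is invariant in each of the two subsystems. -/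
theorem meet_invariant_sub (hd : Data p F E₁ E₂) {T' : Subgroup Ω} {E : FusionSystem T'}
    (hE : E.IsInvariantIn F) (hEs : E.IsSaturated p) (hTT' : T₁ ⊓ T₂ ≤ T')
    (hsub : (meetSystem p F E₁ E₂).IsSubsystemOf E) :
    (meetSystem p F E₁ E₂).IsInvariantIn E := by
  have hT := hd.sc
  have : Finite T' := finite_of_le ‹_› hE.2.1.1
  have hEp := hd.pgroup.to_le hE.2.1.1
  have hTE : E.StronglyClosed (T₁ ⊓ T₂) :=
    ⟨hTT', fun R hR φ hφ x => sc_map_mem hT (hE.1 R hφ) (hR x.2)⟩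
  have hI : InvT E (meetSystem p F E₁ E₂) := fun β hβ =>
    meet_invT hd β ((mem_autGroup_iff_hom F hT.1).2 (hE.1 _ (autGroup_mem_hom E hTT' hβ)))
  refine invariant_of hsub hTE hI fun P hP =>
    decomp_of_local hEp hEs hTE hI (local_groups hd hE.1 hTT' fun R hR hRn hC => ⟨hR, ?_⟩) hP
  rintro _ ⟨φ, hφ, rfl⟩ c hc
  obtain ⟨α, hα, e, he, hφe⟩ := hE.2.2.2 R (hR.trans hTT') φ hφ
  have hα' := autGroup_mem_hom F hE.2.1.1 ((F.autGroup T').inv_mem hα)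
  have hcR : ((α.symm ⟨c, hTT' hc.1⟩ : T') : Ω) ∈ centralizerIn (T₁ ⊓ T₂) e.range := by
    refine ⟨sc_map_mem hT hα' (x := ⟨c, hTT' hc.1⟩) hc.1, Subgroup.mem_centralizer_iff.2 ?_⟩
    rintro _ ⟨z, rfl⟩
    have h1 : α ⟨e z, map_mem_S E he z⟩ * ⟨c, hTT' hc.1⟩ =
        ⟨c, hTT' hc.1⟩ * α ⟨e z, map_mem_S E he z⟩ := by
      refine Subtype.ext ?_
      show _ * c = c * _
      rw [← hφe]
      exact Subgroup.mem_centralizer_iff.1 hc.2 _ ⟨z, rfl⟩
    have h2 := congrArg (fun s => ((α.symm s : T') : Ω)) h1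
    simpa using h2
  obtain ⟨z, hz⟩ := centralizer_le_of_conj hEp hEs hTE hRn hC ⟨e, he, rfl⟩ hcR
  refine ⟨z, ?_⟩
  have h : (⟨e z, map_mem_S E he z⟩ : T') = α.symm ⟨c, hTT' hc.1⟩ := Subtype.ext hz
  rw [hφe z (map_mem_S E he z), h, MulEquiv.apply_symm_apply]

/-- A subgroup with largest normalizer in `T` in every class of the meet. -/
theorem exists_meet_tfn (hd : Data p F E₁ E₂) {R : Subgroup Ω} (hR : R ≤ T₁ ⊓ T₂) :
    ∃ R₀, (meetSystem p F E₁ E₂).IsConj R R₀ ∧ TFN F (T₁ ⊓ T₂) R₀ := by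
  have hT := hd.sc
  have hTS := hT.1
  have : Finite ↥(T₁ ⊓ T₂) := hd.finite
  set U := meetSystem p F E₁ E₂
  obtain ⟨P, hRP, hP⟩ := exists_fullyNormalized F (hR.trans hTS)
  obtain ⟨χ, hχ, -, hχm⟩ := exists_normalizer_map_fullyNormalized hd.pgroup hd.sat hP hRP
  have hle : normalizerIn (T₁ ⊓ T₂) R ≤ normalizerIn S R := inf_le_inf_right _ hTS
  obtain ⟨δ, hδ, e₀, he₀, hχe⟩ := (meet_invariant hd).2.2.2 _ (normalizerIn_le R) _
    (restr_mem F hle hχ)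
  have hRN : R ≤ normalizerIn (T₁ ⊓ T₂) R := le_normalizerIn hR
  refine ⟨(restr hRN e₀).range, ⟨_, restr_mem U hRN he₀, rfl⟩, ?_⟩
  have hc : Carries (restr hle χ) R P :=
    Carries.restrict ⟨le_normalizerIn (hR.trans hTS), hχm⟩ hRN hle
  have hPT : P ≤ T₁ ⊓ T₂ := by
    intro y hy
    obtain ⟨x, hx, rfl⟩ := hc.exists_preimage hy
    exact sc_map_mem hT (restr_mem F hle hχ) (hR hx)
  set R₀ := (restr hRN e₀).range
  have hR₀T : R₀ ≤ T₁ ⊓ T₂ := range_le_S _ (restr_mem U hRN he₀)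
  refine ⟨hR₀T, fun Q hQ => ?_⟩
  have hval : ∀ (x : Ω) (hx : x ∈ normalizerIn (T₁ ⊓ T₂) R),
      restr hle χ ⟨x, hx⟩ = (δ ⟨e₀ ⟨x, hx⟩, map_mem_S U he₀ _⟩ : ↥(T₁ ⊓ T₂)) := fun x hx =>
    hχe ⟨x, hx⟩ (map_mem_S U he₀ _)
  have hδc : Carries ((T₁ ⊓ T₂).subtype.comp δ⁻¹.toMonoidHom) P R₀ := by
    refine ⟨hPT, ?_⟩
    ext y
    rw [mem_map_subgroupOf]
    constructor
    · rintro ⟨z, hz, rfl⟩
      obtain ⟨x, hx, hxz⟩ := hc.exists_preimage hz
      refine ⟨⟨x, hx⟩, ?_⟩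
      have e1 : z = δ ⟨e₀ x, map_mem_S U he₀ _⟩ :=
        Subtype.ext (hxz.symm.trans (hval x x.2))
      show e₀ _ = ((δ.symm z : ↥(T₁ ⊓ T₂)) : Ω)
      rw [e1, MulEquiv.symm_apply_apply]
      rfl
    · rintro ⟨x, rfl⟩
      refine ⟨δ ⟨e₀ (Subgroup.inclusion hRN x), map_mem_S U he₀ _⟩, ?_, ?_⟩
      · exact (hval x (hRN x.2)) ▸ hc.apply_mem (x := Subgroup.inclusion hRN x) x.2
      · show ((δ.symm (δ _) : ↥(T₁ ⊓ T₂)) : Ω) = _
        rw [MulEquiv.symm_apply_apply]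
        rfl
  refine ((tfn_of_fullyNormalized hd.pgroup hd.sat hT hP hPT).2 Q ?_).trans
    (card_normalizerT_le hT (autGroup_mem_hom F hTS ((F.autGroup _).inv_mem hδ)) hδc
      (normalizerIn_le P))
  refine isConj_trans (isConj_symm hRP) (isConj_trans ?_ hQ)
  exact ⟨_, meet_sub hd R (restr_mem U hRN he₀), rfl⟩

end Cfsg.Agent.Tech.Meet
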